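import Cfsg.Prelude.Def_OddOrderChar
import Cfsg.Agent.Lib.Characters.Generalized

set_option autoImplicit false

/-! Integer spans and linear isometries on them. -/

namespace CfsgLib.OddChar

open CfsgLib.Characters

variable {L : Type*} [Group L] {G : Type*} [Group G]

theorem zspan_of_mem {S : Set (L → ℂ)} {χ : L → ℂ} (h : χ ∈ S) : χ ∈ Cfsg.zspan S :=
  Submodule.subset_span h

theorem zspan_mono {S T : Set (L → ℂ)} (h : S ⊆ T) : Cfsg.zspan S ⊆ Cfsg.zspan T :=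
  Submodule.span_mono h

theorem zspan_add {S : Set (L → ℂ)} {α β : L → ℂ} (ha : α ∈ Cfsg.zspan S) (hb : β ∈ Cfsg.zspan S) :
    α + β ∈ Cfsg.zspan S := Submodule.add_mem _ ha hb

theorem zspan_sub {S : Set (L → ℂ)} {α β : L → ℂ} (ha : α ∈ Cfsg.zspan S) (hb : β ∈ Cfsg.zspan S) :
    α - β ∈ Cfsg.zspan S := Submodule.sub_mem _ ha hb

theorem zspan_zero {S : Set (L → ℂ)} : (0 : L → ℂ) ∈ Cfsg.zspan S := Submodule.zero_mem _

theorem zspan_zsmul {S : Set (L → ℂ)} {α : L → ℂ} (n : ℤ) (ha : α ∈ Cfsg.zspan S) :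
    n • α ∈ Cfsg.zspan S := Submodule.smul_mem _ n ha

theorem zspan_sum {S : Set (L → ℂ)} {ι : Type*} (s : Finset ι) {f : ι → L → ℂ}
    (h : ∀ i ∈ s, f i ∈ Cfsg.zspan S) : ∑ i ∈ s, f i ∈ Cfsg.zspan S := Submodule.sum_mem _ h

theorem zspanOn_compl_one {S : Set (L → ℂ)} {α : L → ℂ} :
    α ∈ Cfsg.zspanOn S {1}ᶜ ↔ α ∈ Cfsg.zspan S ∧ α 1 = 0 :=
  ⟨fun h => ⟨h.1, h.2 1 (by simp)⟩, fun h => ⟨h.1, fun x hx => by
    have : x = 1 := by simpa using hx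
    rw [this]; exact h.2⟩⟩

theorem zsmul_eq_smul (n : ℤ) (α : L → ℂ) : n • α = (n : ℂ) • α := by
  funext x; simp

theorem zspanOn_add {S : Set (L → ℂ)} {A : Set L} {α β : L → ℂ} (ha : α ∈ Cfsg.zspanOn S A)
    (hb : β ∈ Cfsg.zspanOn S A) : α + β ∈ Cfsg.zspanOn S A :=
  ⟨zspan_add ha.1 hb.1, fun x hx => by simp [ha.2 x hx, hb.2 x hx]⟩

theorem zspanOn_zsmul {S : Set (L → ℂ)} {A : Set L} {α : L → ℂ} (n : ℤ)
    (ha : α ∈ Cfsg.zspanOn S A) : n • α ∈ Cfsg.zspanOn S A :=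
  ⟨zspan_zsmul n ha.1, fun x hx => by simp [ha.2 x hx]⟩

theorem zspanOn_sub {S : Set (L → ℂ)} {A : Set L} {α β : L → ℂ} (ha : α ∈ Cfsg.zspanOn S A)
    (hb : β ∈ Cfsg.zspanOn S A) : α - β ∈ Cfsg.zspanOn S A :=
  ⟨zspan_sub ha.1 hb.1, fun x hx => by simp [ha.2 x hx, hb.2 x hx]⟩

theorem zspanOn_zero {S : Set (L → ℂ)} {A : Set L} : (0 : L → ℂ) ∈ Cfsg.zspanOn S A :=
  ⟨zspan_zero, fun _ _ => rfl⟩

theorem zspanOn_mono {S T : Set (L → ℂ)} (h : S ⊆ T) (A : Set L) :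
    Cfsg.zspanOn S A ⊆ Cfsg.zspanOn T A :=
  fun _ hα => ⟨zspan_mono h hα.1, hα.2⟩

variable [Fintype L] [Fintype G] {E : Set (L → ℂ)} {τ : (L → ℂ) → (G → ℂ)}

theorem isometry_sub (h : Cfsg.IsLinearIsometryOn E τ) {α β : L → ℂ} (ha : α ∈ E) (hb : β ∈ E)
    (hs : α - β ∈ E) : τ (α - β) = τ α - τ β := by
  have := h.1 (α - β) hs β hb
  rw [sub_add_cancel] at this
  rw [this, add_sub_cancel_right]

theorem isometry_zero (h : Cfsg.IsLinearIsometryOn E τ) (h0 : (0 : L → ℂ) ∈ E) : τ 0 = 0 := by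
  have := h.2.1 0 h0 0
  simpa using this

theorem isometry_sum (h : Cfsg.IsLinearIsometryOn E τ) (h0 : (0 : L → ℂ) ∈ E)
    (hadd : ∀ α ∈ E, ∀ β ∈ E, α + β ∈ E) {ι : Type*} (s : Finset ι) {f : ι → L → ℂ}
    (hf : ∀ i ∈ s, f i ∈ E) : τ (∑ i ∈ s, f i) = ∑ i ∈ s, τ (f i) := by
  classical
  induction s using Finset.induction with
  | empty => simpa using isometry_zero h h0
  | insert a t ha ih =>
    rw [Finset.sum_insert ha, Finset.sum_insert ha]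
    have ht : ∑ i ∈ t, f i ∈ E :=
      Finset.sum_induction f (· ∈ E) (fun a b => fun x y => hadd a x b y) h0
        (fun i hi => hf i (Finset.mem_insert_of_mem hi))
    rw [h.1 _ (hf a (Finset.mem_insert_self a t)) _ ht,
      ih (fun i hi => hf i (Finset.mem_insert_of_mem hi))]

theorem classInner_zsmul_left (n : ℤ) (a c : G → ℂ) :
    Cfsg.classInner (n • a) c = n * Cfsg.classInner a c := by
  rw [zsmul_eq_smul, classInner_smul_left]

theorem classInner_zsmul_right (n : ℤ) (a c : G → ℂ) :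
    Cfsg.classInner a (n • c) = n * Cfsg.classInner a c := by
  rw [zsmul_eq_smul, classInner_smul_right, map_intCast]

end CfsgLib.OddChar
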