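import Mathlib
import Cfsg.Prelude.Def_OddOrderChar
import Cfsg.Agent.Lib.Characters.Generalized
import Cfsg.Agent.Lib.OddChar.Isometry

set_option autoImplicit false

/-! Orthogonal projection for the class inner product, and finiteness of orthogonal sets. -/

namespace CfsgLib.OddChar

open scoped Classical ComplexConjugate
open Finset CfsgLib.Characters

variable {X : Type*} [Group X] [Fintype X]

theorem classInner_self_real (f : X → ℂ) :
    Cfsg.classInner f f = (((Nat.card X : ℝ)⁻¹ * ∑ x, Complex.normSq (f x) : ℝ) : ℂ) := by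
  simp [Cfsg.classInner, Complex.mul_conj]

theorem classInner_self_re_nonneg (f : X → ℂ) : 0 ≤ (Cfsg.classInner f f).re := by
  rw [classInner_self_real, Complex.ofReal_re]
  exact mul_nonneg (by positivity) (Finset.sum_nonneg fun x _ => Complex.normSq_nonneg _)

theorem eq_zero_of_classInner_self {f : X → ℂ} (h : Cfsg.classInner f f = 0) : f = 0 := by
  rw [classInner_self_real, Complex.ofReal_eq_zero, mul_eq_zero] at h
  have := h.resolve_left (inv_ne_zero (Nat.cast_ne_zero.mpr Nat.card_pos.ne'))
  rw [Finset.sum_eq_zero_iff_of_nonneg fun x _ => Complex.normSq_nonneg _] at this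
  funext x
  exact Complex.normSq_eq_zero.mp (this x (mem_univ x))

theorem classInner_self_re_pos {f : X → ℂ} (h : f ≠ 0) : 0 < (Cfsg.classInner f f).re := by
  refine lt_of_le_of_ne (classInner_self_re_nonneg f) fun e => h (eq_zero_of_classInner_self ?_)
  rw [classInner_self_real]
  rw [classInner_self_real, Complex.ofReal_re] at e
  rw [← e, Complex.ofReal_zero]

theorem conj_classInner_self (f : X → ℂ) : conj (Cfsg.classInner f f) = Cfsg.classInner f f := by
  rw [← classInner_conj_symm]

theorem char_norm_nat {χ : X → ℂ} (h : Cfsg.IsCharacter X χ) :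
    ∃ n : ℕ, Cfsg.classInner χ χ = n ∧ (χ ≠ 0 → 0 < n) := by
  obtain ⟨n, hn⟩ := classInner_char_nat h h
  refine ⟨n, hn, fun h0 => ?_⟩
  have := classInner_self_re_pos h0
  rw [hn, Complex.natCast_re] at this
  exact_mod_cast this

/-- projection on an orthogonal family -/
noncomputable def orthProj (s : Finset (X → ℂ)) (f : X → ℂ) : X → ℂ :=
  ∑ α ∈ s, (Cfsg.classInner f α / Cfsg.classInner α α) • α

theorem classInner_orthProj {s : Finset (X → ℂ)}
    (horth : ∀ α ∈ s, ∀ β ∈ s, α ≠ β → Cfsg.classInner α β = 0)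
    (hne : ∀ α ∈ s, Cfsg.classInner α α ≠ 0) (f : X → ℂ) {β : X → ℂ} (hβ : β ∈ s) :
    Cfsg.classInner (orthProj s f) β = Cfsg.classInner f β := by
  rw [orthProj, classInner_sum_left, Finset.sum_eq_single β]
  · rw [classInner_smul_left, div_mul_cancel₀ _ (hne β hβ)]
  · intro α hα hαβ
    rw [classInner_smul_left, horth α hα β hβ hαβ, mul_zero]
  · exact fun h => absurd hβ h

theorem orthProj_pythagoras {s : Finset (X → ℂ)}
    (horth : ∀ α ∈ s, ∀ β ∈ s, α ≠ β → Cfsg.classInner α β = 0)
    (hne : ∀ α ∈ s, Cfsg.classInner α α ≠ 0) (f : X → ℂ) :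
    Cfsg.classInner (f - orthProj s f) (f - orthProj s f) =
      Cfsg.classInner f f -
        ∑ α ∈ s, Cfsg.classInner f α * conj (Cfsg.classInner f α) / Cfsg.classInner α α := by
  have h0 : Cfsg.classInner (f - orthProj s f) (orthProj s f) = 0 := by
    conv_lhs => rw [orthProj, classInner_sum_right]
    refine Finset.sum_eq_zero fun α hα => ?_
    rw [← orthProj, classInner_smul_right, classInner_sub_left, classInner_orthProj horth hne f hα,
      sub_self, mul_zero]
  rw [classInner_sub_right, h0, sub_zero, classInner_sub_left]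
  congr 1
  rw [orthProj, classInner_sum_left]
  refine Finset.sum_congr rfl fun α _ => ?_
  rw [classInner_smul_left, classInner_conj_symm f α]
  ring

/-- the equality case: `f` lies in the span -/
theorem eq_orthProj {s : Finset (X → ℂ)}
    (horth : ∀ α ∈ s, ∀ β ∈ s, α ≠ β → Cfsg.classInner α β = 0)
    (hne : ∀ α ∈ s, Cfsg.classInner α α ≠ 0) {f : X → ℂ}
    (h : Cfsg.classInner f f =
      ∑ α ∈ s, Cfsg.classInner f α * conj (Cfsg.classInner f α) / Cfsg.classInner α α) :
    f = orthProj s f := by
  refine sub_eq_zero.mp (eq_zero_of_classInner_self ?_)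
  rw [orthProj_pythagoras horth hne, h, sub_self]

theorem orth_linearIndependent {S : Set (X → ℂ)} (h0 : ∀ χ ∈ S, χ ≠ 0)
    (horth : ∀ χ ∈ S, ∀ φ ∈ S, χ ≠ φ → Cfsg.classInner χ φ = 0) :
    LinearIndependent ℂ (fun χ : S => (χ : X → ℂ)) := by
  rw [linearIndependent_iff']
  intro t c hc q hq
  have h := congrArg (Cfsg.classInner · (q : X → ℂ)) hc
  simp only [classInner_zero_left] at h
  rw [classInner_sum_left, Finset.sum_eq_single q, classInner_smul_left] at h
  · exact (mul_eq_zero.mp h).resolve_right fun e => h0 q q.2 (eq_zero_of_classInner_self e)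
  · intro p _ hp
    rw [classInner_smul_left, horth p p.2 q q.2 (fun e => hp (Subtype.ext e)), mul_zero]
  · exact fun hh => absurd hq hh

theorem orth_finite {S : Set (X → ℂ)} (h0 : ∀ χ ∈ S, χ ≠ 0)
    (horth : ∀ χ ∈ S, ∀ φ ∈ S, χ ≠ φ → Cfsg.classInner χ φ = 0) : S.Finite := by
  have := (orth_linearIndependent h0 horth).finite
  exact Set.toFinite S

end CfsgLib.OddChar
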