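import Mathlib

set_option autoImplicit false

/-! A coset `K x` with `K` normal and the order of `x` coprime to the order of `K` consists of the
`K`-conjugates of `C_K(x) x`. -/

namespace CfsgLib.OddChar

variable {M : Type*} [Group M]

theorem exists_pow_eq_coprime [Finite M] {c x : M} (hcx : Commute c x)
    (h : Nat.Coprime (orderOf x) (orderOf c)) : ∃ n : ℕ, (c * x) ^ n = x := by
  obtain ⟨n, h1, h2⟩ := Nat.chineseRemainder h 1 0
  exact ⟨n, by rw [hcx.mul_pow, pow_eq_pow_iff_modEq.mpr h2, pow_zero, one_mul,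
    pow_eq_pow_iff_modEq.mpr h1, pow_one]⟩

theorem coset_conj_centralizer [Finite M] (K : Subgroup M) [hK : K.Normal] (x : M)
    (hx : Nat.Coprime (orderOf x) (Nat.card K)) {y : M} (hy : y * x⁻¹ ∈ K) :
    ∃ k ∈ K, ∃ c ∈ K, Commute c x ∧ y = k * (c * x) * k⁻¹ := by
  classical
  let C : Subgroup K := (Subgroup.centralizer ({x} : Set M)).subgroupOf K
  have hmem : ∀ c : C, Commute ((c : K) : M) x := fun c =>
    Subgroup.mem_centralizer_singleton_iff.mp (Subgroup.mem_subgroupOf.mp c.2)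
  have hcop : ∀ c : K, Nat.Coprime (orderOf x) (orderOf (c : M)) := fun c =>
    hx.coprime_dvd_right (Subgroup.orderOf_dvd_natCard _ c.2)
  let f : (K ⧸ C) × C → K := fun p =>
    ⟨(p.1.out : M) * (p.2 : M) * (x * ((p.1.out : M))⁻¹ * x⁻¹),
      K.mul_mem (K.mul_mem p.1.out.2 (p.2 : K).2) (hK.conj_mem _ (K.inv_mem p.1.out.2) x)⟩
  have hf : Function.Injective f := by
    rintro ⟨q, c⟩ ⟨r, d⟩ e
    have e' : (q.out : M) * (c : M) * (x * (q.out : M)⁻¹ * x⁻¹) =
        (r.out : M) * (d : M) * (x * (r.out : M)⁻¹ * x⁻¹) := congrArg Subtype.val e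
    set a : K := r.out⁻¹ * q.out with ha
    have e1 : (a : M) * ((c : M) * x) * (a : M)⁻¹ = (d : M) * x := by
      simp only [ha, Subgroup.coe_mul, Subgroup.coe_inv]
      calc _ = (r.out : M)⁻¹ * ((q.out : M) * (c : M) * (x * (q.out : M)⁻¹ * x⁻¹)) * x *
            (r.out : M) := by group
        _ = _ := by rw [e']; group
    obtain ⟨n, h1, h2⟩ := Nat.chineseRemainder
      (Nat.Coprime.mul_right (hcop (c : K)) (hcop (d : K))) 1 0
    have hp : ∀ {c : M}, Commute c x → n ≡ 0 [MOD orderOf c] →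
        (c * x) ^ n = x := fun hcx h0 => by
      rw [hcx.mul_pow, pow_eq_pow_iff_modEq.mpr h0, pow_zero, one_mul,
        pow_eq_pow_iff_modEq.mpr h1, pow_one]
    have hax : (a : M) * x * (a : M)⁻¹ = x := by
      conv_rhs => rw [← hp (hmem d) (h2.of_dvd (dvd_mul_left _ _)), ← e1, conj_pow,
        hp (hmem c) (h2.of_dvd (dvd_mul_right _ _))]
    have haC : a ∈ C := Subgroup.mem_subgroupOf.mpr
      (Subgroup.mem_centralizer_singleton_iff.mpr (mul_inv_eq_iff_eq_mul.mp hax))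
    have hqr : q = r := by
      rw [← q.out_eq', ← r.out_eq', eq_comm, QuotientGroup.eq]
      exact haC
    subst hqr
    exact Prod.ext rfl (Subtype.ext (Subtype.ext (mul_left_cancel (mul_right_cancel e'))))
  have hsurj : Function.Surjective f :=
    ((Nat.bijective_iff_injective_and_card f).mpr ⟨hf, by
      rw [Nat.card_prod, ← Subgroup.card_eq_card_quotient_mul_card_subgroup]⟩).2
  obtain ⟨⟨q, c⟩, hqc⟩ := hsurj ⟨y * x⁻¹, hy⟩
  refine ⟨q.out, q.out.2, (c : K), (c : K).2, hmem c, ?_⟩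
  have e' : (q.out : M) * (c : M) * (x * (q.out : M)⁻¹ * x⁻¹) = y * x⁻¹ := congrArg Subtype.val hqc
  calc y = y * x⁻¹ * x := by group
    _ = _ := by rw [← e']; group

theorem centralizing_coset_meets [Finite M] (K : Subgroup M) [hK : K.Normal] (x : M)
    (hx : Nat.Coprime (orderOf x) (Nat.card K)) {y h : M} (hy : y * x⁻¹ ∈ K) (hh : h ∈ K)
    (hyh : Commute y h) : ∃ k ∈ K, Commute x (k⁻¹ * h * k) := by
  obtain ⟨k, hk, c, hc, hcx, rfl⟩ := coset_conj_centralizer K x hx hy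
  refine ⟨k, hk, ?_⟩
  have h1 : Commute (c * x) (k⁻¹ * h * k) := by
    show c * x * (k⁻¹ * h * k) = k⁻¹ * h * k * (c * x)
    calc c * x * (k⁻¹ * h * k) = k⁻¹ * (k * (c * x) * k⁻¹ * h) * k := by group
      _ = _ := by rw [hyh.eq]; group
  obtain ⟨n, hn⟩ := exists_pow_eq_coprime hcx
    (hx.coprime_dvd_right (Subgroup.orderOf_dvd_natCard _ hc))
  rw [← hn]
  exact h1.pow_left n

end CfsgLib.OddChar
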