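import Cfsg.Agent.Lib.OddChar.FrobeniusQuot
import Cfsg.Agent.Lib.Frobenius.Basic
import Cfsg.Agent.Lib.Frobenius.FPFThompson
import Cfsg.Agent.Lib.Structure.NilpotentMaximal
import Cfsg.Agent.Lib.OddOrder.PuigSeries
import Cfsg.Prelude.Def_Transfer

set_option autoImplicit false
set_option linter.style.haveILetI false
set_option linter.unusedSectionVars false

/-! A normal subgroup containing the centralisers of its non-identity elements. -/

namespace CfsgLib.OddChar

open scoped Classical commutatorElement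
open Finset

section Kernel

variable {N : Type*} [Group N] [Finite N] {H : Subgroup N} [H.Normal]

/-- every normal subgroup inside the kernel has order `1` modulo the index -/
theorem kernel_dvd_card_sub_one (hC : ∀ h ∈ H, h ≠ 1 → Subgroup.centralizer ({h} : Set N) ≤ H)
    (M : Subgroup N) [M.Normal] (hM : M ≤ H) : H.index ∣ Nat.card M - 1 := by
  haveI := Fintype.ofFinite N
  set S := univ.filter (fun n : N => n ∈ M ∧ n ≠ 1) with hS
  have hcard : S.card = Nat.card M - 1 := by
    have : S = (univ.filter (fun n : N => n ∈ M)).erase 1 := by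
      ext x; simp [hS, and_comm]
    rw [this, Finset.card_erase_of_mem (by simp [M.one_mem]), Nat.card_eq_fintype_card,
      Fintype.card_subtype]
  rw [← hcard, Finset.card_eq_sum_card_image ConjClasses.mk S]
  refine Finset.dvd_sum fun c hc => ?_
  obtain ⟨n, hn, rfl⟩ := Finset.mem_image.mp hc
  obtain ⟨hnM, hn1⟩ := (mem_filter.mp hn).2
  have : S.filter (fun y => ConjClasses.mk y = ConjClasses.mk n) = univ.filter (fun y => IsConj n y) := by
    ext y
    simp only [hS, mem_filter, mem_univ, true_and, ConjClasses.mk_eq_mk_iff_isConj]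
    refine ⟨fun h => h.2.symm, fun h => ?_⟩
    obtain ⟨g, rfl⟩ := isConj_iff.mp h
    exact ⟨⟨Subgroup.Normal.conj_mem inferInstance n hnM g, by simpa using hn1⟩, h.symm⟩
  rw [this, ← Fintype.card_subtype, ← Nat.card_eq_fintype_card, card_conj_eq_index]
  exact Subgroup.index_dvd_of_le (hC n (hM hnM) hn1)

theorem kernel_dvd_relIndex_sub_one
    (hC : ∀ h ∈ H, h ≠ 1 → Subgroup.centralizer ({h} : Set N) ≤ H) (B A : Subgroup N) [B.Normal]
    [A.Normal] (hBA : B ≤ A) (hAH : A ≤ H) : H.index ∣ B.relIndex A - 1 := by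
  have h1 := kernel_dvd_card_sub_one hC A hAH
  have h2 := kernel_dvd_card_sub_one hC B (hBA.trans hAH)
  have hr := relIndex_mul_card' B A hBA
  have hA : 1 ≤ Nat.card A := Nat.card_pos
  have hB : 1 ≤ Nat.card B := Nat.card_pos
  have hR : 1 ≤ B.relIndex A := Nat.one_le_iff_ne_zero.mpr (Subgroup.index_ne_zero_of_finite (H := B.subgroupOf A))
  rw [← Int.natCast_dvd_natCast] at h1 h2 ⊢
  push_cast [hA, hB, hR] at h1 h2 ⊢
  rw [← hr] at h1
  push_cast at h1
  have := h1.sub (h2.mul_left (B.relIndex A : ℤ))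
  rwa [mul_sub, sub_sub_sub_cancel_left, mul_one] at this
where
  relIndex_mul_card' (B A : Subgroup N) (hBA : B ≤ A) : B.relIndex A * Nat.card B = Nat.card A := by
    have := (B.subgroupOf A).card_mul_index
    rw [Nat.card_congr (Subgroup.subgroupOfEquivOfLe hBA).toEquiv] at this
    rwa [mul_comm]

theorem index_succ_le_relIndex
    (hC : ∀ h ∈ H, h ≠ 1 → Subgroup.centralizer ({h} : Set N) ≤ H) (B A : Subgroup N) [B.Normal]
    [A.Normal] (hBA : B < A) (hAH : A ≤ H) : H.index + 1 ≤ B.relIndex A := by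
  have h0 : B.relIndex A ≠ 0 := Subgroup.index_ne_zero_of_finite (H := B.subgroupOf A)
  have h1 : B.relIndex A ≠ 1 := fun e => hBA.not_ge (Subgroup.relIndex_eq_one.mp e)
  have := Nat.le_of_dvd (by omega) (kernel_dvd_relIndex_sub_one hC B A hBA.le hAH)
  omega

theorem kernel_isNilpotent (hC : ∀ h ∈ H, h ≠ 1 → Subgroup.centralizer ({h} : Set N) ≤ H)
    (hH : H ≠ ⊤) : Group.IsNilpotent H := by
  obtain ⟨q, hq, hqe⟩ := Nat.exists_prime_and_dvd (fun e => hH (Subgroup.index_eq_one.mp e))
  haveI := Fact.mk hq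
  obtain ⟨x, hx⟩ := exists_prime_orderOf_dvd_card' (G := N) q (hqe.trans (Subgroup.index_dvd_card H))
  refine CfsgLib.Frobenius.Thompson.isNilpotent_of_element H (h := x) (p := q) ?_ hq
    (hx ▸ pow_orderOf_eq_one x) fun k hk e => ?_
  · rw [Subgroup.normalizer_eq_top]; exact Subgroup.mem_top x
  · by_contra hk1
    have hxH := hC k hk hk1 (Subgroup.mem_centralizer_singleton_iff.mpr e)
    exact hq.coprime_iff_not_dvd.mp
      ((CfsgLib.Frobenius.coprime_card_index_of_centralizer_le H hC).coprime_dvd_left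
        (hx ▸ H.orderOf_dvd_natCard hxH)) hqe

/-- the smallest kernel: one orbit of non-identity elements -/
theorem kernel_small (hC : ∀ h ∈ H, h ≠ 1 → Subgroup.centralizer ({h} : Set N) ≤ H)
    (he : Nat.card H = H.index + 1) :
    IsMulCommutative H ∧ ∃ p : ℕ, p.Prime ∧ ∀ h ∈ H, h ^ p = 1 := by
  haveI := Fintype.ofFinite N
  set S := (univ.filter (fun n : N => n ∈ H)).erase 1 with hS
  have hScard : S.card = H.index := by
    have : (univ.filter (fun n : N => n ∈ H)).card = Nat.card H := by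
      rw [Nat.card_eq_fintype_card, Fintype.card_subtype]
    rw [hS, Finset.card_erase_of_mem (by simp [H.one_mem]), this, he, Nat.add_sub_cancel]
  have key : ∀ h ∈ H, h ≠ 1 → (∀ y ∈ H, y ≠ 1 → IsConj h y) ∧ H ≤ Subgroup.centralizer ({h} : Set N) := by
    intro h hh h1
    have hsub : univ.filter (IsConj h ·) ⊆ S := fun y hy => by
      obtain ⟨g, rfl⟩ := isConj_iff.mp (mem_filter.mp hy).2
      simp [hS, h1, Subgroup.Normal.conj_mem inferInstance h hh g]
    have hc : (univ.filter (IsConj h ·)).card = (Subgroup.centralizer ({h} : Set N)).index := by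
      rw [← card_conj_eq_index, Nat.card_eq_fintype_card, Fintype.card_subtype]
    have hle := Subgroup.index_dvd_of_le (hC h hh h1)
    have hle2 := Finset.card_le_card hsub
    rw [hc, hScard] at hle2
    have hpos : 0 < (Subgroup.centralizer ({h} : Set N)).index :=
      Nat.pos_of_ne_zero Subgroup.index_ne_zero_of_finite
    have hidx : (Subgroup.centralizer ({h} : Set N)).index = H.index :=
      le_antisymm hle2 (Nat.le_of_dvd hpos hle)
    have heq : univ.filter (IsConj h ·) = S :=
      Finset.eq_of_subset_of_card_le hsub (by rw [hc, hScard, hidx])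
    refine ⟨fun y hy hy1 => ?_, Subgroup.relIndex_eq_one.mp ?_⟩
    · have : y ∈ S := by simp [hS, hy, hy1]
      rw [← heq] at this
      exact (mem_filter.mp this).2
    · have := Subgroup.relIndex_mul_index (hC h hh h1)
      rw [hidx] at this
      exact mul_eq_right₀ Subgroup.index_ne_zero_of_finite |>.mp this
  refine ⟨⟨⟨fun a b => ?_⟩⟩, ?_⟩
  · by_cases ha : (a : N) = 1
    · rw [show a = 1 from Subtype.ext ha, one_mul, mul_one]
    · exact Subtype.ext
        (Subgroup.mem_centralizer_singleton_iff.mp ((key a a.2 ha).2 b.2)).symm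
  · obtain ⟨p, hp, hpd⟩ := Nat.exists_prime_and_dvd (n := Nat.card H) (by
      rw [he]; have := Subgroup.index_ne_zero_of_finite (H := H); omega)
    haveI := Fact.mk hp
    obtain ⟨x, hx⟩ := exists_prime_orderOf_dvd_card' (G := H) p hpd
    have hxp : (x : N) ^ p = 1 := by
      have := congrArg Subtype.val (hx ▸ pow_orderOf_eq_one x : x ^ p = 1)
      simpa using this
    have hx1 : (x : N) ≠ 1 := fun e => hp.ne_one (by
      rw [← hx, show x = 1 from Subtype.ext e, orderOf_one])
    refine ⟨p, hp, fun h hh => ?_⟩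
    by_cases h1 : h = 1
    · rw [h1, one_pow]
    · obtain ⟨g, hg⟩ := isConj_iff.mp ((key x x.2 hx1).1 h hh h1)
      rw [← hg, conj_pow, hxp, mul_one, mul_inv_cancel]

/-- `H ∩ B`-preimage of a `p'`-part of an abelian section -/
theorem exists_ppart_below (A B₀ : Subgroup N) [A.Normal] [hB₀n : B₀.Normal] (hlt : B₀ < A)
    (hab : ⁅A, A⁆ ≤ B₀) :
    ∃ p : ℕ, p.Prime ∧ ∃ B : Subgroup N, B.Normal ∧ B₀ ≤ B ∧ B < A ∧ ∃ k, B.relIndex A = p ^ k := by
  set π := QuotientGroup.mk' B₀ with hπ
  set n := B₀.relIndex A with hn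
  have hn0 : n ≠ 0 := Subgroup.index_ne_zero_of_finite (H := B₀.subgroupOf A)
  have hn1 : n ≠ 1 := fun e => hlt.not_ge (Subgroup.relIndex_eq_one.mp e)
  obtain ⟨p, hp, hpn⟩ := Nat.exists_prime_and_dvd hn1
  haveI := Fact.mk hp
  set m := n / p ^ n.factorization p with hm
  have hcard : Nat.card (A.map π) = n := by
    have e := Subgroup.relIndex_map_map π B₀ A
    rw [(Subgroup.map_eq_bot_iff B₀).mpr (by rw [hπ, QuotientGroup.ker_mk']),
      Subgroup.relIndex_bot_left, hπ, QuotientGroup.ker_mk', sup_idem, sup_eq_left.mpr hlt.le] at e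
    exact e
  have hcomm : ∀ a ∈ A, ∀ b ∈ A, Commute (π a) (π b) := fun a ha b hb => by
    have h1 : π ⁅a, b⁆ = 1 :=
      (QuotientGroup.eq_one_iff _).mpr (hab (Subgroup.commutator_mem_commutator ha hb))
    rw [map_commutatorElement] at h1
    exact commutatorElement_eq_one_iff_mul_comm.mp h1
  have hmem : ∀ a : N, a ^ m ∈ B₀ ↔ π a ^ m = 1 := fun a => by
    rw [← map_pow]; exact (QuotientGroup.eq_one_iff _).symm
  let B : Subgroup N :=
    { carrier := {a | a ∈ A ∧ a ^ m ∈ B₀}
      one_mem' := ⟨A.one_mem, by rw [one_pow]; exact B₀.one_mem⟩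
      mul_mem' := fun {a b} ha hb => ⟨A.mul_mem ha.1 hb.1, by
        rw [hmem, map_mul, (hcomm a ha.1 b hb.1).mul_pow, (hmem a).mp ha.2, (hmem b).mp hb.2,
          one_mul]⟩
      inv_mem' := fun {a} ha => ⟨A.inv_mem ha.1, by rw [inv_pow]; exact B₀.inv_mem ha.2⟩ }
  have hBn : B.Normal := ⟨fun a ha g => ⟨Subgroup.Normal.conj_mem inferInstance a ha.1 g, by
    rw [conj_pow]; exact hB₀n.conj_mem _ ha.2 g⟩⟩
  refine ⟨p, hp, B, hBn, fun b hb => ⟨hlt.le hb, B₀.pow_mem hb m⟩,
    lt_of_le_of_ne (fun a ha => ha.1) fun e => ?_, ?_⟩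
  · obtain ⟨⟨_, a, ha, rfl⟩, hy⟩ := exists_prime_orderOf_dvd_card' (G := A.map π) p (hcard ▸ hpn)
    have hpa : orderOf (π a) = p :=
      (orderOf_injective (A.map π).subtype Subtype.val_injective _).trans hy
    have hd : p ∣ m := hpa ▸ orderOf_dvd_of_pow_eq_one ((hmem a).mp (e.symm.le ha).2)
    exact Nat.not_dvd_ordCompl hp hn0 hd
  · haveI := hBn
    set σ := QuotientGroup.mk' B with hσ
    have hpg : IsPGroup p (A.map σ) := by
      rintro ⟨_, a, ha, rfl⟩
      refine ⟨n.factorization p, Subtype.ext ?_⟩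
      show σ a ^ _ = 1
      rw [← map_pow]
      refine (QuotientGroup.eq_one_iff _).mpr ⟨A.pow_mem ha _, ?_⟩
      rw [hmem, map_pow, ← pow_mul, hm, Nat.ordProj_mul_ordCompl_eq_self]
      exact congrArg Subtype.val
        (hcard ▸ pow_card_eq_one' : (⟨π a, a, ha, rfl⟩ : A.map π) ^ n = 1)
    obtain ⟨k, hk⟩ := hpg.exists_card_eq
    refine ⟨k, ?_⟩
    have e := Subgroup.relIndex_map_map σ B A
    rw [(Subgroup.map_eq_bot_iff B).mpr (by rw [hσ, QuotientGroup.ker_mk']),
      Subgroup.relIndex_bot_left, hσ, QuotientGroup.ker_mk', sup_idem,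
      sup_eq_left.mpr (fun a ha => ha.1)] at e
    rw [← e, ← hk]

end Kernel

/-- primes of a nilpotent group divide the index of the commutator subgroup -/
theorem dvd_commutator_index {X : Type*} [Group X] [Finite X] [Group.IsNilpotent X] {q : ℕ}
    (hq : q.Prime) (hqX : q ∣ Nat.card X) : q ∣ (commutator X).index := by
  haveI := Fact.mk hq
  obtain ⟨P, K, hK, hc⟩ := CfsgLib.NilpotentMaximal.hasNormalPComplement_of_isNilpotent (G := X) q
  haveI := hK
  obtain ⟨n, hn⟩ := P.isPGroup'.exists_card_eq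
  have hne : K.index = q ^ n := by rw [hc.symm.index_eq_card, hn]
  have hn0 : n ≠ 0 := by
    rintro rfl
    exact P.ne_bot_of_dvd_card hqX (Subgroup.card_eq_one.mp (by rw [hn, pow_zero]))
  haveI : Nontrivial (X ⧸ K) := by
    rw [← Finite.one_lt_card_iff_nontrivial, ← Subgroup.index_eq_card, hne]
    exact one_lt_pow₀ hq.one_lt hn0
  have hlt := Group.IsSolvable.commutator_lt_top_of_nontrivial (X ⧸ K)
  have hd : (commutator (X ⧸ K)).index ∣ (commutator X).index := by
    rw [commutator_def, ← Subgroup.map_top_of_surjective (QuotientGroup.mk' K)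
      (QuotientGroup.mk'_surjective K), ← Subgroup.map_commutator]
    exact Subgroup.index_map_dvd _ (QuotientGroup.mk'_surjective K)
  have hd2 : (commutator (X ⧸ K)).index ∣ q ^ n := by
    rw [← hne, Subgroup.index_eq_card K]; exact Subgroup.index_dvd_card _
  obtain ⟨j, -, hj⟩ := (Nat.dvd_prime_pow hq).mp hd2
  refine (dvd_pow_self q ?_).trans (hj ▸ hd)
  rintro rfl
  exact hlt.ne (Subgroup.index_eq_one.mp (by rw [hj, pow_zero]))

end CfsgLib.OddChar
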