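import Mathlib
import Cfsg.Agent.Lib.Characters.BrauerPerm
import Cfsg.Agent.Lib.Characters.Basic

set_option autoImplicit false
set_option linter.style.haveILetI false

/-! When does an element fix a non-principal irreducible character of a normal subgroup. -/

namespace CfsgLib.OddChar

open CfsgLib.BrauerPerm CfsgLib.Characters
open scoped Classical

theorem card_fixed_irr_conj {M : Type*} [Group M] [Finite M] (H : Subgroup M) [hN : H.Normal]
    (x : M) :
    Nat.card {χ : Cfsg.IrrCharacter H //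
        ∀ h : H, (χ : H → ℂ) ⟨x * h * x⁻¹, hN.conj_mem h h.2 x⟩ = (χ : H → ℂ) h} =
      Nat.card {c : ConjClasses H //
        ∀ k : H, ConjClasses.mk k = c →
          ConjClasses.mk (⟨x * k * x⁻¹, hN.conj_mem k k.2 x⟩ : H) = c} := by
  rw [← card_fixed_eq (twistIrr (MulAut.conjNormal x))
    (fun k : H => (⟨x * k * x⁻¹, hN.conj_mem k k.2 x⟩ : H)) ((MulAut.conjNormal x).bijective) ?_]
  · refine Nat.card_congr (Equiv.subtypeEquivRight fun χ => ⟨fun h => ?_, fun h k => ?_⟩)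
    · refine Subtype.ext (funext fun k => ?_)
      have := h ((MulAut.conjNormal x).symm k)
      rw [twistIrr_apply]
      refine this.symm.trans (congrArg _ (Subtype.ext ?_))
      simp [MulAut.conjNormal_symm_apply, mul_assoc]
    · conv_lhs => rw [← h]
      rw [twistIrr_apply]
      exact congrArg (χ : H → ℂ) ((MulAut.conjNormal x).symm_apply_apply k)
  · intro χ k
    rw [twistIrr_apply]
    exact congrArg (χ : H → ℂ) ((MulAut.conjNormal x).symm_apply_apply k)

theorem exists_fixed_irr_iff {M : Type*} [Group M] [Finite M] (H : Subgroup M) [hN : H.Normal]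
    (x : M) :
    (∃ θ : H → ℂ, Cfsg.IsIrrCharacter H θ ∧ θ ≠ (fun _ => 1) ∧
        (fun h : H => θ ⟨x * h * x⁻¹, hN.conj_mem h h.2 x⟩) = θ) ↔
      ∃ h : H, h ≠ 1 ∧ IsConj (⟨x * h * x⁻¹, hN.conj_mem h h.2 x⟩ : H) h := by
  haveI : Fintype (Cfsg.IrrCharacter H) := Fintype.ofFinite _
  set P : Cfsg.IrrCharacter H → Prop := fun χ =>
    ∀ h : H, (χ : H → ℂ) ⟨x * h * x⁻¹, hN.conj_mem h h.2 x⟩ = (χ : H → ℂ) h with hP
  set Q : ConjClasses H → Prop := fun c => ∀ k : H, ConjClasses.mk k = c →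
    ConjClasses.mk (⟨x * k * x⁻¹, hN.conj_mem k k.2 x⟩ : H) = c with hQ
  have hcard : Nat.card {χ // P χ} = Nat.card {c // Q c} := card_fixed_irr_conj H x
  have hp1 : P (principalIrr H) := fun h => rfl
  have hq1 : Q (ConjClasses.mk 1) := by
    intro k hk
    have : k = 1 := isConj_one_left.mp (ConjClasses.mk_eq_mk_iff_isConj.mp hk)
    subst this
    exact congrArg ConjClasses.mk (Subtype.ext (by simp))
  constructor
  · rintro ⟨θ, hθ, hne, hfix⟩
    have h2 : 1 < Nat.card {χ // P χ} := by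
      rw [Finite.one_lt_card_iff_nontrivial]
      exact ⟨⟨⟨_, hp1⟩, ⟨⟨θ, hθ⟩, fun h => congrFun hfix h⟩, fun e => hne
        (congrArg (fun z : {χ // P χ} => (z.1 : H → ℂ)) e).symm⟩⟩
    rw [hcard, Finite.one_lt_card_iff_nontrivial] at h2
    obtain ⟨⟨c, hc⟩, hne'⟩ := exists_ne (⟨_, hq1⟩ : {c // Q c})
    obtain ⟨h, rfl⟩ := ConjClasses.exists_rep c
    exact ⟨h, fun e => hne' (Subtype.ext (by simp [e])),
      ConjClasses.mk_eq_mk_iff_isConj.mp (hc h rfl)⟩
  · rintro ⟨h, hh, hconj⟩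
    have hQh : Q (ConjClasses.mk h) := by
      intro k hk
      obtain ⟨c, hc⟩ := isConj_iff.mp (ConjClasses.mk_eq_mk_iff_isConj.mp hk)
      refine ConjClasses.mk_eq_mk_iff_isConj.mpr (IsConj.trans ?_ hconj)
      refine isConj_iff.mpr ⟨⟨x * c * x⁻¹, hN.conj_mem c c.2 x⟩, Subtype.ext ?_⟩
      simp only [Subgroup.coe_mul, Subgroup.coe_inv]
      have e : (c : M) * k * (c : M)⁻¹ = h := congrArg Subtype.val hc
      rw [← e]; group
    have h2 : 1 < Nat.card {χ // P χ} := by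
      rw [hcard, Finite.one_lt_card_iff_nontrivial]
      refine ⟨⟨⟨_, hq1⟩, ⟨_, hQh⟩, fun e => hh ?_⟩⟩
      exact isConj_one_right.mp (ConjClasses.mk_eq_mk_iff_isConj.mp (congrArg Subtype.val e))
    rw [Finite.one_lt_card_iff_nontrivial] at h2
    obtain ⟨⟨θ, hθ⟩, hne⟩ := exists_ne (⟨_, hp1⟩ : {χ // P χ})
    exact ⟨θ, θ.2, fun e => hne (Subtype.ext (Subtype.ext e)), funext hθ⟩

end CfsgLib.OddChar
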