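import Cfsg.Agent.Lib.OddChar.GreedyIrr
import Cfsg.Agent.Lib.OddChar.FixedIrr
import Cfsg.Agent.Lib.Characters.TI
import Cfsg.Agent.Lib.Characters.Artin
import Cfsg.Prelude.Def_OddOrderLocal

set_option autoImplicit false
set_option linter.style.haveILetI false
set_option linter.unusedSectionVars false
set_option linter.unusedVariables false

/-! Characters nontrivial on a central subgroup of a `p`-group kernel: coherence. -/

namespace CfsgLib.OddChar

open scoped Classical ComplexConjugate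
open Finset CfsgLib.Characters CfsgLib.Clifford

theorem zspan_generalized {X : Type*} [Group X] {S : Set (X → ℂ)}
    (hS : ∀ χ ∈ S, Cfsg.IsGeneralizedCharacter X χ) {α : X → ℂ} (h : α ∈ Cfsg.zspan S) :
    Cfsg.IsGeneralizedCharacter X α :=
  Submodule.span_induction (p := fun x _ => Cfsg.IsGeneralizedCharacter X x) hS
    isGeneralizedCharacter_zero (fun _ _ _ _ => isGeneralizedCharacter_add)
    (fun z _ _ hx => isGeneralizedCharacter_zsmul hx z) h

theorem zspan_vanish {X : Type*} {S : Set (X → ℂ)} {x : X} (hS : ∀ χ ∈ S, χ x = 0) {α : X → ℂ}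
    (h : α ∈ Cfsg.zspan S) : α x = 0 :=
  Submodule.span_induction (p := fun f _ => f x = 0) hS rfl
    (fun a b _ _ ha hb => by simp [ha, hb]) (fun z a _ ha => by simp [ha]) h

section TI

variable {G : Type*} [Group G] [Fintype G]

/-- induction from the normaliser of a TI subgroup -/
theorem indFun_ti_isometry (H : Subgroup G) [Fintype ↥(Subgroup.normalizer (H : Set G))]
    (hTI : Cfsg.IsTISubset (H : Set G)) (S : Set (↥(Subgroup.normalizer (H : Set G)) → ℂ))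
    (hgen : ∀ χ ∈ S, Cfsg.IsGeneralizedCharacter _ χ)
    (hvan : ∀ χ ∈ S, ∀ x : ↥(Subgroup.normalizer (H : Set G)), (x : G) ∉ H → χ x = 0) :
    Cfsg.IsLinearIsometryOn (Cfsg.zspanOn S {1}ᶜ)
      (fun α => Cfsg.indFun (Subgroup.normalizer (H : Set G)) α) ∧
    ∀ α ∈ Cfsg.zspanOn S {1}ᶜ, Cfsg.indFun (Subgroup.normalizer (H : Set G)) α 1 = 0 := by
  have hv : ∀ {α : ↥(Subgroup.normalizer (H : Set G)) → ℂ}, α ∈ Cfsg.zspan S →
      ∀ x : ↥(Subgroup.normalizer (H : Set G)), (x : G) ∉ (H : Set G) → α x = 0 :=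
    fun hα x hx => zspan_vanish (fun χ hχ => hvan χ hχ x hx) hα
  refine ⟨⟨fun α _ β _ => CfsgLib.Induction.indFun_add _ α β, fun α _ n => ?_, fun α hα β hβ => ?_,
    fun α hα => CfsgLib.CharArtin.isGeneralizedCharacter_indFun _ (zspan_generalized hgen hα.1)⟩,
    fun α hα => ?_⟩
  · show Cfsg.indFun _ (n • α) = n • Cfsg.indFun _ α
    rw [zsmul_eq_smul, zsmul_eq_smul, CfsgLib.Induction.indFun_smul]
  · exact CfsgLib.CharTI.classInner_indFun_of_ti hTI
      (isClassFunction_of_isGeneralizedCharacter (zspan_generalized hgen hβ.1)) (hv hα.1) (hv hβ.1)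
      (zspanOn_compl_one.mp hα).2
  · rw [CfsgLib.Induction.indFun_one_apply, (zspanOn_compl_one.mp hα).2, mul_zero]

end TI

section Frobenius

variable {L : Type*} [Group L] [Fintype L] {K : Subgroup L}

/-- in a Frobenius group, non-principal characters of the kernel induce irreducibly -/
theorem indFun_irr_of_free (hK : K.Normal)
    (hC : ∀ k ∈ K, k ≠ 1 → Subgroup.centralizer ({k} : Set L) ≤ K) [Fintype K] {θ : K → ℂ}
    (hθ : Cfsg.IsIrrCharacter K θ) (hne : θ ≠ fun _ => 1) :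
    Cfsg.IsIrrCharacter L (Cfsg.indFun K θ) := by
  have hcl := isClassFunction_of_isCharacter (isCharacter_of_irr hθ)
  refine isIrr_of_norm_one (CfsgLib.Induction.isCharacter_indFun K (isCharacter_of_irr hθ)) ?_
  rw [classInner_indFun_indFun hK hcl]
  have key : ∀ g : L, Cfsg.classInner θ (conjChar hK θ g) = if g ∈ K then 1 else 0 := by
    intro g
    by_cases hg : g ∈ K
    · rw [if_pos hg, show conjChar hK θ g = θ from le_inertia hK hcl hg, classInner_irr_self hθ]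
    · rw [if_neg hg]
      refine classInner_irr_ne hθ (isIrrCharacter_conjChar hK hθ g) fun e => hg ?_
      haveI := hK
      obtain ⟨h, hh, hconj⟩ := (exists_fixed_irr_iff K g).mp ⟨θ, hθ, hne, e.symm⟩
      obtain ⟨u, hu⟩ := isConj_iff.mp hconj
      have hu' : (u : L) * (g * h * g⁻¹) * (u : L)⁻¹ = h := congrArg Subtype.val hu
      have hm : (u : L) * g ∈ Subgroup.centralizer ({(h : L)} : Set L) := by
        rw [Subgroup.mem_centralizer_singleton_iff]
        conv_rhs => rw [← hu']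
        group
      have := K.mul_mem (K.inv_mem u.2) (hC h h.2 (fun e => hh (Subtype.ext e)) hm)
      rwa [inv_mul_cancel_left] at this
  rw [Finset.sum_congr rfl fun g _ => key g, Finset.sum_boole]
  have hc : ((univ.filter (· ∈ K)).card : ℂ) = (Nat.card K : ℂ) := by
    rw [Nat.card_eq_fintype_card, Fintype.card_subtype]
  rw [hc, inv_mul_cancel₀ (Nat.cast_ne_zero.mpr Nat.card_pos.ne')]

theorem commute_all_of_fpf_involution (hK : K.Normal)
    (hC : ∀ k ∈ K, k ≠ 1 → Subgroup.centralizer ({k} : Set L) ≤ K) (hodd : ¬ 2 ∣ Nat.card K)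
    (he : 2 ∣ K.index) : IsMulCommutative K := by
  obtain ⟨t, ht⟩ := exists_prime_orderOf_dvd_card' (G := L) 2 (he.trans (Subgroup.index_dvd_card K))
  have htK : t ∉ K := fun h => hodd (by
    have := K.orderOf_dvd_natCard h
    rwa [ht] at this)
  have ht2 : t * t = 1 := by rw [← sq, ← ht, pow_orderOf_eq_one]
  let φ : K →* K := conjHom hK t
  have hfix : MonoidHom.FixedPointFree φ := fun k hk => by
    by_contra hne
    refine htK (hC k k.2 (fun e => hne (Subtype.ext e)) ?_)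
    rw [Subgroup.mem_centralizer_singleton_iff]
    exact mul_inv_eq_iff_eq_mul.mp (congrArg Subtype.val hk)
  have hinv : Function.Involutive φ := fun k => Subtype.ext (by
    show t * (t * (k : L) * t⁻¹) * t⁻¹ = k
    have ht3 : t⁻¹ = t := inv_eq_of_mul_eq_one_left ht2
    rw [ht3, ← mul_assoc, ← mul_assoc, ht2, one_mul, mul_assoc, ht2, mul_one])
  exact ⟨⟨fun a b => hfix.commute_all_of_involutive hinv a b⟩⟩

end Frobenius

section Central

variable {L : Type*} [Group L] [Fintype L] (K : Subgroup L) [Fintype K]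

/-- irreducible characters of `K` nontrivial on `Z` -/
noncomputable def thetaOff (Z : Subgroup L) : Finset (Cfsg.IrrCharacter K) :=
  univ.filter fun θ : Cfsg.IrrCharacter K => ∃ z : K, (z : L) ∈ Z ∧ (θ : K → ℂ) z ≠ (θ : K → ℂ) 1

/-- the functions induced from them -/
noncomputable def offFinset (Z : Subgroup L) : Finset (L → ℂ) :=
  (thetaOff K Z).image fun θ : Cfsg.IrrCharacter K => Cfsg.indFun K (θ : K → ℂ)

variable {K}

theorem mem_thetaOff {Z : Subgroup L} {θ : Cfsg.IrrCharacter K} :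
    θ ∈ thetaOff K Z ↔ ∃ z : K, (z : L) ∈ Z ∧ (θ : K → ℂ) z ≠ (θ : K → ℂ) 1 := by
  simp [thetaOff]

theorem thetaOff_ne_one {Z : Subgroup L} {θ : Cfsg.IrrCharacter K} (h : θ ∈ thetaOff K Z) :
    (θ : K → ℂ) ≠ fun _ => 1 := fun e => by
  obtain ⟨z, -, hz⟩ := mem_thetaOff.mp h
  rw [e] at hz
  exact hz rfl

theorem thetaOff_closed (hK : K.Normal) (Z : Subgroup L) [hZ : Z.Normal]
    (θ : Cfsg.IrrCharacter K) (hθ : θ ∈ thetaOff K Z) (η : Cfsg.IrrCharacter K)
    (e : Cfsg.indFun K (η : K → ℂ) = Cfsg.indFun K (θ : K → ℂ)) : η ∈ thetaOff K Z := by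
  by_contra hη
  rw [mem_thetaOff] at hη
  push Not at hη
  obtain ⟨x, hx⟩ := conjChar_of_indFun_eq hK θ.2 η.2 e.symm
  obtain ⟨z, hz, hzne⟩ := mem_thetaOff.mp hθ
  refine hzne ?_
  rw [← hx, conjChar_apply_one]
  exact hη _ (hZ.conj_mem _ hz x)

theorem coe_offFinset (hK : K.Normal) (Z : Subgroup L) [Z.Normal] :
    (↑(offFinset K Z) : Set (L → ℂ)) =
      Cfsg.inducedIrrAbove K ⊥ \ Cfsg.inducedIrrAbove K Z := by
  ext φ
  simp only [offFinset, Finset.coe_image, Set.mem_image, Finset.mem_coe, Set.mem_sdiff]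
  constructor
  · rintro ⟨θ, hθ, rfl⟩
    refine ⟨⟨θ, θ.2, thetaOff_ne_one hθ, fun a ha => ?_, rfl⟩, ?_⟩
    · rw [show a = 1 from Subtype.ext (Subgroup.mem_bot.mp ha)]
    · rintro ⟨η, hη, -, hker, e⟩
      obtain ⟨z, hz, hzne⟩ := mem_thetaOff.mp (thetaOff_closed hK Z θ hθ ⟨η, hη⟩ e.symm)
      exact hzne (hker z hz)
  · rintro ⟨⟨θ, hθ, h1, -, rfl⟩, hnot⟩
    refine ⟨⟨θ, hθ⟩, mem_thetaOff.mpr ?_, rfl⟩
    by_contra hc
    push Not at hc
    exact hnot ⟨θ, hθ, h1, hc, rfl⟩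

theorem offFinset_eq_irr (hK : K.Normal) (Z : Subgroup L) [hZ : Z.Normal] (hZK : Z ≤ K)
    (hirr : ∀ θ ∈ thetaOff K Z, Cfsg.IsIrrCharacter L (Cfsg.indFun K (θ : K → ℂ))) :
    (↑(offFinset K Z) : Set (L → ℂ)) =
      {χ | Cfsg.IsIrrCharacter L χ ∧ ∃ z ∈ Z, χ z ≠ χ 1} := by
  ext χ
  simp only [offFinset, Finset.coe_image, Set.mem_image, Finset.mem_coe, Set.mem_ofPred_eq]
  constructor
  · rintro ⟨θ, hθ, rfl⟩
    refine ⟨hirr θ hθ, ?_⟩
    by_contra hc
    push Not at hc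
    obtain ⟨z, hz, hzne⟩ := mem_thetaOff.mp hθ
    have hch := CfsgLib.Induction.isCharacter_indFun K (irr_isCharacter θ)
    refine hzne (constituent_eq_one (isCharacter_subtype hch K) ?_ (g := z) (hc _ hz))
    rw [← CfsgLib.Induction.classInner_indFun_right K _ (isClassFunction_of_isCharacter hch),
      classInner_irr_self (hirr θ hθ)]
    exact one_ne_zero
  · rintro ⟨hχ, z, hz, hzne⟩
    have hres := isCharacter_subtype (isCharacter_of_irr hχ) K
    obtain ⟨m, hm, hsum⟩ := exists_mult hres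
    obtain ⟨θ, hθm, hθ⟩ : ∃ θ : Cfsg.IrrCharacter K, m θ ≠ 0 ∧
        (θ : K → ℂ) ⟨z, hZK hz⟩ ≠ (θ : K → ℂ) 1 := by
      by_contra hc
      push Not at hc
      apply hzne
      have h1 := congrFun hsum ⟨z, hZK hz⟩
      have h2 := congrFun hsum 1
      simp only [Finset.sum_apply, Pi.smul_apply, smul_eq_mul, OneMemClass.coe_one] at h1 h2
      rw [h1, h2]
      refine Finset.sum_congr rfl fun θ _ => ?_
      by_cases h0 : m θ = 0
      · simp [h0]
      · rw [hc θ h0]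
    have hθT : θ ∈ thetaOff K Z := mem_thetaOff.mpr ⟨_, hz, hθ⟩
    refine ⟨θ, hθT, ?_⟩
    by_contra hne
    have h0 := classInner_irr_ne hχ (hirr θ hθT) (Ne.symm hne)
    rw [CfsgLib.Induction.classInner_indFun_right K _
      (isClassFunction_of_isCharacter (isCharacter_of_irr hχ)), hm, Nat.cast_eq_zero] at h0
    exact hθm h0

theorem sum_sq_thetaOff (hK : K.Normal) (Z : Subgroup L) [Z.Normal] :
    ∑ θ ∈ thetaOff K Z, (natDeg (θ : K → ℂ) : ℝ) ^ 2 = (Nat.card K : ℝ) - (Z.relIndex K : ℝ) := by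
  have e : thetaOff K Z = thetaAbove K ⊥ \ thetaAbove K Z := by
    ext θ
    rw [Finset.mem_sdiff, mem_thetaOff, mem_thetaAbove, mem_thetaAbove]
    constructor
    · rintro ⟨z, hz, hzne⟩
      exact ⟨⟨fun e => hzne (by rw [e]), fun a ha => by
        rw [show a = 1 from Subtype.ext (Subgroup.mem_bot.mp ha)]⟩, fun h => hzne (h.2 z hz)⟩
    · rintro ⟨⟨h1, -⟩, h2⟩
      by_contra hc
      push Not at hc
      exact h2 ⟨h1, hc⟩
  have hsub : thetaAbove K Z ⊆ thetaAbove K ⊥ := fun θ hθ => by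
    rw [mem_thetaAbove] at hθ ⊢
    exact ⟨hθ.1, fun a ha => by rw [show a = 1 from Subtype.ext (Subgroup.mem_bot.mp ha)]⟩
  rw [e, Finset.sum_sdiff_eq_sub hsub, sum_sq_thetaAbove hK ⊥, sum_sq_thetaAbove hK Z,
    Subgroup.relIndex_bot_left]
  ring

theorem sum_sq_offFinset (hK : K.Normal) (Z : Subgroup L) [Z.Normal]
    (hirr : ∀ θ ∈ thetaOff K Z, Cfsg.IsIrrCharacter L (Cfsg.indFun K (θ : K → ℂ))) :
    (∑ χ ∈ offFinset K Z, natDeg χ ^ 2) + K.index * Z.relIndex K = K.index * Nat.card K := by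
  have h := sum_sq_div_norm hK (thetaOff K Z) (thetaOff_closed hK Z)
  rw [sum_sq_thetaOff hK Z] at h
  have h' : ∀ χ ∈ offFinset K Z, (natDeg χ : ℝ) ^ 2 / (natNorm χ : ℝ) = ((natDeg χ ^ 2 : ℕ) : ℝ) := by
    intro χ hχ
    obtain ⟨θ, hθ, rfl⟩ := Finset.mem_image.mp hχ
    simp [natNorm, classInner_irr_self (hirr θ hθ)]
  change ∑ χ ∈ offFinset K Z, _ = _ at h
  rw [Finset.sum_congr rfl h', ← Nat.cast_sum] at h
  have h2 : ((∑ χ ∈ offFinset K Z, natDeg χ ^ 2 : ℕ) : ℝ) + (K.index : ℝ) * (Z.relIndex K : ℝ) =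
      (K.index : ℝ) * (Nat.card K : ℝ) := by rw [h]; ring
  exact_mod_cast h2

theorem relIndex_mul_card (Z : Subgroup L) (hZK : Z ≤ K) :
    Z.relIndex K * Nat.card Z = Nat.card K := by
  have := (Z.subgroupOf K).card_mul_index
  rw [Nat.card_congr (Subgroup.subgroupOfEquivOfLe hZK).toEquiv] at this
  rwa [mul_comm]

/-- degree data of the set -/
theorem offFinset_degrees (hK : K.Normal) (Z : Subgroup L) [Z.Normal] (hZK : Z ≤ K)
    (hZc : ∀ z ∈ Z, ∀ k ∈ K, z * k = k * z) {p : ℕ} (hp : p.Prime) (hpK : IsPGroup p K)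
    (hirr : ∀ θ ∈ thetaOff K Z, Cfsg.IsIrrCharacter L (Cfsg.indFun K (θ : K → ℂ))) :
    ∃ a : (L → ℂ) → ℕ, (∀ χ ∈ offFinset K Z, natDeg χ = K.index * p ^ a χ) ∧
      (∀ χ ∈ offFinset K Z, p ^ (2 * a χ) ∣ Z.relIndex K) ∧
      K.index * (∑ χ ∈ offFinset K Z, (p ^ a χ) ^ 2) + Z.relIndex K = Nat.card K := by
  haveI := Fact.mk hp
  obtain ⟨n, hn⟩ := hpK.exists_card_eq
  obtain ⟨m, -, hm⟩ := (Nat.dvd_prime_pow hp).mp (hn ▸ ⟨Nat.card Z, (relIndex_mul_card Z hZK).symm⟩ :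
    Z.relIndex K ∣ p ^ n)
  have hex : ∀ χ, ∃ a : ℕ, χ ∈ offFinset K Z →
      natDeg χ = K.index * p ^ a ∧ p ^ (2 * a) ∣ Z.relIndex K := by
    intro χ
    by_cases hχ : χ ∈ offFinset K Z
    · obtain ⟨θ, hθ, rfl⟩ := Finset.mem_image.mp hχ
      obtain ⟨d, hd1, -, hd2⟩ := irr_degree_dvd_card θ
      obtain ⟨a, -, ha⟩ := (Nat.dvd_prime_pow hp).mp (hn ▸ hd2)
      have hd : natDeg (θ : K → ℂ) = p ^ a := by
        rw [natDeg, hd1, Complex.natCast_re, Nat.floor_natCast, ha]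
      refine ⟨a, fun _ => ⟨by rw [natDeg_indFun (irr_isCharacter θ), hd], ?_⟩⟩
      have hle : natDeg (θ : K → ℂ) ^ 2 ≤ (Z.subgroupOf K).index :=
        sq_natDeg_le θ.2 (Z.subgroupOf K) fun z hz => norm_eq_of_central θ.2 fun c => by
          refine congrArg (θ : K → ℂ) (Subtype.ext ?_)
          have := hZc z (Subgroup.mem_subgroupOf.mp hz) c c.2
          simp only [Subgroup.coe_mul, Subgroup.coe_inv, OneMemClass.coe_one]
          rw [this]; group
      change natDeg (θ : K → ℂ) ^ 2 ≤ Z.relIndex K at hle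
      rw [hd, hm, ← pow_mul, mul_comm a 2] at hle
      rw [hm]
      exact pow_dvd_pow p ((Nat.pow_le_pow_iff_right hp.one_lt).mp hle)
    · exact ⟨0, fun h => absurd h hχ⟩
  choose a ha using hex
  refine ⟨a, fun χ h => (ha χ h).1, fun χ h => (ha χ h).2, ?_⟩
  have h := sum_sq_offFinset hK Z hirr
  rw [Finset.sum_congr rfl fun χ hχ => by rw [(ha χ hχ).1, mul_pow], ← Finset.mul_sum] at h
  refine Nat.eq_of_mul_eq_mul_left (Nat.pos_of_ne_zero Subgroup.index_ne_zero_of_finite (n := K.index)) ?_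
  rw [mul_add, ← mul_assoc, ← sq]
  exact h

theorem offFinset_coherent {G : Type*} [Group G] [Fintype G] {τ : (L → ℂ) → (G → ℂ)}
    (hK : K.Normal) (Z : Subgroup L) [Z.Normal] (hZK : Z ≤ K)
    (hZc : ∀ z ∈ Z, ∀ k ∈ K, z * k = k * z) {p : ℕ} (hp : p.Prime) (hp3 : 3 ≤ p)
    (hpK : IsPGroup p K) (hpe : ¬ p ∣ K.index)
    (hirr : ∀ θ ∈ thetaOff K Z, Cfsg.IsIrrCharacter L (Cfsg.indFun K (θ : K → ℂ)))
    (hsys : IrrSys (↑(offFinset K Z) : Set (L → ℂ)) τ) (h2 : 2 ≤ (offFinset K Z).card) :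
    Cfsg.IsCoherent (↑(offFinset K Z) : Set (L → ℂ)) {1}ᶜ τ := by
  obtain ⟨a, h1, hd, hsum⟩ := offFinset_degrees hK Z hZK hZc hp hpK hirr
  refine coherent_ppow hsys _ subset_rfl h2 hp hp3 hpe a h1 fun χ hχ => ?_
  have hdK : p ^ (2 * a χ) ∣ Nat.card K :=
    (hd χ hχ).trans ⟨Nat.card Z, (relIndex_mul_card Z hZK).symm⟩
  rw [← hsum, ← Nat.dvd_add_iff_left (hd χ hχ)] at hdK
  exact hdK

theorem even_of_offFinset_small (hK : K.Normal) (Z : Subgroup L) [Z.Normal] (hZK : Z ≤ K)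
    (hZ1 : Z ≠ ⊥) (hZc : ∀ z ∈ Z, ∀ k ∈ K, z * k = k * z) {p : ℕ} (hp : p.Prime) (hp3 : 3 ≤ p)
    (hpK : IsPGroup p K)
    (hirr : ∀ θ ∈ thetaOff K Z, Cfsg.IsIrrCharacter L (Cfsg.indFun K (θ : K → ℂ)))
    (h2 : (offFinset K Z).card < 2) : 2 ∣ K.index := by
  obtain ⟨a, -, hd, hsum⟩ := offFinset_degrees hK Z hZK hZc hp hpK hirr
  haveI := Fact.mk hp
  have hz := (Subgroup.one_lt_card_iff_ne_bot Z).mpr hZ1
  have hr := relIndex_mul_card Z hZK
  have hr0 : 0 < Z.relIndex K :=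
    Nat.pos_of_ne_zero (Subgroup.index_ne_zero_of_finite (H := Z.subgroupOf K))
  obtain ⟨χ, hχ⟩ : ∃ χ, offFinset K Z = {χ} := by
    rw [← Finset.card_eq_one]
    by_contra h
    have h0 : offFinset K Z = ∅ := Finset.card_eq_zero.mp (by omega)
    rw [h0, Finset.sum_empty, mul_zero, zero_add] at hsum
    rw [← hsum] at hr
    exact hz.ne' (Nat.eq_of_mul_eq_mul_left hr0 (hr.trans (mul_one _).symm))
  rw [hχ, Finset.sum_singleton, ← pow_mul, mul_comm (a χ) 2] at hsum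
  obtain ⟨m, hm⟩ := hd χ (by rw [hχ]; exact mem_singleton_self χ)
  obtain ⟨n, hn⟩ := hpK.exists_card_eq
  obtain ⟨j, -, hj⟩ := (Nat.dvd_prime_pow hp).mp (hn ▸ ⟨Z.relIndex K, by rw [← hr, mul_comm]⟩ :
    Nat.card Z ∣ p ^ n)
  rw [← hr, hj, hm] at hsum
  have hq : 0 < p ^ (2 * a χ) := pow_pos hp.pos _
  have h3 : K.index + m = m * p ^ j :=
    Nat.eq_of_mul_eq_mul_left hq (by rw [mul_add, mul_comm _ K.index, hsum]; ring)
  have hpo : Odd (p ^ j) := (hp.odd_of_ne_two (by omega)).pow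
  obtain ⟨t, ht⟩ := hpo
  rw [ht] at h3
  exact ⟨m * t, by linarith⟩

end Central

end CfsgLib.OddChar
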