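import Cfsg.Agent.Lib.OddChar.OrthProj

set_option autoImplicit false

/-! Coherence systems: the coefficients along `R χ`, and a criterion for coherence by images of
the members. -/

namespace CfsgLib.OddChar

open scoped Classical ComplexConjugate
open Finset CfsgLib.Characters

variable {L : Type*} [Group L] [Fintype L] {G : Type*} [Group G] [Fintype G]
  {S : Set (L → ℂ)} {τ : (L → ℂ) → (G → ℂ)} {R : (L → ℂ) → Finset (G → ℂ)}

theorem sys_ne_zero (hS : Cfsg.IsCoherenceSystem S τ R) {χ : L → ℂ} (hχ : χ ∈ S) : χ ≠ 0 := by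
  intro h
  refine hS.conj_ne χ hχ ?_
  funext x
  simp [h, Cfsg.conjFun]

theorem sys_norm_ne_zero (hS : Cfsg.IsCoherenceSystem S τ R) {χ : L → ℂ} (hχ : χ ∈ S) :
    Cfsg.classInner χ χ ≠ 0 := fun h => sys_ne_zero hS hχ (eq_zero_of_classInner_self h)

theorem conjFun_conjFun (f : L → ℂ) : Cfsg.conjFun (Cfsg.conjFun f) = f :=
  funext fun _ => Complex.conj_conj _

theorem classInner_conjFun (f g : L → ℂ) :
    Cfsg.classInner (Cfsg.conjFun f) (Cfsg.conjFun g) = conj (Cfsg.classInner f g) := by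
  simp [Cfsg.classInner, Cfsg.conjFun, map_sum]

theorem sys_conj_norm (f : L → ℂ) :
    Cfsg.classInner (Cfsg.conjFun f) (Cfsg.conjFun f) = Cfsg.classInner f f := by
  rw [classInner_conjFun, conj_classInner_self]

theorem sys_conj_one (hS : Cfsg.IsCoherenceSystem S τ R) {χ : L → ℂ} (hχ : χ ∈ S) :
    Cfsg.conjFun χ 1 = χ 1 := by
  obtain ⟨n, hn⟩ := exists_degree (hS.isCharacter χ hχ)
  simp [Cfsg.conjFun, hn]

theorem sys_sub_conj_mem (hS : Cfsg.IsCoherenceSystem S τ R) {χ : L → ℂ} (hχ : χ ∈ S) :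
    χ - Cfsg.conjFun χ ∈ Cfsg.zspanOn S {1}ᶜ :=
  zspanOn_compl_one.mpr ⟨zspan_sub (zspan_of_mem hχ) (zspan_of_mem (hS.conj_mem χ hχ)), by
    rw [Pi.sub_apply, sys_conj_one hS hχ, sub_self]⟩

theorem sys_card_R (hS : Cfsg.IsCoherenceSystem S τ R) {χ : L → ℂ} (hχ : χ ∈ S) :
    ((R χ).card : ℂ) = 2 * Cfsg.classInner χ χ := by
  have h := hS.isometry.2.2.1 _ (sys_sub_conj_mem hS hχ) _ (sys_sub_conj_mem hS hχ)
  rw [hS.sum_eq χ hχ, classInner_sum_left] at h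
  have e : ∀ α ∈ R χ, Cfsg.classInner α (∑ β ∈ R χ, β) = 1 := by
    intro α hα
    rw [classInner_sum_right,
      Finset.sum_congr rfl (fun β hβ => hS.orthonormal χ hχ α hα β hβ)]
    simp [hα]
  rw [Finset.sum_congr rfl e, Finset.sum_const, nsmul_eq_mul, mul_one, classInner_sub_left,
    classInner_sub_right, classInner_sub_right, sys_conj_norm,
    hS.orthogonal χ hχ _ (hS.conj_mem χ hχ) (hS.conj_ne χ hχ).symm,
    hS.orthogonal _ (hS.conj_mem χ hχ) χ hχ (hS.conj_ne χ hχ)] at h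
  rw [h]; ring

theorem R_orth (hS : Cfsg.IsCoherenceSystem S τ R) {χ : L → ℂ} (hχ : χ ∈ S) :
    ∀ α ∈ R χ, ∀ β ∈ R χ, α ≠ β → Cfsg.classInner α β = 0 := fun α hα β hβ h => by
  rw [hS.orthonormal χ hχ α hα β hβ, if_neg h]

theorem R_norm (hS : Cfsg.IsCoherenceSystem S τ R) {χ : L → ℂ} (hχ : χ ∈ S) :
    ∀ α ∈ R χ, Cfsg.classInner α α = 1 := fun α hα => by
  rw [hS.orthonormal χ hχ α hα α hα, if_pos rfl]

theorem R_norm_ne (hS : Cfsg.IsCoherenceSystem S τ R) {χ : L → ℂ} (hχ : χ ∈ S) :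
    ∀ α ∈ R χ, Cfsg.classInner α α ≠ 0 := fun α hα => by rw [R_norm hS hχ α hα]; exact one_ne_zero

/-- integrality and lower bound of the coefficients along `R χ` -/
theorem rchi_coeff (hS : Cfsg.IsCoherenceSystem S τ R) {χ : L → ℂ} (hχ : χ ∈ S) {β : G → ℂ}
    (hβ : Cfsg.IsGeneralizedCharacter G β) {n : ℤ}
    (hn : Cfsg.classInner β (τ (χ - Cfsg.conjFun χ)) = n) :
    ∃ c : (G → ℂ) → ℤ, (∀ α ∈ R χ, Cfsg.classInner β α = c α) ∧ ∑ α ∈ R χ, c α = n ∧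
      n ≤ ∑ α ∈ R χ, c α ^ 2 ∧
      (∑ α ∈ R χ, c α ^ 2 ≤ n → ∑ α ∈ R χ, c α ^ 2 = n ∧ ∀ α ∈ R χ, c α = 0 ∨ c α = 1) := by
  have hex : ∀ α, ∃ z : ℤ, α ∈ R χ → Cfsg.classInner β α = z := by
    intro α
    by_cases hα : α ∈ R χ
    · obtain ⟨z, hz⟩ := classInner_generalized_int hβ (hS.virtual χ hχ α hα)
      exact ⟨z, fun _ => hz⟩
    · exact ⟨0, fun h => absurd h hα⟩
  choose c hc using hex
  have hsum : ∑ α ∈ R χ, c α = n := by
    rw [hS.sum_eq χ hχ, classInner_sum_right, Finset.sum_congr rfl hc] at hn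
    exact_mod_cast hn
  have hle : ∀ α, c α ≤ c α ^ 2 := fun α => Int.le_self_sq _
  refine ⟨c, hc, hsum, hsum ▸ Finset.sum_le_sum fun α _ => hle α, fun h => ?_⟩
  have heq : ∑ α ∈ R χ, c α ^ 2 = ∑ α ∈ R χ, c α :=
    le_antisymm (hsum.symm ▸ h) (Finset.sum_le_sum fun α _ => hle α)
  refine ⟨heq.trans hsum, fun α hα => ?_⟩
  have := (Finset.sum_eq_sum_iff_of_le (fun α _ => hle α)).mp heq.symm α hα
  have h' : c α * (c α - 1) = 0 := by linear_combination -this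
  rcases mul_eq_zero.mp h' with h1 | h1
  · exact Or.inl h1
  · exact Or.inr (by linarith)

theorem sum_conj_int {s : Finset (G → ℂ)} (hn : ∀ α ∈ s, Cfsg.classInner α α = 1) {f : G → ℂ}
    {c : (G → ℂ) → ℤ} (hc : ∀ α ∈ s, Cfsg.classInner f α = c α) :
    ∑ α ∈ s, Cfsg.classInner f α * conj (Cfsg.classInner f α) / Cfsg.classInner α α =
      ((∑ α ∈ s, c α ^ 2 : ℤ) : ℂ) := by
  rw [Int.cast_sum]
  refine Finset.sum_congr rfl fun α hα => ?_
  rw [hn α hα, hc α hα, map_intCast, Int.cast_pow, div_one, sq]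

/-- members of a coherent part map into the spans of their `R` -/
theorem extension_mem_R (hS : Cfsg.IsCoherenceSystem S τ R) {S₁ : Set (L → ℂ)} (hsub : S₁ ⊆ S)
    (hconj : ∀ φ ∈ S₁, Cfsg.conjFun φ ∈ S₁) {τ₁ : (L → ℂ) → (G → ℂ)}
    (hτ₁ : Cfsg.IsLinearIsometryOn (Cfsg.zspan S₁) τ₁)
    (hext : ∀ α ∈ Cfsg.zspanOn S₁ {1}ᶜ, τ₁ α = τ α) {φ : L → ℂ} (hφ : φ ∈ S₁) :
    τ₁ φ = orthProj (R φ) (τ₁ φ) := by
  have hφS := hsub hφ
  obtain ⟨n, hn, -⟩ := char_norm_nat (hS.isCharacter φ hφS)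
  have hd : φ - Cfsg.conjFun φ ∈ Cfsg.zspanOn S₁ {1}ᶜ :=
    ⟨zspan_sub (zspan_of_mem hφ) (zspan_of_mem (hconj φ hφ)), (sys_sub_conj_mem hS hφS).2⟩
  have hinner : Cfsg.classInner (τ₁ φ) (τ (φ - Cfsg.conjFun φ)) = ((n : ℤ) : ℂ) := by
    rw [← hext _ hd, hτ₁.2.2.1 φ (zspan_of_mem hφ) _ hd.1, classInner_sub_right, hn,
      hS.orthogonal φ hφS _ (hS.conj_mem φ hφS) (hS.conj_ne φ hφS).symm, sub_zero, Int.cast_natCast]
  obtain ⟨c, hc, -, hle, -⟩ :=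
    rchi_coeff hS hφS (hτ₁.2.2.2 φ (zspan_of_mem hφ)) hinner
  have hb := classInner_self_re_nonneg (τ₁ φ - orthProj (R φ) (τ₁ φ))
  rw [orthProj_pythagoras (R_orth hS hφS) (R_norm_ne hS hφS), sum_conj_int (R_norm hS hφS) hc,
    hτ₁.2.2.1 φ (zspan_of_mem hφ) φ (zspan_of_mem hφ), hn, Complex.sub_re, Complex.natCast_re,
    Complex.intCast_re, sub_nonneg] at hb
  have hb' : ∑ α ∈ R φ, c α ^ 2 ≤ (n : ℤ) := by exact_mod_cast hb
  refine eq_orthProj (R_orth hS hφS) (R_norm_ne hS hφS) ?_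
  rw [sum_conj_int (R_norm hS hφS) hc, hτ₁.2.2.1 φ (zspan_of_mem hφ) φ (zspan_of_mem hφ), hn,
    le_antisymm hb' hle, Int.cast_natCast]

theorem classInner_orthProj_zero {s : Finset (G → ℂ)} {f g : G → ℂ}
    (h : ∀ α ∈ s, Cfsg.classInner α g = 0) : Cfsg.classInner (orthProj s f) g = 0 := by
  rw [orthProj, classInner_sum_left]
  exact Finset.sum_eq_zero fun α hα => by rw [classInner_smul_left, h α hα, mul_zero]

/-- coherence from orthogonal images of the members -/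
theorem coherent_of_images (U : Finset (L → ℂ)) (v : (L → ℂ) → (G → ℂ))
    (horth : ∀ φ ∈ U, ∀ ψ ∈ U, φ ≠ ψ → Cfsg.classInner φ ψ = 0)
    (hne : ∀ φ ∈ U, Cfsg.classInner φ φ ≠ 0)
    (hgen : ∀ φ ∈ U, Cfsg.IsGeneralizedCharacter G (v φ))
    (hgram : ∀ φ ∈ U, ∀ ψ ∈ U, Cfsg.classInner (v φ) (v ψ) = Cfsg.classInner φ ψ)
    (d : (L → ℂ) → ℤ) (hd : ∀ φ ∈ U, φ 1 = (d φ : ℂ)) (χ₁ : L → ℂ) (hχ₁ : χ₁ ∈ U)
    (hd₁ : d χ₁ ≠ 0)
    (hτ : Cfsg.IsLinearIsometryOn (Cfsg.zspanOn (↑U : Set (L → ℂ)) {1}ᶜ) τ)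
    (hag : ∀ φ ∈ U, τ (d χ₁ • φ - d φ • χ₁) = d χ₁ • v φ - d φ • v χ₁)
    (hnz : ∃ α ∈ Cfsg.zspanOn (↑U : Set (L → ℂ)) {1}ᶜ, α ≠ 0) :
    Cfsg.IsCoherent (↑U : Set (L → ℂ)) {1}ᶜ τ := by
  set T : (L → ℂ) → (G → ℂ) := fun f =>
    ∑ φ ∈ U, (Cfsg.classInner f φ / Cfsg.classInner φ φ) • v φ with hT
  have hTv : ∀ φ ∈ U, T φ = v φ := by
    intro φ hφ
    simp only [hT]
    rw [Finset.sum_eq_single φ, div_self (hne φ hφ), one_smul]
    · intro ψ hψ h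
      rw [horth φ hφ ψ hψ h.symm, zero_div, zero_smul]
    · exact fun h => absurd hφ h
  have hTadd : ∀ f g, T (f + g) = T f + T g := by
    intro f g
    simp only [hT, classInner_add_left, add_div, add_smul, Finset.sum_add_distrib]
  have hTsmul : ∀ (n : ℤ) f, T (n • f) = n • T f := by
    intro n f
    simp only [hT, classInner_zsmul_left, mul_div_assoc, Finset.smul_sum]
    refine Finset.sum_congr rfl fun φ _ => ?_
    rw [zsmul_eq_smul, smul_smul]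
  have hTzero : T 0 = 0 := by simpa using hTsmul 0 0
  have hTsum : ∀ (m : (L → ℂ) → ℤ), T (∑ φ ∈ U, m φ • φ) = ∑ φ ∈ U, m φ • v φ := by
    intro m
    let T' : (L → ℂ) →+ (G → ℂ) := ⟨⟨T, hTzero⟩, hTadd⟩
    show T' _ = _
    rw [map_sum]
    refine Finset.sum_congr rfl fun φ hφ => ?_
    show T (m φ • φ) = _
    rw [hTsmul, hTv φ hφ]
  have hrep : ∀ f ∈ Cfsg.zspan (↑U : Set (L → ℂ)), ∃ m : (L → ℂ) → ℤ, f = ∑ φ ∈ U, m φ • φ := by
    intro f hf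
    obtain ⟨m, -, hm⟩ := Submodule.mem_span_finset.mp hf
    exact ⟨m, hm.symm⟩
  refine ⟨hnz, T, ⟨fun f _ g _ => hTadd f g, fun f _ n => hTsmul n f, ?_, ?_⟩, ?_⟩
  · intro f hf g hg
    obtain ⟨m, rfl⟩ := hrep f hf
    obtain ⟨k, rfl⟩ := hrep g hg
    rw [hTsum, hTsum, classInner_sum_left, classInner_sum_left]
    refine Finset.sum_congr rfl fun φ hφ => ?_
    rw [classInner_sum_right, classInner_sum_right]
    refine Finset.sum_congr rfl fun ψ hψ => ?_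
    rw [classInner_zsmul_left, classInner_zsmul_left, classInner_zsmul_right,
      classInner_zsmul_right, hgram φ hφ ψ hψ]
  · intro f hf
    obtain ⟨m, rfl⟩ := hrep f hf
    rw [hTsum]
    exact isGeneralizedCharacter_sum U fun φ hφ => isGeneralizedCharacter_zsmul (hgen φ hφ) (m φ)
  · intro f hf
    obtain ⟨m, rfl⟩ := hrep f hf.1
    have hdeg : ∑ φ ∈ U, m φ * d φ = 0 := by
      have h := hf.2 1 (by simp)
      simp only [Finset.sum_apply, Pi.smul_apply, zsmul_eq_mul, Pi.mul_apply, Pi.intCast_apply] at h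
      rw [Finset.sum_congr rfl (fun φ hφ => by rw [hd φ hφ])] at h
      exact_mod_cast h
    have hγ : ∀ φ ∈ U, d χ₁ • φ - d φ • χ₁ ∈ Cfsg.zspanOn (↑U : Set (L → ℂ)) {1}ᶜ := fun φ hφ =>
      zspanOn_compl_one.mpr ⟨zspan_sub (zspan_zsmul _ (zspan_of_mem hφ))
        (zspan_zsmul _ (zspan_of_mem hχ₁)), by
        simp [hd φ hφ, hd χ₁ hχ₁, mul_comm]⟩
    have key : d χ₁ • (∑ φ ∈ U, m φ • φ) = ∑ φ ∈ U, m φ • (d χ₁ • φ - d φ • χ₁) := by
      simp only [smul_sub, smul_smul, Finset.sum_sub_distrib, Finset.smul_sum, ← Finset.sum_smul,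
        hdeg, zero_smul, sub_zero, mul_comm (d χ₁)]
    have hτkey : d χ₁ • τ (∑ φ ∈ U, m φ • φ) = d χ₁ • T (∑ φ ∈ U, m φ • φ) := by
      rw [← hτ.2.1 _ hf, key, isometry_sum hτ zspanOn_zero (fun a ha b hb => zspanOn_add ha hb) U
        (fun φ hφ => zspanOn_zsmul _ (hγ φ hφ)), hTsum]
      have e : d χ₁ • (∑ φ ∈ U, m φ • v φ) = ∑ φ ∈ U, m φ • (d χ₁ • v φ - d φ • v χ₁) := by
        simp only [smul_sub, smul_smul, Finset.sum_sub_distrib, Finset.smul_sum, ← Finset.sum_smul,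
          hdeg, zero_smul, sub_zero, mul_comm (d χ₁)]
      rw [e]
      exact Finset.sum_congr rfl fun φ hφ => by rw [hτ.2.1 _ (hγ φ hφ), hag φ hφ]
    exact (smul_right_injective (G → ℂ) hd₁ hτkey).symm

theorem isometry_mono {E E' : Set (L → ℂ)} (h : Cfsg.IsLinearIsometryOn E τ) (hsub : E' ⊆ E) :
    Cfsg.IsLinearIsometryOn E' τ :=
  ⟨fun a ha b hb => h.1 a (hsub ha) b (hsub hb), fun a ha => h.2.1 a (hsub ha),
    fun a ha b hb => h.2.2.1 a (hsub ha) b (hsub hb), fun a ha => h.2.2.2 a (hsub ha)⟩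

end CfsgLib.OddChar
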