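import Cfsg.Prelude.Def_OddOrderChar
import Cfsg.Agent.Lib.Characters.Generalized
import Cfsg.Agent.Lib.Characters.BrauerPerm

set_option autoImplicit false

/-! Irreducible characters up to sign, and decompositions of small norm virtual characters. -/

namespace CfsgLib.OddChar

open scoped Classical ComplexConjugate
open Finset CfsgLib.Characters

variable {X : Type*} [Group X]

/-- an irreducible character up to sign -/
def IsSigned (θ : X → ℂ) : Prop := Cfsg.IsIrrCharacter X θ ∨ Cfsg.IsIrrCharacter X (-θ)

theorem IsSigned.neg {θ : X → ℂ} (h : IsSigned θ) : IsSigned (-θ) := by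
  rcases h with h | h
  · right; rwa [neg_neg]
  · left; exact h

theorem IsSigned.exists_irr {θ : X → ℂ} (h : IsSigned θ) :
    ∃ χ : Cfsg.IrrCharacter X, ∃ ε : ℂ, (ε = 1 ∨ ε = -1) ∧ θ = ε • (χ : X → ℂ) := by
  rcases h with h | h
  · exact ⟨⟨θ, h⟩, 1, Or.inl rfl, (one_smul _ _).symm⟩
  · exact ⟨⟨-θ, h⟩, -1, Or.inr rfl, by simp⟩

theorem IsSigned.generalized {θ : X → ℂ} (h : IsSigned θ) : Cfsg.IsGeneralizedCharacter X θ := by
  rcases h with h | h
  · exact isGeneralizedCharacter_irr ⟨θ, h⟩
  · simpa using isGeneralizedCharacter_neg (isGeneralizedCharacter_irr ⟨-θ, h⟩)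

theorem IsSigned.classFunction {θ : X → ℂ} (h : IsSigned θ) : Cfsg.IsClassFunction X θ :=
  isClassFunction_of_isGeneralizedCharacter h.generalized

theorem IsSigned.apply_one_ne_zero {θ : X → ℂ} (h : IsSigned θ) : θ 1 ≠ 0 := by
  obtain ⟨χ, ε, hε, rfl⟩ := h.exists_irr
  rcases hε with rfl | rfl <;> simpa using irr_one_ne_zero χ

variable [Fintype X]

theorem IsSigned.norm_one {θ : X → ℂ} (h : IsSigned θ) : Cfsg.classInner θ θ = 1 := by
  obtain ⟨χ, ε, hε, rfl⟩ := h.exists_irr
  rcases hε with rfl | rfl <;>
    simp [classInner_smul_left, classInner_neg_left, classInner_neg_right, classInner_irr_self χ.2]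

theorem isSigned_of_norm_one {θ : X → ℂ} (h : Cfsg.IsGeneralizedCharacter X θ)
    (h1 : Cfsg.classInner θ θ = 1) : IsSigned θ := by
  obtain ⟨χ, e | e⟩ := eq_irr_or_neg_of_classInner_self_eq_one h h1
  · exact Or.inl (e ▸ χ.2)
  · exact Or.inr (by rw [e, neg_neg]; exact χ.2)

theorem IsSigned.cases {α β : X → ℂ} (ha : IsSigned α) (hb : IsSigned β) :
    α = β ∨ α = -β ∨ Cfsg.classInner α β = 0 := by
  rcases ha with ha | ha <;> rcases hb with hb | hb
  · by_cases e : α = β
    · exact Or.inl e
    · exact Or.inr (Or.inr (classInner_irr_ne ha hb e))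
  · by_cases e : α = -β
    · exact Or.inr (Or.inl e)
    · exact Or.inr (Or.inr (by
        have := classInner_irr_ne ha hb e
        rwa [classInner_neg_right, neg_eq_zero] at this))
  · by_cases e : -α = β
    · exact Or.inr (Or.inl (by rw [← e, neg_neg]))
    · exact Or.inr (Or.inr (by
        have := classInner_irr_ne ha hb e
        rwa [classInner_neg_left, neg_eq_zero] at this))
  · by_cases e : α = β
    · exact Or.inl e
    · exact Or.inr (Or.inr (by
        have := classInner_irr_ne ha hb (fun h => e (neg_inj.mp h))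
        rwa [classInner_neg_left, classInner_neg_right, neg_neg] at this))

theorem IsSigned.eq_of_inner_eq_one {α β : X → ℂ} (ha : IsSigned α) (hb : IsSigned β)
    (h : Cfsg.classInner α β = 1) : α = β := by
  rcases ha.cases hb with e | e | e
  · exact e
  · exfalso
    rw [e, classInner_neg_left, hb.norm_one] at h
    norm_num at h
  · rw [e] at h; norm_num at h

/-- four signed irreducibles with a degree condition -/
theorem four_signed {α β γ δ : X → ℂ} (hα : IsSigned α) (hβ : IsSigned β) (hγ : IsSigned γ)
    (hδ : IsSigned δ) {u v : ℂ} (hu : u ≠ 0) (hv : v ≠ 0)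
    (hab : Cfsg.classInner α β = 0) (hcd : Cfsg.classInner γ δ = 0)
    (hu' : conj u = u) (hv' : conj v = v)
    (hmix : Cfsg.classInner (α - β) (u • γ - v • δ) = 0) (h1 : α 1 = β 1)
    (h2 : u * γ 1 = v * δ 1) :
    Cfsg.classInner α γ = 0 ∧ Cfsg.classInner α δ = 0 ∧ Cfsg.classInner β γ = 0 ∧
      Cfsg.classInner β δ = 0 := by
  have hγ0 := hγ.apply_one_ne_zero
  have hdc : Cfsg.classInner δ γ = 0 := by rw [classInner_conj_symm, hcd, map_zero]
  have hba : Cfsg.classInner β α = 0 := by rw [classInner_conj_symm, hab, map_zero]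
  have m : u * Cfsg.classInner α γ - v * Cfsg.classInner α δ -
      (u * Cfsg.classInner β γ - v * Cfsg.classInner β δ) = 0 := by
    rw [← hmix, classInner_sub_left, classInner_sub_right, classInner_sub_right,
      classInner_smul_right, classInner_smul_right, classInner_smul_right, classInner_smul_right,
      hu', hv']
  have key : ∀ {ξ η : X → ℂ}, IsSigned ξ → IsSigned η → Cfsg.classInner η ξ = 0 → ξ 1 = η 1 →
      u * Cfsg.classInner ξ γ - v * Cfsg.classInner ξ δ -
        (u * Cfsg.classInner η γ - v * Cfsg.classInner η δ) = 0 →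
      Cfsg.classInner ξ γ = 0 := by
    intro ξ η hξ hη horth he hm
    rcases hξ.cases hγ with e | e | e
    · subst e
      rw [hξ.norm_one, hcd, horth] at hm
      rcases hη.cases hδ with f | f | f
      · subst f
        rw [hη.norm_one] at hm
        have hvu : v = -u := by linear_combination hm
        rw [hvu, ← he] at h2
        exact absurd ((mul_eq_zero.mp (show (2 * u) * ξ 1 = 0 by linear_combination h2)).resolve_left
          (by simp [hu])) hγ0
      · subst f
        rw [classInner_neg_left, hδ.norm_one] at hm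
        have hvu : v = u := by linear_combination -hm
        rw [hvu] at h2
        simp only [Pi.neg_apply] at he
        have : δ 1 = ξ 1 := mul_left_cancel₀ hu h2.symm
        rw [this] at he
        exact absurd ((mul_eq_zero.mp (show (2 : ℂ) * ξ 1 = 0 by linear_combination he)).resolve_left
          two_ne_zero) hγ0
      · rw [f] at hm
        exact absurd (by linear_combination hm) hu
    · subst e
      rw [classInner_neg_right, neg_eq_zero] at horth
      rw [classInner_neg_left, classInner_neg_left, hγ.norm_one, hcd, horth] at hm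
      simp only [Pi.neg_apply] at he
      rcases hη.cases hδ with f | f | f
      · subst f
        rw [hη.norm_one] at hm
        have hvu : v = u := by linear_combination hm
        rw [hvu] at h2
        have : η 1 = γ 1 := mul_left_cancel₀ hu h2.symm
        rw [this] at he
        exact absurd ((mul_eq_zero.mp (show (2 : ℂ) * γ 1 = 0 by linear_combination -he)).resolve_left
          two_ne_zero) hγ0
      · subst f
        rw [classInner_neg_left, hδ.norm_one] at hm
        have hvu : v = -u := by linear_combination -hm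
        simp only [Pi.neg_apply, neg_inj] at he
        rw [hvu, ← he] at h2
        exact absurd ((mul_eq_zero.mp (show (2 * u) * γ 1 = 0 by linear_combination h2)).resolve_left
          (by simp [hu])) hγ0
      · rw [f] at hm
        exact absurd (by linear_combination -hm) hu
    · exact e
  have hag : Cfsg.classInner α γ = 0 := key hα hβ hba h1 m
  have hbg : Cfsg.classInner β γ = 0 := key hβ hα hab h1.symm (by linear_combination -m)
  rw [hag, hbg] at m
  have hm : Cfsg.classInner α δ = Cfsg.classInner β δ :=
    mul_left_cancel₀ hv (by linear_combination -m)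
  refine ⟨hag, ?_, hbg, ?_⟩
  · rcases hα.cases hδ with e | e | e
    · subst e
      rw [hα.norm_one] at hm
      have := hβ.eq_of_inner_eq_one hα hm.symm
      rw [this, hα.norm_one] at hab
      norm_num at hab
    · subst e
      rw [classInner_neg_left, hδ.norm_one] at hm
      have := hβ.eq_of_inner_eq_one hδ.neg (by rw [classInner_neg_right, ← hm, neg_neg])
      rw [this, classInner_neg_left, classInner_neg_right, hδ.norm_one] at hab
      norm_num at hab
    · exact e
  · rw [← hm]
    rcases hα.cases hδ with e | e | e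
    · subst e
      rw [hα.norm_one] at hm
      have := hβ.eq_of_inner_eq_one hα hm.symm
      rw [this, hα.norm_one] at hab
      norm_num at hab
    · subst e
      rw [classInner_neg_left, hδ.norm_one] at hm
      have := hβ.eq_of_inner_eq_one hδ.neg (by rw [classInner_neg_right, ← hm, neg_neg])
      rw [this, classInner_neg_left, classInner_neg_right, hδ.norm_one] at hab
      norm_num at hab
    · exact e

/-- a virtual character of norm at most three is a sum of that many orthogonal signed irreducibles -/
theorem exists_signed_finset {θ : X → ℂ} (h : Cfsg.IsGeneralizedCharacter X θ) {n : ℕ} (hn : n ≤ 3)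
    (hθ : Cfsg.classInner θ θ = n) :
    ∃ s : Finset (X → ℂ), s.card = n ∧ (∀ f ∈ s, IsSigned f) ∧
      (∀ f ∈ s, ∀ g ∈ s, Cfsg.classInner f g = if f = g then 1 else 0) ∧ θ = ∑ f ∈ s, f := by
  have hc := isClassFunction_of_isGeneralizedCharacter h
  choose m hm using (isGeneralizedCharacter_iff.mp h).2
  rw [classInner_self_eq_sum_sq hc hm] at hθ
  have hsum : ∑ χ, m χ ^ 2 = (n : ℤ) := by exact_mod_cast hθ
  have hunit : ∀ χ, m χ ≠ 0 → m χ = 1 ∨ m χ = -1 := by
    intro χ hχ
    have := Finset.single_le_sum (f := fun χ => m χ ^ 2) (fun _ _ => sq_nonneg _) (mem_univ χ)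
    rw [hsum] at this
    have h2 : m χ ≤ 1 := by nlinarith
    have h3 : -1 ≤ m χ := by nlinarith
    omega
  set t := univ.filter (fun χ => m χ ≠ 0) with ht
  have hinj : Set.InjOn (fun χ : Cfsg.IrrCharacter X => (m χ : ℂ) • (χ : X → ℂ)) t := by
    intro χ hχ ψ hψ e
    by_contra hne
    have h1 : Cfsg.classInner ((m χ : ℂ) • (χ : X → ℂ)) (χ : X → ℂ) =
      Cfsg.classInner ((m ψ : ℂ) • (ψ : X → ℂ)) (χ : X → ℂ) := congrArg (Cfsg.classInner · _) e
    rw [classInner_smul_left, classInner_smul_left, classInner_irr, classInner_irr, if_pos rfl,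
      if_neg (Ne.symm hne), mul_one, mul_zero] at h1
    exact (mem_filter.mp hχ).2 (by exact_mod_cast h1)
  refine ⟨t.image (fun χ => (m χ : ℂ) • (χ : X → ℂ)), ?_, ?_, ?_, ?_⟩
  · rw [Finset.card_image_of_injOn hinj]
    have e : ∑ χ, m χ ^ 2 = ∑ χ ∈ t, (1 : ℤ) := by
      rw [ht, Finset.sum_filter]
      refine Finset.sum_congr rfl fun χ _ => ?_
      split_ifs with h0
      · rcases hunit χ h0 with e | e <;> simp [e]
      · simp [not_not.mp h0]
    rw [hsum, Finset.sum_const, nsmul_eq_mul, mul_one] at e
    exact_mod_cast e.symm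
  · intro f hf
    obtain ⟨χ, hχ, rfl⟩ := Finset.mem_image.mp hf
    rcases hunit χ (mem_filter.mp hχ).2 with e | e
    · left; simpa [e] using χ.2
    · right; simpa [e] using χ.2
  · intro f hf g hg
    obtain ⟨χ, hχ, rfl⟩ := Finset.mem_image.mp hf
    obtain ⟨ψ, hψ, rfl⟩ := Finset.mem_image.mp hg
    by_cases e : χ = ψ
    · subst e
      rw [if_pos rfl, classInner_smul_left, classInner_smul_right, classInner_irr, if_pos rfl]
      rcases hunit χ (mem_filter.mp hχ).2 with e | e <;> simp [e]
    · rw [if_neg (fun hh => e (hinj hχ hψ hh)), classInner_smul_left, classInner_smul_right,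
        classInner_irr, if_neg e]
      simp
  · rw [Finset.sum_image hinj]
    conv_lhs => rw [classFunction_eq_sum hc]
    rw [ht, Finset.sum_filter]
    refine Finset.sum_congr rfl fun χ _ => ?_
    rw [hm]
    split_ifs with h0
    · rfl
    · simp [not_not.mp h0]

theorem conjFun_irr {χ : X → ℂ} (h : Cfsg.IsIrrCharacter X χ) :
    Cfsg.IsIrrCharacter X (Cfsg.conjFun χ) :=
  CfsgLib.BrauerPerm.isIrrCharacter_conj h

theorem conjFun_one {χ : X → ℂ} (h : Cfsg.IsCharacter X χ) : Cfsg.conjFun χ 1 = χ 1 := by
  obtain ⟨n, hn⟩ := exists_degree h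
  simp [Cfsg.conjFun, hn]

end CfsgLib.OddChar
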