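import Cfsg.Agent.Lib.OddChar.InducedSet
import Cfsg.Agent.Lib.OddChar.Signed
import Cfsg.Agent.S1516
import Cfsg.Agent.S1517

set_option autoImplicit false
set_option linter.style.haveILetI false
set_option linter.unusedSectionVars false

/-! Extending coherence along sums of `d²/n`. -/

namespace CfsgLib.OddChar

open scoped Classical ComplexConjugate
open Finset CfsgLib.Characters

variable {L : Type*} [Group L] [Fintype L] {G : Type*} [Group G] [Fintype G]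
  {S : Set (L → ℂ)} {τ : (L → ℂ) → (G → ℂ)} {R : (L → ℂ) → Finset (G → ℂ)}

theorem coherent_subset {S₁ S₂ : Set (L → ℂ)} (h : Cfsg.IsCoherent S₂ {1}ᶜ τ) (hsub : S₁ ⊆ S₂)
    (hnz : ∃ α ∈ Cfsg.zspanOn S₁ {1}ᶜ, α ≠ 0) : Cfsg.IsCoherent S₁ {1}ᶜ τ := by
  obtain ⟨-, τ₁, hτ₁, hext⟩ := h
  exact ⟨hnz, τ₁, isometry_mono hτ₁ (zspan_mono hsub),
    fun α hα => hext α (zspanOn_mono hsub _ hα)⟩

theorem sys_nonzero_zspanOn (hS : Cfsg.IsCoherenceSystem S τ R) {T : Set (L → ℂ)} {χ : L → ℂ}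
    (hχS : χ ∈ S) (hχ : χ ∈ T) (hc : Cfsg.conjFun χ ∈ T) :
    ∃ α ∈ Cfsg.zspanOn T {1}ᶜ, α ≠ 0 :=
  ⟨χ - Cfsg.conjFun χ, zspanOn_compl_one.mpr ⟨zspan_sub (zspan_of_mem hχ) (zspan_of_mem hc),
      by rw [Pi.sub_apply, sys_conj_one hS hχS, sub_self]⟩,
    sub_ne_zero.mpr (hS.conj_ne χ hχS).symm⟩

theorem sys_sub (hS : Cfsg.IsCoherenceSystem S τ R) {T : Set (L → ℂ)} (hT : T ⊆ S)
    (hne : T.Nonempty) (hc : ∀ χ ∈ T, Cfsg.conjFun χ ∈ T) : Cfsg.IsCoherenceSystem T τ R where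
  nonempty := hne
  isCharacter χ h := hS.isCharacter χ (hT h)
  conj_mem := hc
  conj_ne χ h := hS.conj_ne χ (hT h)
  isometry := isometry_mono hS.isometry (zspanOn_mono hT _)
  map_one α h := hS.map_one α (zspanOn_mono hT _ h)
  orthogonal χ h φ h' := hS.orthogonal χ (hT h) φ (hT h')
  orthonormal χ h := hS.orthonormal χ (hT h)
  virtual χ h := hS.virtual χ (hT h)
  sum_eq χ h := hS.sum_eq χ (hT h)
  disjoint χ h φ h' := hS.disjoint χ (hT h) φ (hT h')

theorem coherent_add_all (hS : Cfsg.IsCoherenceSystem S τ R) (χ₁ : L → ℂ) (S₁ : Finset (L → ℂ)) :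
    (↑S₁ : Set (L → ℂ)) ⊆ S → (∀ φ ∈ S₁, Cfsg.conjFun φ ∈ S₁) →
    Cfsg.IsCoherent (↑S₁ : Set (L → ℂ)) {1}ᶜ τ → χ₁ ∈ S₁ →
    ∀ T : Finset (L → ℂ), (↑T : Set (L → ℂ)) ⊆ S → (∀ φ ∈ T, Cfsg.conjFun φ ∈ T) →
      (∀ χ ∈ T, natDeg χ₁ ∣ natDeg χ ∧ (2 * natDeg χ * natDeg χ₁ : ℝ) <
        ∑ φ ∈ S₁, ((natDeg φ : ℝ) ^ 2 / (natNorm φ : ℝ))) →
      Cfsg.IsCoherent (↑(S₁ ∪ T) : Set (L → ℂ)) {1}ᶜ τ := by
  intro hS₁ hS₁c hcoh hχ₁ T
  induction T using Finset.strongInductionOn generalizing S₁ with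
  | _ T ih =>
    intro hT hTc hcond
    by_cases hsub : T ⊆ S₁
    · rwa [Finset.union_eq_left.mpr hsub]
    obtain ⟨χ, hχT, hχ⟩ := Finset.not_subset.mp hsub
    have hχ' : Cfsg.conjFun χ ∉ S₁ := fun h => hχ (by simpa [conjFun_conjFun] using hS₁c _ h)
    set S₂ := S₁ ∪ {χ, Cfsg.conjFun χ} with hS₂
    have hcoh₂ : Cfsg.IsCoherent (↑S₂ : Set (L → ℂ)) {1}ᶜ τ := by
      have := Cfsg.Agent.S1516.result S τ R hS natDeg natNorm
        (fun φ h => natDeg_spec (hS.isCharacter φ h)) (fun φ h => natNorm_spec (hS.isCharacter φ h))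
        S₁ hS₁ hS₁c hcoh χ (hT hχT) hχ hχ' χ₁ hχ₁ (hcond χ hχT).1 (hcond χ hχT).2
      simpa [hS₂] using this
    have hsub₂ : (↑S₂ : Set (L → ℂ)) ⊆ S := by
      intro φ hφ
      simp only [hS₂, Finset.mem_coe, Finset.mem_union, Finset.mem_insert, Finset.mem_singleton] at hφ
      rcases hφ with h | rfl | rfl
      exacts [hS₁ h, hT hχT, hS.conj_mem χ (hT hχT)]
    have hS₂c : ∀ φ ∈ S₂, Cfsg.conjFun φ ∈ S₂ := by
      intro φ hφ
      simp only [hS₂, Finset.mem_union, Finset.mem_insert, Finset.mem_singleton] at hφ ⊢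
      rcases hφ with h | rfl | rfl
      exacts [Or.inl (hS₁c φ h), Or.inr (Or.inr rfl), Or.inr (Or.inl (conjFun_conjFun χ))]
    set T' := T \ {χ, Cfsg.conjFun χ} with hT'
    have hlt : T' ⊂ T := Finset.ssubset_iff_of_subset sdiff_subset |>.mpr ⟨χ, hχT, by simp [hT']⟩
    have hT'c : ∀ φ ∈ T', Cfsg.conjFun φ ∈ T' := by
      intro φ hφ
      simp only [hT', Finset.mem_sdiff, Finset.mem_insert, Finset.mem_singleton, not_or] at hφ ⊢
      refine ⟨hTc φ hφ.1, fun e => hφ.2.2 (by rw [← e, conjFun_conjFun]), fun e => hφ.2.1 ?_⟩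
      rw [← conjFun_conjFun φ, e, conjFun_conjFun]
    have h := ih T' hlt S₂ hsub₂ hS₂c hcoh₂ (Finset.mem_union_left _ hχ₁)
      (fun φ hφ => hT (Finset.sdiff_subset hφ)) hT'c fun φ hφ =>
      ⟨(hcond φ (Finset.sdiff_subset hφ)).1, (hcond φ (Finset.sdiff_subset hφ)).2.trans_le
        (Finset.sum_le_sum_of_subset_of_nonneg Finset.subset_union_left
          fun _ _ _ => div_nonneg (sq_nonneg _) (Nat.cast_nonneg _))⟩
    have e : S₂ ∪ T' = S₁ ∪ T := by
      ext φ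
      simp only [hS₂, hT', Finset.mem_union, Finset.mem_sdiff, Finset.mem_insert,
        Finset.mem_singleton]
      constructor
      · rintro ((h | rfl | rfl) | h)
        exacts [Or.inl h, Or.inr hχT, Or.inr (hTc χ hχT), Or.inr h.1]
      · tauto
    rwa [e] at h

section Above

variable (K : Subgroup L) [hK : K.Normal]

theorem indAbove_conj (A : Subgroup L) {φ : L → ℂ} (h : φ ∈ Cfsg.inducedIrrAbove K A) :
    Cfsg.conjFun φ ∈ Cfsg.inducedIrrAbove K A := by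
  obtain ⟨θ, hθ, h1, h2, rfl⟩ := h
  refine ⟨Cfsg.conjFun θ, conjFun_irr hθ, fun e => h1 ?_, fun a ha => ?_, ?_⟩
  · rw [← conjFun_conjFun' θ, e]
    funext x
    simp [Cfsg.conjFun]
  · show conj (θ a) = conj (θ 1)
    rw [h2 a ha]
  · funext g
    exact (CfsgLib.Induction.indFun_conj_apply K θ g).symm
where
  conjFun_conjFun' (f : K → ℂ) : Cfsg.conjFun (Cfsg.conjFun f) = f :=
    funext fun _ => Complex.conj_conj _

theorem indAbove_mono {A B : Subgroup L} (h : B ≤ A) :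
    Cfsg.inducedIrrAbove K A ⊆ Cfsg.inducedIrrAbove K B := by
  rintro φ ⟨θ, hθ, h1, h2, rfl⟩
  exact ⟨θ, hθ, h1, fun a ha => h2 a (h ha), rfl⟩

theorem indAbove_subset_bot (A : Subgroup L) :
    Cfsg.inducedIrrAbove K A ⊆ Cfsg.inducedIrrAbove K ⊥ := indAbove_mono K bot_le

theorem exists_linear_above (hsolv : Group.IsSolvable K) (A : Subgroup L) [A.Normal] (hAK : A < K) :
    ∃ φ ∈ Cfsg.inducedIrrAbove K A, natDeg φ = K.index := by
  set N := A.subgroupOf K with hN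
  haveI : Nontrivial (K ⧸ N) := by
    rw [QuotientGroup.nontrivial_iff, hN, ne_eq, Subgroup.subgroupOf_eq_top]
    exact fun h => hAK.ne (le_antisymm hAK.le h)
  haveI : Group.IsSolvable K := hsolv
  haveI : Group.IsSolvable (K ⧸ N) :=
    Group.isSolvable_of_surjective (f := QuotientGroup.mk' N) (QuotientGroup.mk'_surjective N)
  haveI : Nontrivial (Abelianization (K ⧸ N)) :=
    QuotientGroup.nontrivial_iff.mpr (Group.IsSolvable.commutator_lt_top_of_nontrivial (K ⧸ N)).ne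
  obtain ⟨a, ha⟩ := exists_ne (1 : Abelianization (K ⧸ N))
  obtain ⟨f, hf⟩ := CommGroup.exists_apply_ne_one_of_hasEnoughRootsOfUnity
    (Abelianization (K ⧸ N)) ℂ ha
  let g : K →* ℂˣ := (f.comp Abelianization.of).comp (QuotientGroup.mk' N)
  refine ⟨_, ⟨fun k => (g k : ℂ), isIrrCharacter_of_hom g, fun e => hf ?_, fun k hk => ?_, rfl⟩, ?_⟩
  · obtain ⟨q, rfl⟩ := QuotientGroup.mk_surjective a
    obtain ⟨k, rfl⟩ := QuotientGroup.mk_surjective q
    exact Units.val_eq_one.mp (congrFun e k)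
  · have : (k : K ⧸ N) = 1 := (QuotientGroup.eq_one_iff k).mpr (Subgroup.mem_subgroupOf.mpr hk)
    simp [g, this]
  · rw [natDeg_indFun (isCharacter_of_irr (isIrrCharacter_of_hom g))]
    simp [natDeg]

/-- coherence passes from `A` to `B` along a degree bound -/
theorem coherent_step (hsolv : Group.IsSolvable K)
    (hS : Cfsg.IsCoherenceSystem (Cfsg.inducedIrrAbove K ⊥) τ R) (A B : Subgroup L) [A.Normal]
    [B.Normal] (hAK : A < K) (hBK : B < K)
    (hA : Cfsg.IsCoherent (Cfsg.inducedIrrAbove K A) {1}ᶜ τ)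
    (hdeg : ∀ θ : K → ℂ, Cfsg.IsIrrCharacter K θ → (∀ a : K, (a : L) ∈ B → θ a = θ 1) →
      (2 * (K.index * natDeg θ) : ℝ) < (A.relIndex K : ℝ) - 1) :
    Cfsg.IsCoherent (Cfsg.inducedIrrAbove K B) {1}ᶜ τ := by
  haveI : Fintype K := Fintype.ofFinite K
  obtain ⟨χ₁, hχ₁, hd₁⟩ := exists_linear_above K hsolv A hAK
  obtain ⟨φB, hφB, -⟩ := exists_linear_above K hsolv B hBK
  have key : Cfsg.IsCoherent (↑(indAboveFinset K A ∪ indAboveFinset K B) : Set (L → ℂ)) {1}ᶜ τ := by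
    refine coherent_add_all hS χ₁ (indAboveFinset K A)
      (by rw [coe_indAboveFinset]; exact indAbove_subset_bot K A)
      (fun φ h => ?_) (by rw [coe_indAboveFinset]; exact hA) ?_ _
      (by rw [coe_indAboveFinset]; exact indAbove_subset_bot K B) (fun φ h => ?_) (fun χ h => ?_)
    · rw [← Finset.mem_coe, coe_indAboveFinset] at h ⊢
      exact indAbove_conj K A h
    · rw [← Finset.mem_coe, coe_indAboveFinset]; exact hχ₁
    · rw [← Finset.mem_coe, coe_indAboveFinset] at h ⊢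
      exact indAbove_conj K B h
    · rw [← Finset.mem_coe, coe_indAboveFinset] at h
      obtain ⟨θ, hθ, -, hker, rfl⟩ := h
      rw [natDeg_indFun (isCharacter_of_irr hθ), hd₁]
      refine ⟨dvd_mul_right _ _, ?_⟩
      rw [sum_indAbove hK A]
      have he : (0 : ℝ) < K.index :=
        Nat.cast_pos.mpr (Nat.pos_of_ne_zero Subgroup.index_ne_zero_of_finite)
      have := hdeg θ hθ hker
      push_cast
      nlinarith
  refine coherent_subset key (fun φ h => ?_)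
    (sys_nonzero_zspanOn hS (indAbove_subset_bot K B hφB) hφB (indAbove_conj K B hφB))
  rw [Finset.coe_union, coe_indAboveFinset, coe_indAboveFinset]
  exact Or.inr h

/-- coherence passes down a central section -/
theorem coherent_central_step (hsolv : Group.IsSolvable K)
    (hS : Cfsg.IsCoherenceSystem (Cfsg.inducedIrrAbove K ⊥) τ R) (A B C D : Subgroup L) [A.Normal]
    [B.Normal] (hAK : A < K) (hBK : B < K) (hDC : D ≤ C) (hCK : C ≤ K)
    (hcent : ∀ x ∈ D, ∀ y ∈ C, x * y * x⁻¹ * y⁻¹ ∈ B)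
    (hA : Cfsg.IsCoherent (Cfsg.inducedIrrAbove K A) {1}ᶜ τ)
    (hlt : 4 * C.index ^ 2 * D.relIndex C < (A.relIndex K - 1) ^ 2) :
    Cfsg.IsCoherent (Cfsg.inducedIrrAbove K B) {1}ᶜ τ := by
  refine coherent_step K hsolv hS A B hAK hBK hA fun θ hθ hker => ?_
  have hb := sq_natDeg_le_section hθ (C.subgroupOf K) (D.subgroupOf K) (fun d hd c hc =>
    hker _ (by
      simpa using hcent d (Subgroup.mem_subgroupOf.mp hd) c (Subgroup.mem_subgroupOf.mp hc)))
  rw [Subgroup.relIndex_subgroupOf hCK] at hb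
  have hC : C.index = (C.subgroupOf K).index * K.index := (Subgroup.relIndex_mul_index hCK).symm
  have h1 : 1 ≤ A.relIndex K := Nat.one_le_iff_ne_zero.mpr (Subgroup.index_ne_zero_of_finite (H := A.subgroupOf K))
  have h2 : (2 * (K.index * natDeg θ)) ^ 2 < (A.relIndex K - 1) ^ 2 := by
    refine lt_of_le_of_lt ?_ hlt
    rw [hC, mul_pow, mul_pow]
    have := Nat.mul_le_mul_left (4 * K.index ^ 2) hb
    ring_nf at this ⊢
    linarith
  have h3 := lt_of_pow_lt_pow_left₀ 2 (Nat.zero_le _) h2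
  have h4 : ((2 * (K.index * natDeg θ) : ℕ) : ℝ) < ((A.relIndex K - 1 : ℕ) : ℝ) := Nat.cast_lt.mpr h3
  rw [Nat.cast_sub h1] at h4
  push_cast at h4
  exact h4

end Above

end CfsgLib.OddChar
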