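import Cfsg.Agent.Lib.OddChar.CoherenceExtend

set_option autoImplicit false
set_option linter.style.haveILetI false

/-! Coherence along a nilpotent section. -/

namespace CfsgLib.OddChar

open Cfsg

theorem commutator_sup_lt {L : Type*} [Group L] {M A H : Subgroup L} [A.Normal]
    [(M.subgroupOf H).Normal] (hnil : Group.IsNilpotent (↥H ⧸ M.subgroupOf H)) (hMA : M < A)
    (hAH : A ≤ H) : ⁅A, H⁆ ⊔ M < A := by
  have hle : ⁅A, H⁆ ⊔ M ≤ A := sup_le (Subgroup.commutator_le_left A H) hMA.le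
  refine lt_of_le_of_ne hle fun e => hMA.not_ge ?_
  set f := QuotientGroup.mk' (M.subgroupOf H) with hf
  set A' := A.subgroupOf H with hA'
  have hA : A' = ⁅A', (⊤ : Subgroup H)⁆ ⊔ M.subgroupOf H := by
    apply Subgroup.map_injective (f := H.subtype) Subtype.val_injective
    rw [Subgroup.map_sup, Subgroup.map_commutator, hA', Subgroup.subgroupOf_map_subtype,
      Subgroup.subgroupOf_map_subtype, ← MonoidHom.range_eq_map, Subgroup.range_subtype,
      inf_eq_left.mpr hAH, inf_eq_left.mpr (hMA.le.trans hAH), e]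
  have htop : (⊤ : Subgroup H).map f = ⊤ :=
    Subgroup.map_top_of_surjective f (QuotientGroup.mk'_surjective _)
  have hB : A'.map f = ⁅A'.map f, (⊤ : Subgroup (↥H ⧸ M.subgroupOf H))⁆ := by
    conv_lhs => rw [hA]
    rw [Subgroup.map_sup, Subgroup.map_commutator, htop, hf, QuotientGroup.map_mk'_self, sup_bot_eq]
  have hall : ∀ n, A'.map f ≤ (⊤ : Subgroup (↥H ⧸ M.subgroupOf H)).lowerCentralSeries n := by
    intro n
    induction n with
    | zero => exact le_top
    | succ n ih =>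
      rw [hB, Subgroup.lowerCentralSeries_succ]
      exact Subgroup.commutator_mono ih le_rfl
  obtain ⟨n, hn⟩ := Subgroup.nilpotent_iff_lowerCentralSeries.mp hnil
  have h0 : A'.map f = ⊥ := eq_bot_iff.mpr (hn ▸ hall n)
  rw [Subgroup.map_eq_bot_iff, hf, QuotientGroup.ker_mk'] at h0
  intro a ha
  exact Subgroup.mem_subgroupOf.mp (h0 (Subgroup.mem_subgroupOf.mpr ha : (⟨a, hAH ha⟩ : H) ∈ A'))

theorem coherent_nilpotent_descend {L : Type*} [Group L] [Fintype L] {G : Type*} [Group G]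
    [Fintype G] (K : Subgroup L) [K.Normal] (hsolv : Group.IsSolvable K)
    {τ : (L → ℂ) → (G → ℂ)} {R : (L → ℂ) → Finset (G → ℂ)}
    (hS : Cfsg.IsCoherenceSystem (Cfsg.inducedIrrAbove K ⊥) τ R) (M H : Subgroup L) [M.Normal]
    [H.Normal] (hHK : H ≤ K) [(M.subgroupOf H).Normal]
    (hnil : Group.IsNilpotent (↥H ⧸ M.subgroupOf H)) :
    ∀ (A : Subgroup L) [A.Normal], M ≤ A → A ≤ H → 4 * K.index ^ 2 + 1 < A.relIndex H →
      Cfsg.IsCoherent (Cfsg.inducedIrrAbove K A) {1}ᶜ τ →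
      Cfsg.IsCoherent (Cfsg.inducedIrrAbove K M) {1}ᶜ τ := by
  intro A
  induction hn : Nat.card A using Nat.strong_induction_on generalizing A with
  | _ n ih =>
    intro _ hMA hAH hbig hA
    rcases hMA.eq_or_lt with rfl | hlt
    · exact hA
    have hAlt : A < H := lt_of_le_of_ne hAH (by rintro rfl; rw [Subgroup.relIndex_self] at hbig; omega)
    have hB : ⁅A, H⁆ ⊔ M < A := commutator_sup_lt hnil hlt hAH
    haveI : (⁅A, H⁆ ⊔ M).Normal := inferInstance
    have hbig' : 4 * K.index ^ 2 + 1 < (⁅A, H⁆ ⊔ M).relIndex H := by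
      refine hbig.trans_le (Nat.le_of_dvd ?_ (Subgroup.relIndex_dvd_of_le_left H hB.le))
      exact Nat.pos_of_ne_zero (Subgroup.index_ne_zero_of_finite (H := (⁅A, H⁆ ⊔ M).subgroupOf H))
    refine ih _ ?_ (⁅A, H⁆ ⊔ M) rfl le_sup_right (hB.le.trans hAH) hbig' ?_
    · rw [← hn]
      rw [← SetLike.coe_ssubset_coe] at hB
      exact Set.ncard_lt_ncard hB (Set.toFinite _)
    refine coherent_central_step K hsolv hS A (⁅A, H⁆ ⊔ M) H A (hAlt.trans_le hHK)
      ((hB.trans hAlt).trans_le hHK) hAH hHK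
      (fun x hx y hy => Subgroup.mem_sup_left (Subgroup.commutator_mem_commutator hx hy)) hA ?_
    rw [← Subgroup.relIndex_mul_index hHK, ← Subgroup.relIndex_mul_relIndex A H K hAH hHK]
    have hu : 1 ≤ H.relIndex K :=
      Nat.one_le_iff_ne_zero.mpr (Subgroup.index_ne_zero_of_finite (H := H.subgroupOf K))
    generalize H.relIndex K = u at hu ⊢
    generalize A.relIndex H = h at hbig ⊢
    generalize K.index = e at hbig ⊢
    have h1 : u * (h - 1) ≤ h * u - 1 := by
      rw [Nat.mul_sub, mul_one, mul_comm h u]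
      omega
    refine lt_of_lt_of_le ?_ (Nat.pow_le_pow_left h1 2)
    obtain ⟨t, rfl⟩ : ∃ t, h = 4 * e ^ 2 + 2 + t := ⟨h - (4 * e ^ 2 + 2), by omega⟩
    have : 4 * e ^ 2 + 2 + t - 1 = 4 * e ^ 2 + 1 + t := by omega
    rw [this]
    have hu2 : 0 < u ^ 2 := by positivity
    nlinarith [sq_nonneg (e : ℤ), mul_nonneg (Nat.zero_le (u ^ 2)) (Nat.zero_le t)]

end CfsgLib.OddChar
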