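import Cfsg.Agent.Lib.OddChar.CyclicTI

set_option autoImplicit false
set_option linter.style.haveILetI false

/-! Coefficients of class functions along a cyclic TI family. -/

namespace CfsgLib.OddChar

open scoped Classical ComplexConjugate
open Finset CfsgLib.Characters

variable {G : Type*} [Group G] [Fintype G] {W₁ W₂ : Subgroup G}

theorem family_coeff (χ : (↥(W₁ ⊔ W₂) →* ℂˣ) → (G → ℂ)) (hχ : Cfsg.IsCyclicTIFamily W₁ W₂ χ)
    [Fintype ↥(W₁ ⊔ W₂)] {θ : G → ℂ} (hθ : Cfsg.IsClassFunction G θ)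
    {φ ψ : ↥(W₁ ⊔ W₂) →* ℂˣ} (hφ : TrivR φ) (hψ : TrivL ψ) :
    Cfsg.classInner θ (χ (φ * ψ)) - Cfsg.classInner θ (χ φ) - Cfsg.classInner θ (χ ψ) +
      Cfsg.classInner θ (χ 1) =
      Cfsg.classInner (fun w : ↥(W₁ ⊔ W₂) => θ w) (ctiAlpha φ ψ) := by
  by_cases hφ1 : φ = 1
  · subst hφ1
    have e : ctiAlpha (1 : ↥(W₁ ⊔ W₂) →* ℂˣ) ψ = 0 := by funext w; simp [ctiAlpha]
    rw [e, classInner_zero_right, show (1 : ↥(W₁ ⊔ W₂) →* ℂˣ) * ψ = ψ from one_mul ψ]
    ring
  by_cases hψ1 : ψ = 1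
  · subst hψ1
    have e : ctiAlpha φ (1 : ↥(W₁ ⊔ W₂) →* ℂˣ) = 0 := by funext w; simp [ctiAlpha]
    rw [e, classInner_zero_right, show φ * (1 : ↥(W₁ ⊔ W₂) →* ℂˣ) = φ from mul_one φ]
    ring
  rw [← CfsgLib.Induction.classInner_indFun_right _ _ hθ]
  unfold ctiAlpha
  rw [hχ.induced_eq φ ψ hφ1 hψ1 hφ hψ]
  have e : (fun g => 1 - χ φ g - χ ψ g + χ (φ * ψ) g) = χ 1 - χ φ - χ ψ + χ (φ * ψ) := by
    rw [hχ.map_one]; rfl
  rw [e, classInner_add_right, classInner_sub_right, classInner_sub_right]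
  ring

omit [Fintype G] in
theorem card_trivR [Finite G] (hW : Cfsg.IsSelfNormalizingCyclic W₁ W₂) :
    Nat.card {φ : ↥(W₁ ⊔ W₂) →* ℂˣ // TrivR φ} = Nat.card W₁ := by
  obtain ⟨-, -, hdisj, hcomm, -, -⟩ := id hW
  let iA : CommGroup W₁ :=
    { (inferInstance : Group W₁) with
      mul_comm := fun a b => Subtype.ext (congrArg Subtype.val
        (cti_abelian hW (ctiL W₁ W₂ a) (ctiL W₁ W₂ b)) :) }
  rw [← CommGroup.card_monoidHom_of_hasEnoughRootsOfUnity W₁ ℂ]
  refine Nat.card_congr (Equiv.ofBijective (fun φ => φ.1.comp (ctiL W₁ W₂)) ⟨?_, ?_⟩)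
  · intro φ φ' e
    exact Subtype.ext (trivR_ext hdisj hcomm φ.2 φ'.2 e)
  · intro f
    obtain ⟨φ, hφ, e⟩ := exists_trivR hdisj hcomm f
    exact ⟨⟨φ, hφ⟩, e⟩

omit [Fintype G] in
theorem card_trivL [Finite G] (hW : Cfsg.IsSelfNormalizingCyclic W₁ W₂) :
    Nat.card {φ : ↥(W₁ ⊔ W₂) →* ℂˣ // TrivL φ} = Nat.card W₂ := by
  obtain ⟨-, -, hdisj, hcomm, -, -⟩ := id hW
  let iA : CommGroup W₂ :=
    { (inferInstance : Group W₂) with
      mul_comm := fun a b => Subtype.ext (congrArg Subtype.val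
        (cti_abelian hW (ctiR W₁ W₂ a) (ctiR W₁ W₂ b)) :) }
  rw [← CommGroup.card_monoidHom_of_hasEnoughRootsOfUnity W₂ ℂ]
  refine Nat.card_congr (Equiv.ofBijective (fun φ => φ.1.comp (ctiR W₁ W₂)) ⟨?_, ?_⟩)
  · intro φ φ' e
    exact Subtype.ext (trivL_ext hdisj hcomm φ.2 φ'.2 e)
  · intro f
    obtain ⟨φ, hφ, e⟩ := exists_trivL hdisj hcomm f
    exact ⟨⟨φ, hφ⟩, e⟩

/-- linear characters of `W` as pairs -/
noncomputable def pairEquiv (hW : Cfsg.IsSelfNormalizingCyclic W₁ W₂) :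
    {φ : ↥(W₁ ⊔ W₂) →* ℂˣ // TrivR φ} × {φ : ↥(W₁ ⊔ W₂) →* ℂˣ // TrivL φ} ≃
      (↥(W₁ ⊔ W₂) →* ℂˣ) :=
  Equiv.ofBijective (fun p => p.1.1 * p.2.1) ⟨fun p q e => by
      obtain ⟨e₁, e₂⟩ := mul_inj_trivR_trivL hW.2.2.1 hW.2.2.2.1 p.1.2 q.1.2 p.2.2 q.2.2 e
      exact Prod.ext (Subtype.ext e₁) (Subtype.ext e₂),
    fun ω => by
      obtain ⟨φ, ψ, hφ, hψ, e⟩ := exists_trivR_mul_trivL hW.2.2.1 hW.2.2.2.1 ω
      exact ⟨(⟨φ, hφ⟩, ⟨ψ, hψ⟩), e⟩⟩

omit [Fintype G] in
@[simp] theorem pairEquiv_apply (hW : Cfsg.IsSelfNormalizingCyclic W₁ W₂)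
    (p : {φ : ↥(W₁ ⊔ W₂) →* ℂˣ // TrivR φ} × {φ : ↥(W₁ ⊔ W₂) →* ℂˣ // TrivL φ}) :
    pairEquiv hW p = p.1.1 * p.2.1 := rfl

omit [Fintype G] in
theorem sum_table_few {I J : Type*} [Fintype I] [Fintype J] (f : I → ℂ) (g : J → ℂ)
    (hI : 2 ≤ Fintype.card I) (hIJ : Fintype.card I + 2 ≤ Fintype.card J)
    (hfew : (univ.filter (fun p : I × J => f p.1 + g p.2 ≠ 0)).card < 2 * Fintype.card I) :
    (∃ j₀, ∃ a : ℂ, ∀ i j, f i + g j = if j = j₀ then a else 0) ∨
    (∃ i₀, ∃ a : ℂ, ∀ i j, f i + g j = if i = i₀ then a else 0) := by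
  set N : I → ℕ := fun i => (univ.filter (fun j => f i + g j ≠ 0)).card with hN
  have hsum : (univ.filter (fun p : I × J => f p.1 + g p.2 ≠ 0)).card = ∑ i, N i := by
    simp only [hN, Finset.card_filter]
    exact Fintype.sum_prod_type (fun p : I × J => if f p.1 + g p.2 ≠ 0 then 1 else 0)
  rw [hsum] at hfew
  haveI : Nonempty I := Fintype.card_pos_iff.mp (by omega)
  obtain ⟨i₁, hi₁⟩ : ∃ i, N i < 2 := by
    by_contra h
    push Not at h
    have := Finset.sum_le_sum (s := univ) (fun i _ => h i)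
    rw [Finset.sum_const, Finset.card_univ, smul_eq_mul] at this
    omega
  set c := -f i₁ with hc
  have hg1 : (univ.filter (fun j => g j ≠ c)).card < 2 := by
    refine lt_of_le_of_lt (le_of_eq ?_) hi₁
    simp only [hN, hc]
    refine congrArg Finset.card (Finset.filter_congr fun j _ => ?_)
    rw [not_iff_not]
    exact ⟨fun h => by rw [h]; ring, fun h => by linear_combination h⟩
  have hdicho : (∀ j, g j = c) ∨ ∃ j₀, g j₀ ≠ c ∧ ∀ j, j ≠ j₀ → g j = c := by
    by_cases h : ∀ j, g j = c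
    · exact Or.inl h
    push Not at h
    obtain ⟨j₀, hj₀⟩ := h
    refine Or.inr ⟨j₀, hj₀, fun j hj => ?_⟩
    by_contra hne
    have : ({j, j₀} : Finset J) ⊆ univ.filter (fun j => g j ≠ c) := by
      intro x hx
      simp only [Finset.mem_insert, Finset.mem_singleton] at hx
      rcases hx with rfl | rfl <;> simp [hne, hj₀]
    have := Finset.card_le_card this
    rw [Finset.card_pair hj] at this
    omega
  set R := univ.filter (fun i => f i + c ≠ 0) with hR
  rcases hdicho with hall | ⟨j₀, hj₀, hj⟩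
  · right
    have hNi : ∀ i, N i = if f i + c ≠ 0 then Fintype.card J else 0 := by
      intro i
      simp only [hN, hall]
      by_cases h0 : f i + c = 0
      · simp [h0]
      · simp [h0]
    have hR1 : R.card < 2 := by
      by_contra hlt
      have : ∑ i, N i = R.card * Fintype.card J := by
        rw [Finset.sum_congr rfl (fun i _ => hNi i), ← Finset.sum_filter, Finset.sum_const,
          smul_eq_mul]
      have h2 : 2 * Fintype.card J ≤ R.card * Fintype.card J :=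
        Nat.mul_le_mul_right _ (by omega)
      omega
    rcases R.eq_empty_or_nonempty with he | ⟨i₀, hi₀⟩
    · refine ⟨Classical.arbitrary I, 0, fun i j => ?_⟩
      rw [ite_self, hall]
      by_contra h0
      exact (Finset.eq_empty_iff_forall_notMem.mp he) i (mem_filter.mpr ⟨mem_univ _, h0⟩)
    · refine ⟨i₀, f i₀ + c, fun i j => ?_⟩
      rw [hall]
      split_ifs with h
      · rw [h]
      · by_contra h0
        have : ({i, i₀} : Finset I) ⊆ R := by
          intro x hx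
          simp only [Finset.mem_insert, Finset.mem_singleton] at hx
          rcases hx with rfl | rfl
          · exact mem_filter.mpr ⟨mem_univ _, h0⟩
          · exact hi₀
        have := Finset.card_le_card this
        rw [Finset.card_pair h] at this
        omega
  · left
    have hNi : ∀ i, (if f i + c ≠ 0 then Fintype.card J - 1 else 1) ≤ N i := by
      intro i
      simp only [hN]
      by_cases h0 : f i + c = 0
      · rw [if_neg (by simpa using h0)]
        refine Finset.card_pos.mpr ⟨j₀, mem_filter.mpr ⟨mem_univ _, fun e => hj₀ ?_⟩⟩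
        linear_combination e - h0
      · rw [if_pos h0, ← Finset.card_univ, ← Finset.card_erase_of_mem (mem_univ j₀)]
        refine Finset.card_le_card fun j hjm => mem_filter.mpr ⟨mem_univ _, ?_⟩
        rw [hj j (Finset.ne_of_mem_erase hjm)]
        exact h0
    have h1 := Finset.sum_le_sum (s := univ) (fun i _ => hNi i)
    rw [Finset.sum_ite, Finset.sum_const, Finset.sum_const, smul_eq_mul, smul_eq_mul, mul_one] at h1
    have h2 := Finset.card_filter_add_card_filter_not (s := (univ : Finset I)) (fun i => f i + c ≠ 0)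
    rw [Finset.card_univ] at h2
    have hR0 : R.card = 0 := by
      rcases Nat.eq_zero_or_pos R.card with h | h
      · exact h
      exfalso
      rw [hR] at h
      obtain ⟨m, hm⟩ : ∃ m, Fintype.card J = Fintype.card I + 2 + m := ⟨_, (Nat.add_sub_cancel' hIJ).symm⟩
      rw [hm] at h1
      have e : Fintype.card I + 2 + m - 1 = Fintype.card I + 1 + m := by omega
      rw [e] at h1
      nlinarith [hfew, h1, h2, h]
    refine ⟨j₀, g j₀ - c, fun i j => ?_⟩
    have hfi : f i = -c := by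
      by_contra h0
      refine (Finset.card_eq_zero.mp hR0).le.trans ?_ (mem_filter.mpr ⟨mem_univ i, fun e => h0 ?_⟩)
        |> Finset.notMem_empty i
      · exact le_refl _
      · linear_combination e
    split_ifs with h
    · rw [h, hfi]; ring
    · rw [hj j h, hfi]; ring

end CfsgLib.OddChar
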