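import Cfsg.Agent.Lib.OddChar.CyclicCoeff
import Cfsg.Agent.Lib.OddChar.Signed
import Cfsg.Agent.Lib.Characters.Galois
import Cfsg.Agent.Lib.Characters.Values

set_option autoImplicit false
set_option linter.style.haveILetI false

/-! Uniqueness of the cyclic TI family, and its equivariance under field automorphisms. -/

namespace CfsgLib.OddChar

open scoped Classical ComplexConjugate
open Finset CfsgLib.Characters

theorem sum_table_two {I J : Type*} [Fintype I] [Fintype J] (f : I → ℂ) (g : J → ℂ)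
    (hI : 3 ≤ Fintype.card I) (hJ : 3 ≤ Fintype.card J)
    (hfew : (univ.filter (fun p : I × J => f p.1 + g p.2 ≠ 0)).card ≤ 2) (i : I) (j : J) :
    f i + g j = 0 := by
  set S := univ.filter (fun p : I × J => f p.1 + g p.2 ≠ 0) with hS
  have hm : ∀ {a b}, (a, b) ∉ S → f a + g b = 0 := fun {a b} h => by simpa [hS] using h
  obtain ⟨i₁, hi₁⟩ : ∃ i₁, ∀ b, (i₁, b) ∉ S := by
    by_contra h
    push Not at h
    have : (univ : Finset I) ⊆ S.image Prod.fst := fun a _ => by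
      obtain ⟨b, hb⟩ := h a
      exact Finset.mem_image.mpr ⟨(a, b), hb, rfl⟩
    have := (Finset.card_le_card this).trans Finset.card_image_le
    rw [Finset.card_univ] at this
    omega
  have hg : ∀ b, g b = -f i₁ := fun b => by linear_combination hm (hi₁ b)
  by_contra h
  have : (univ : Finset J).image (fun b => (i, b)) ⊆ S := by
    intro p hp
    obtain ⟨b, -, rfl⟩ := Finset.mem_image.mp hp
    refine mem_filter.mpr ⟨mem_univ _, ?_⟩
    dsimp only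
    rw [hg b, ← hg j]
    exact h
  have := Finset.card_le_card this
  rw [Finset.card_image_of_injective _ (fun a b e => (Prod.mk.injEq .. ▸ e).2), Finset.card_univ] at this
  omega

variable {G : Type*} [Group G] [Fintype G] {W₁ W₂ : Subgroup G}

theorem finite_linChar (hW : Cfsg.IsSelfNormalizingCyclic W₁ W₂) :
    Finite (↥(W₁ ⊔ W₂) →* ℂˣ) := by
  let iW : CommGroup ↥(W₁ ⊔ W₂) :=
    { (inferInstance : Group ↥(W₁ ⊔ W₂)) with mul_comm := cti_abelian hW }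
  exact Finite.of_equiv _
    (CommGroup.monoidHom_mulEquiv_of_hasEnoughRootsOfUnity ↥(W₁ ⊔ W₂) ℂ).some.symm.toEquiv

theorem three_le_card (hW : Cfsg.IsSelfNormalizingCyclic W₁ W₂)
    (hodd : Odd (Nat.card ↥(W₁ ⊔ W₂))) : 3 ≤ Nat.card W₁ ∧ 3 ≤ Nat.card W₂ := by
  have h₁ := (Subgroup.one_lt_card_iff_ne_bot W₁).mpr hW.1
  have h₂ := (Subgroup.one_lt_card_iff_ne_bot W₂).mpr hW.2.1
  obtain ⟨a, ha⟩ := hodd.of_dvd_nat (Subgroup.card_dvd_of_le (le_sup_left : W₁ ≤ W₁ ⊔ W₂))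
  obtain ⟨b, hb⟩ := hodd.of_dvd_nat (Subgroup.card_dvd_of_le (le_sup_right : W₂ ≤ W₁ ⊔ W₂))
  omega

theorem family_signed {χ : (↥(W₁ ⊔ W₂) →* ℂˣ) → (G → ℂ)} (hχ : Cfsg.IsCyclicTIFamily W₁ W₂ χ)
    (ω : ↥(W₁ ⊔ W₂) →* ℂˣ) : IsSigned (χ ω) := hχ.irr_or_neg ω

theorem family_eq_of_eqOn (hW : Cfsg.IsSelfNormalizingCyclic W₁ W₂)
    (hodd : Odd (Nat.card ↥(W₁ ⊔ W₂))) {χ : (↥(W₁ ⊔ W₂) →* ℂˣ) → (G → ℂ)}
    (hχ : Cfsg.IsCyclicTIFamily W₁ W₂ χ) {θ : G → ℂ} (hθ : IsSigned θ)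
    (ω₀ : ↥(W₁ ⊔ W₂) →* ℂˣ)
    (hon : ∀ w : ↥(W₁ ⊔ W₂), (w : G) ∉ W₁ → (w : G) ∉ W₂ → θ w = (ω₀ w : ℂ)) :
    θ = χ ω₀ := by
  haveI := Fintype.ofFinite ↥(W₁ ⊔ W₂)
  obtain ⟨-, -, hdisj, hcomm, -, -⟩ := id hW
  haveI := finite_linChar hW
  haveI : Finite ({φ : ↥(W₁ ⊔ W₂) →* ℂˣ // TrivR φ} × {φ : ↥(W₁ ⊔ W₂) →* ℂˣ // TrivL φ}) :=
    Finite.of_equiv _ (pairEquiv hW).symm
  haveI := Fintype.ofFinite {φ : ↥(W₁ ⊔ W₂) →* ℂˣ // TrivR φ}
  haveI := Fintype.ofFinite {φ : ↥(W₁ ⊔ W₂) →* ℂˣ // TrivL φ}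
  obtain ⟨h₁, h₂⟩ := three_le_card hW hodd
  set a : (↥(W₁ ⊔ W₂) →* ℂˣ) → ℂ := fun ω =>
    Cfsg.classInner θ (χ ω) - (if ω₀ = ω then 1 else 0) with ha
  have hrel : ∀ φ ψ, TrivR φ → TrivL ψ → a (φ * ψ) - a φ - a ψ + a 1 = 0 := by
    intro φ ψ hφ hψ
    have h := family_coeff χ hχ hθ.classFunction hφ hψ
    have h' : Cfsg.classInner (fun w : ↥(W₁ ⊔ W₂) => θ w) (ctiAlpha φ ψ) =
        Cfsg.classInner (fun w => (ω₀ w : ℂ)) (ctiAlpha φ ψ) := by
      simp only [Cfsg.classInner]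
      congr 1
      refine Finset.sum_congr rfl fun w _ => ?_
      by_cases hw : (w : G) ∈ W₁ ∨ (w : G) ∈ W₂
      · rw [ctiAlpha_vanish hφ hψ w hw, map_zero, mul_zero, mul_zero]
      · rw [not_or] at hw
        rw [hon w hw.1 hw.2]
    have h'' : Cfsg.classInner (fun w : ↥(W₁ ⊔ W₂) => (ω₀ w : ℂ)) (ctiAlpha φ ψ) =
        (if ω₀ = 1 then 1 else 0) - (if ω₀ = φ then 1 else 0) - (if ω₀ = ψ then 1 else 0) +
          (if ω₀ = φ * ψ then 1 else 0) := by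
      rw [ctiAlpha_eq_sum, classInner_add_right, classInner_sub_right, classInner_sub_right,
        classInner_hom, classInner_hom, classInner_hom, classInner_hom]
    simp only [ha]
    linear_combination h + h' + h''
  have huniq : ∀ ω ω', Cfsg.classInner θ (χ ω) ≠ 0 → Cfsg.classInner θ (χ ω') ≠ 0 → ω = ω' := by
    intro ω ω' hw hw'
    by_contra hne
    have horth : Cfsg.classInner (χ ω) (χ ω') = 0 := by rw [hχ.orthonormal, if_neg hne]
    rcases hθ.cases (family_signed hχ ω) with e | e | e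
    · exact hw' (by rw [e, horth])
    · exact hw' (by rw [e, classInner_neg_left, horth, neg_zero])
    · exact hw e
  let f : {φ : ↥(W₁ ⊔ W₂) →* ℂˣ // TrivR φ} → ℂ := fun i => a i.1 - a 1
  let g : {φ : ↥(W₁ ⊔ W₂) →* ℂˣ // TrivL φ} → ℂ := fun j => a j.1
  have hval : ∀ i j, a (i.1 * j.1) = f i + g j := fun i j => by
    simp only [f, g]; linear_combination hrel i.1 j.1 i.2 j.2
  have hcnt : (univ.filter (fun p => f (Prod.fst p) + g (Prod.snd p) ≠ 0)).card ≤ 2 := by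
    obtain ⟨ω₁, hω₁⟩ : ∃ ω₁, ∀ ω, Cfsg.classInner θ (χ ω) ≠ 0 → ω = ω₁ := by
      by_cases hex : ∃ ω₁, Cfsg.classInner θ (χ ω₁) ≠ 0
      · obtain ⟨ω₁, hω₁⟩ := hex
        exact ⟨ω₁, fun ω h => huniq ω ω₁ h hω₁⟩
      · exact ⟨1, fun ω h => absurd ⟨ω, h⟩ hex⟩
    refine le_trans (Finset.card_le_card (t := {(pairEquiv hW).symm ω₀, (pairEquiv hW).symm ω₁})
      fun p hp => ?_) Finset.card_le_two
    rw [mem_filter, ← hval] at hp
    rw [Finset.mem_insert, Finset.mem_singleton, Equiv.eq_symm_apply, Equiv.eq_symm_apply,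
      pairEquiv_apply]
    by_contra hc
    rw [not_or] at hc
    apply hp.2
    simp only [ha]
    have h0 : Cfsg.classInner θ (χ (p.1.1 * p.2.1)) = 0 := by
      by_contra h; exact hc.2 (hω₁ _ h)
    rw [h0, if_neg (fun e => hc.1 e.symm), sub_zero]
  have hzero : a ω₀ = 0 := by
    obtain ⟨p, hp⟩ := (pairEquiv hW).surjective ω₀
    rw [← hp, pairEquiv_apply, hval]
    refine sum_table_two f g ?_ ?_ hcnt p.1 p.2
    · rw [← Nat.card_eq_fintype_card, card_trivR hW]; exact h₁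
    · rw [← Nat.card_eq_fintype_card, card_trivL hW]; exact h₂
  simp only [ha, if_pos] at hzero
  exact hθ.eq_of_inner_eq_one (family_signed hχ ω₀) (sub_eq_zero.mp hzero)

theorem signed_map (σ : ℂ ≃+* ℂ) {X : Type*} [Group X] {θ : X → ℂ} (h : IsSigned θ) :
    IsSigned (fun x => σ (θ x)) := by
  rcases h with h | h
  · exact Or.inl (CfsgLib.CharGalois.isIrrCharacter_map σ h)
  · refine Or.inr ?_
    have := CfsgLib.CharGalois.isIrrCharacter_map σ h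
    simpa [Pi.neg_def] using this

theorem family_map (hW : Cfsg.IsSelfNormalizingCyclic W₁ W₂) (hodd : Odd (Nat.card ↥(W₁ ⊔ W₂)))
    {χ : (↥(W₁ ⊔ W₂) →* ℂˣ) → (G → ℂ)} (hχ : Cfsg.IsCyclicTIFamily W₁ W₂ χ)
    (σ : ℂ ≃+* ℂ) (ω : ↥(W₁ ⊔ W₂) →* ℂˣ) :
    (fun x => σ (χ ω x)) = χ ((Units.map σ.toMonoidHom).comp ω) :=
  family_eq_of_eqOn hW hodd hχ (signed_map σ (family_signed hχ ω)) _ fun w h₁ h₂ => by
    rw [hχ.eq_on ω w h₁ h₂]
    simp

theorem signed_int_value [Fintype G] {θ : G → ℂ} (h : IsSigned θ) (g : G)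
    (hfix : ∀ m : ℕ, m.Coprime (Nat.card G) → θ (g ^ m) = θ g) : ∃ n : ℤ, θ g = n := by
  obtain ⟨χ, ε, hε, rfl⟩ := h.exists_irr
  have hc := irr_isCharacter χ
  have hε0 : ε ≠ 0 := by rcases hε with rfl | rfl <;> norm_num
  obtain ⟨q, hq⟩ := CfsgLib.CharGalois.exists_rat_char hc g fun m hm =>
    mul_left_cancel₀ hε0 (by simpa using hfix m hm)
  obtain ⟨z, hz⟩ := exists_int_of_isIntegral_rat (hq ▸ isIntegral_of_isCharacter hc g)
  have hv : (χ : G → ℂ) g = (z : ℂ) := by rw [hq, ← hz]; simp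
  rcases hε with rfl | rfl
  · exact ⟨z, by simp [hv]⟩
  · exact ⟨-z, by simp [hv]⟩

end CfsgLib.OddChar
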