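import Cfsg.Agent.Lib.OddChar.SignedGrid
import Cfsg.Agent.Lib.OddChar.CyclicUnique
import Cfsg.Agent.Lib.Characters.Artin

set_option autoImplicit false
set_option linter.style.haveILetI false

/-! Existence of the family attached to a cyclic TI subgroup of odd order. -/

namespace CfsgLib.OddChar

open scoped Classical ComplexConjugate
open Finset CfsgLib.Characters

variable {G : Type*} [Group G] [Fintype G] {W₁ W₂ : Subgroup G}

omit [Fintype G] in
theorem card_not_both_three [Finite G] (hW : Cfsg.IsSelfNormalizingCyclic W₁ W₂) :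
    Nat.card W₁ ≠ 3 ∨ Nat.card W₂ ≠ 3 := by
  by_contra h
  push Not at h
  haveI := hW.2.2.2.2.1
  have hle : W₂ ≤ W₁ := fun b hb =>
    (mem_iff_pow_card_eq_one le_sup_left (Subgroup.mem_sup_right hb)).mpr (by
      rw [h.1, ← h.2]
      exact orderOf_dvd_iff_pow_eq_one.mp (W₂.orderOf_dvd_natCard hb))
  exact hW.2.1 (eq_bot_iff.mpr fun b hb => hW.2.2.1.le ⟨hle hb, hb⟩)

omit [Fintype G] in
theorem card_subtype_ne_one {X : Type*} [Fintype X] {P : X → Prop} [Fintype {x // P x}] {e : X}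
    [Fintype {x // P x ∧ x ≠ e}] (he : P e) :
    Fintype.card {x // P x ∧ x ≠ e} + 1 = Fintype.card {x // P x} := by
  rw [Fintype.card_subtype, Fintype.card_subtype,
    show univ.filter (fun x => P x ∧ x ≠ e) = (univ.filter P).erase e from
      Finset.ext fun x => by simp [and_comm],
    Finset.card_erase_add_one (mem_filter.mpr ⟨mem_univ _, he⟩)]

omit [Fintype G] in
theorem ctiAlpha_generalized (φ ψ : ↥(W₁ ⊔ W₂) →* ℂˣ) :
    Cfsg.IsGeneralizedCharacter ↥(W₁ ⊔ W₂) (ctiAlpha φ ψ) := by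
  have h : ∀ f : ↥(W₁ ⊔ W₂) →* ℂˣ, Cfsg.IsGeneralizedCharacter ↥(W₁ ⊔ W₂) (fun w => (f w : ℂ)) :=
    fun f => isGeneralizedCharacter_irr ⟨_, isIrrCharacter_of_hom f⟩
  rw [ctiAlpha_eq_sum]
  exact isGeneralizedCharacter_add
    (isGeneralizedCharacter_sub (isGeneralizedCharacter_sub (h _) (h _)) (h _)) (h _)

theorem classInner_beta (hW : Cfsg.IsSelfNormalizingCyclic W₁ W₂)
    {φ φ' ψ ψ' : ↥(W₁ ⊔ W₂) →* ℂˣ} (hφ : TrivR φ)
    (hφ' : TrivR φ') (hψ : TrivL ψ) (hψ' : TrivL ψ') (hφ1 : φ ≠ 1) (hφ'1 : φ' ≠ 1)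
    (hψ1 : ψ ≠ 1) (hψ'1 : ψ' ≠ 1) :
    Cfsg.classInner (Cfsg.indFun (W₁ ⊔ W₂) (ctiAlpha φ ψ) - fun _ => 1)
        (Cfsg.indFun (W₁ ⊔ W₂) (ctiAlpha φ' ψ') - fun _ => 1) =
      (if φ = φ' then 1 else 0) + (if ψ = ψ' then 1 else 0) +
        (if φ = φ' then 1 else 0) * (if ψ = ψ' then 1 else 0) := by
  haveI := Fintype.ofFinite ↥(W₁ ⊔ W₂)
  obtain ⟨-, -, hdisj, hcomm, -, -⟩ := id hW
  have h1 : Cfsg.IsClassFunction G (fun _ => (1 : ℂ)) := fun _ _ => rfl
  have l1 : ∀ {a b : ↥(W₁ ⊔ W₂) →* ℂˣ}, TrivR a → TrivL b → a ≠ 1 → b ≠ 1 →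
      Cfsg.classInner (Cfsg.indFun (W₁ ⊔ W₂) (ctiAlpha a b)) (fun _ => 1) = 1 := fun ha hb na nb => by
    rw [CfsgLib.Induction.classInner_indFun _ _ h1]
    exact classInner_ctiAlpha_one hdisj hcomm ha hb na nb
  rw [classInner_sub_left, classInner_sub_right, classInner_sub_right,
    indFun_ctiAlpha_isometry hW hφ' hψ',
    classInner_ctiAlpha hdisj hcomm hφ hφ' hψ hψ' hφ1 hφ'1 hψ1 hψ'1, l1 hφ hψ hφ1 hψ1,
    classInner_conj_symm (Cfsg.indFun (W₁ ⊔ W₂) (ctiAlpha φ' ψ')), l1 hφ' hψ' hφ'1 hψ'1, map_one,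
    classInner_irr_self isIrrCharacter_one]
  ring

theorem exists_cti_family (hW : Cfsg.IsSelfNormalizingCyclic W₁ W₂)
    (hodd : Odd (Nat.card ↥(W₁ ⊔ W₂))) :
    ∃ χ : (↥(W₁ ⊔ W₂) →* ℂˣ) → (G → ℂ), Cfsg.IsCyclicTIFamily W₁ W₂ χ := by
  haveI := Fintype.ofFinite ↥(W₁ ⊔ W₂)
  obtain ⟨-, -, hdisj, hcomm, -, -⟩ := id hW
  haveI := finite_linChar hW
  haveI := Fintype.ofFinite (↥(W₁ ⊔ W₂) →* ℂˣ)
  let I := {φ : ↥(W₁ ⊔ W₂) →* ℂˣ // TrivR φ ∧ φ ≠ 1}
  let J := {ψ : ↥(W₁ ⊔ W₂) →* ℂˣ // TrivL ψ ∧ ψ ≠ 1}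
  have tR : TrivR (1 : ↥(W₁ ⊔ W₂) →* ℂˣ) := fun _ _ => rfl
  have tL : TrivL (1 : ↥(W₁ ⊔ W₂) →* ℂˣ) := fun _ _ => rfl
  obtain ⟨h₁, h₂⟩ := three_le_card hW hodd
  have hI : Fintype.card I + 1 = Nat.card W₁ := by
    rw [← card_trivR hW, Nat.card_eq_fintype_card]; exact card_subtype_ne_one tR
  have hJ : Fintype.card J + 1 = Nat.card W₂ := by
    rw [← card_trivL hW, Nat.card_eq_fintype_card]; exact card_subtype_ne_one tL
  obtain ⟨a, ha⟩ := hodd.of_dvd_nat (Subgroup.card_dvd_of_le (le_sup_left : W₁ ≤ W₁ ⊔ W₂))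
  obtain ⟨b, hb⟩ := hodd.of_dvd_nat (Subgroup.card_dvd_of_le (le_sup_right : W₂ ≤ W₁ ⊔ W₂))
  have h33 := card_not_both_three hW
  set β : I → J → (G → ℂ) :=
    fun i j => Cfsg.indFun (W₁ ⊔ W₂) (ctiAlpha i.1 j.1) - fun _ => 1 with hβ
  have hinner : ∀ i i' j k, Cfsg.classInner (β i j) (β i' k) =
      (if i = i' then 1 else 0) + (if j = k then 1 else 0) +
        (if i = i' then 1 else 0) * (if j = k then 1 else 0) := by
    intro i i' j k
    rw [classInner_beta hW i.2.1 i'.2.1 j.2.1 k.2.1 i.2.2 i'.2.2 j.2.2 k.2.2]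
    simp only [Subtype.coe_inj]
  have hdec : ∀ i j, ∃ s : Finset (G → ℂ), s.card = 3 ∧ IsSignedSet s ∧ β i j = ∑ f ∈ s, f := by
    intro i j
    have hg : Cfsg.IsGeneralizedCharacter G (β i j) := isGeneralizedCharacter_sub
      (CfsgLib.CharArtin.isGeneralizedCharacter_indFun _ (ctiAlpha_generalized _ _))
      isGeneralizedCharacter_one
    obtain ⟨s, h1, h2, h3, h4⟩ :=
      exists_signed_finset hg (le_refl 3) (by rw [hinner]; simp; norm_num)
    exact ⟨s, h1, ⟨h2, h3⟩, h4⟩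
  choose S hScard hSset hSsum using hdec
  have hβ1 : ∀ i j, β i j 1 = -1 := fun i j => by
    simp [hβ, CfsgLib.Induction.indFun_one_apply, ctiAlpha]
  have hdeg : ∀ i j i' k, (∑ f ∈ S i j, f) 1 = (∑ g ∈ S i' k, g) 1 := fun i j i' k => by
    rw [← hSsum, ← hSsum, hβ1, hβ1]
  have hgrid : IsGrid S := by
    refine ⟨fun i j => ⟨hScard i j, (hSset i j).no_opp⟩, fun i j k e => ?_, fun i i' j e => ?_,
      fun i i' j k e e' => ?_⟩
    · refine meet_of_inner (hSset i j) (hSset i k) (hScard _ _) (hScard _ _) (hdeg _ _ _ _) ?_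
      rw [← hSsum, ← hSsum, hinner]; simp [e]
    · refine meet_of_inner (hSset i j) (hSset i' j) (hScard _ _) (hScard _ _) (hdeg _ _ _ _) ?_
      rw [← hSsum, ← hSsum, hinner]; simp [e]
    · refine bal_of_inner (hSset i j) (hSset i' k) ?_
      rw [← hSsum, ← hSsum, hinner]; simp [e, e']
  obtain ⟨F, hF, hsep⟩ := exists_grid_decomp hgrid (by omega) (by omega) (by omega)
  haveI : Nonempty I := Fintype.card_pos_iff.mp (by omega)
  haveI : Nonempty J := Fintype.card_pos_iff.mp (by omega)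
  have hmem : ∀ a b, (a, b) ≠ ((none : Option I), (none : Option J)) →
      ∃ i j, F a b ∈ S i j := by
    rintro (_ | i) (_ | j) hab
    · exact absurd rfl hab
    · exact ⟨Classical.arbitrary I, j, by rw [hF]; simp⟩
    · exact ⟨i, Classical.arbitrary J, by rw [hF]; simp⟩
    · exact ⟨i, j, by rw [hF]; simp⟩
  set g : Option I × Option J → (G → ℂ) := fun p => match p with
    | (none, none) => fun _ => 1
    | (some i, none) => -F (some i) none
    | (none, some j) => -F none (some j)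
    | (some i, some j) => F (some i) (some j) with hgdef
  have hgF : ∀ p, p ≠ (none, none) → g p = F p.1 p.2 ∨ g p = -F p.1 p.2 := by
    rintro ⟨_ | i, _ | j⟩ hp
    exacts [absurd rfl hp, Or.inr rfl, Or.inr rfl, Or.inl rfl]
  have one_signed : IsSigned (fun _ : G => (1 : ℂ)) := Or.inl isIrrCharacter_one
  have hgs : ∀ p, IsSigned (g p) := by
    intro p
    by_cases hp : p = (none, none)
    · subst hp; exact one_signed
    obtain ⟨i, j, hm⟩ := hmem p.1 p.2 hp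
    rcases hgF p hp with e | e <;> rw [e]
    exacts [(hSset i j).1 _ hm, ((hSset i j).1 _ hm).neg]
  have hone : ∀ a b, (a, b) ≠ ((none : Option I), (none : Option J)) →
      Cfsg.classInner (fun _ => 1) (F a b) = 0 := by
    intro a b hab
    obtain ⟨i, j, hm⟩ := hmem a b hab
    have hz : ∀ f, f = F a b → Cfsg.classInner (β i j) f = 1 := by
      rintro f rfl
      rw [hSsum, classInner_sum_left,
        Finset.sum_congr rfl fun u hu => (hSset i j).2 u hu _ hm]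
      simp [hm]
    have hb0 : Cfsg.classInner (β i j) (fun _ => 1) = 0 := by
      haveI := Fintype.ofFinite ↥(W₁ ⊔ W₂)
      simp only [hβ]
      rw [classInner_sub_left, CfsgLib.Induction.classInner_indFun _ _ (fun _ _ => rfl),
        classInner_ctiAlpha_one hdisj hcomm i.2.1 j.2.1 i.2.2 j.2.2,
        classInner_irr_self isIrrCharacter_one, sub_self]
    rcases one_signed.cases ((hSset i j).1 _ hm) with e | e | e
    · rw [e, hz _ rfl] at hb0; exact absurd hb0 one_ne_zero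
    · rw [e, classInner_neg_right, hz _ rfl, neg_eq_zero] at hb0; exact absurd hb0 one_ne_zero
    · exact e
  have horth : ∀ p q, p ≠ q → Cfsg.classInner (g p) (g q) = 0 := by
    have h1 : ∀ q, q ≠ (none, none) → Cfsg.classInner (fun _ => 1) (g q) = 0 := by
      intro q hq
      rcases hgF q hq with e | e <;> rw [e]
      · exact hone _ _ hq
      · rw [classInner_neg_right, hone _ _ hq, neg_zero]
    intro p q hpq
    by_cases hp : p = (none, none)
    · subst hp; exact h1 q (Ne.symm hpq)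
    by_cases hq : q = (none, none)
    · subst hq
      rw [classInner_conj_symm]
      exact (congrArg conj (h1 p hp)).trans (map_zero _)
    obtain ⟨n1, n2⟩ := hsep p q hp hq hpq
    have hFF : Cfsg.classInner (F p.1 p.2) (F q.1 q.2) = 0 := by
      obtain ⟨i, j, hm⟩ := hmem _ _ hp
      obtain ⟨i', k, hm'⟩ := hmem _ _ hq
      rw [((hSset i j).1 _ hm).inner_eq ((hSset i' k).1 _ hm'), if_neg n1, if_neg n2, sub_zero]
    rcases hgF p hp with e | e <;> rcases hgF q hq with e' | e' <;>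
      simp [e, e', classInner_neg_left, classInner_neg_right, hFF]
  set o₁ : {φ : ↥(W₁ ⊔ W₂) →* ℂˣ // TrivR φ} → Option I :=
    fun φ => if h : φ.1 = 1 then none else some ⟨φ.1, φ.2, h⟩ with ho₁
  set o₂ : {ψ : ↥(W₁ ⊔ W₂) →* ℂˣ // TrivL ψ} → Option J :=
    fun ψ => if h : ψ.1 = 1 then none else some ⟨ψ.1, ψ.2, h⟩ with ho₂
  have hinj₁ : Function.Injective o₁ := by
    intro x y e
    simp only [ho₁] at e
    split_ifs at e with u v
    · exact Subtype.ext (u.trans v.symm)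
    · exact Subtype.ext (congrArg (fun z : I => z.1) (Option.some.inj e))
  have hinj₂ : Function.Injective o₂ := by
    intro x y e
    simp only [ho₂] at e
    split_ifs at e with u v
    · exact Subtype.ext (u.trans v.symm)
    · exact Subtype.ext (congrArg (fun z : J => z.1) (Option.some.inj e))
  set χ : (↥(W₁ ⊔ W₂) →* ℂˣ) → (G → ℂ) :=
    fun ω => g (o₁ ((pairEquiv hW).symm ω).1, o₂ ((pairEquiv hW).symm ω).2) with hχ
  have hval : ∀ φ ψ (hφ : TrivR φ) (hψ : TrivL ψ),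
      χ (φ * ψ) = g (o₁ ⟨φ, hφ⟩, o₂ ⟨ψ, hψ⟩) := by
    intro φ ψ hφ hψ
    have e : (pairEquiv hW).symm (φ * ψ) = (⟨φ, hφ⟩, ⟨ψ, hψ⟩) := by
      rw [Equiv.symm_apply_eq]; rfl
    simp only [hχ, e]
  have horn : ∀ ω ω', Cfsg.classInner (χ ω) (χ ω') = if ω = ω' then 1 else 0 := by
    intro ω ω'
    split_ifs with e
    · subst e; exact (hgs _).norm_one
    · refine horth _ _ fun h => e ((pairEquiv hW).symm.injective (Prod.ext ?_ ?_))
      · exact hinj₁ (Prod.ext_iff.mp h).1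
      · exact hinj₂ (Prod.ext_iff.mp h).2
  have hmap : χ 1 = fun _ => 1 := by
    rw [← one_mul (1 : ↥(W₁ ⊔ W₂) →* ℂˣ), hval 1 1 tR tL]
    simp [ho₁, ho₂, hgdef]
  have hind : ∀ φ ψ : ↥(W₁ ⊔ W₂) →* ℂˣ, φ ≠ 1 → ψ ≠ 1 → TrivR φ → TrivL ψ →
      Cfsg.indFun (W₁ ⊔ W₂) (ctiAlpha φ ψ) = fun x => 1 - χ φ x - χ ψ x + χ (φ * ψ) x := by
    intro φ ψ hφ1 hψ1 hφ hψ
    let i : I := ⟨φ, hφ, hφ1⟩
    let j : J := ⟨ψ, hψ, hψ1⟩
    have eφ : χ φ = -F (some i) none := by
      rw [← mul_one φ, hval φ 1 hφ tL]; simp [ho₁, ho₂, hgdef, hφ1, i]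
    have eψ : χ ψ = -F none (some j) := by
      rw [← one_mul ψ, hval 1 ψ tR hψ]; simp [ho₁, ho₂, hgdef, hψ1, j]
    have em : χ (φ * ψ) = F (some i) (some j) := by
      rw [hval φ ψ hφ hψ]; simp [ho₁, ho₂, hgdef, hφ1, hψ1, i, j]
    have n12 := (hsep (some i, none) (none, some j) (by simp) (by simp) (by simp)).1
    have n13 := (hsep (some i, none) (some i, some j) (by simp) (by simp) (by simp)).1
    have n23 := (hsep (none, some j) (some i, some j) (by simp) (by simp) (by simp)).1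
    have hs := hSsum i j
    rw [hF, Finset.sum_insert (by simp [n12, n13]), Finset.sum_insert (by simp [n23]),
      Finset.sum_singleton] at hs
    funext x
    have hx := congrFun hs x
    simp only [hβ, Pi.sub_apply, Pi.add_apply, i, j] at hx
    simp only [eφ, eψ, em, Pi.neg_apply, i, j]
    linear_combination hx
  refine ⟨χ, fun ω => hgs _, fun ω ω' => by convert horn ω ω', hmap, fun ω w hw₁ hw₂ => ?_, hind⟩
  have hcl : Cfsg.IsClassFunction G (χ ω) := (hgs _).classFunction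
  refine sub_eq_zero.mp (vanish_of_orth hdisj hcomm (cti_abelian hW)
    ((fun v : ↥(W₁ ⊔ W₂) => χ ω v) - fun v => (ω v : ℂ)) ?_ w hw₁ hw₂)
  intro φ ψ hφ hψ hφ1 hψ1
  rw [classInner_sub_left, ← CfsgLib.Induction.classInner_indFun_right _ _ hcl,
    hind φ ψ hφ1 hψ1 hφ hψ, ctiAlpha_eq_sum]
  have e : (fun x => 1 - χ φ x - χ ψ x + χ (φ * ψ) x) = χ 1 - χ φ - χ ψ + χ (φ * ψ) := by
    rw [hmap]; rfl
  rw [e]
  simp only [classInner_add_right, classInner_sub_right, horn, classInner_hom]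
  ring

end CfsgLib.OddChar
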