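import Mathlib
import Cfsg.Prelude.Def_OddOrderChar
import Cfsg.Prelude.Def_OddOrderLocal
import Cfsg.Agent.Lib.Characters.Basic
import Cfsg.Agent.Lib.Characters.Induction

set_option autoImplicit false
set_option linter.style.haveILetI false

/-! The functions `(1 - φ) * (1 - ψ)` on a cyclic group `W = W₁ ⊔ W₂` and their inductions. -/

namespace CfsgLib.OddChar

open scoped Classical ComplexConjugate
open Finset CfsgLib.Characters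

theorem hom_conj {X : Type*} [Group X] [Finite X] (φ : X →* ℂˣ) (x : X) :
    conj (φ x : ℂ) = ((φ⁻¹) x : ℂ) := by
  have h : (φ x : ℂ) ^ Nat.card X = 1 := by
    rw [← Units.val_pow_eq_pow_val, ← map_pow, pow_card_eq_one', map_one, Units.val_one]
  rw [MonoidHom.inv_apply, Units.val_inv_eq_inv_val,
    Complex.inv_eq_conj (Complex.norm_eq_one_of_pow_eq_one h Nat.card_pos.ne')]

theorem classInner_hom {X : Type*} [Group X] [Fintype X] (φ ψ : X →* ℂˣ) :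
    Cfsg.classInner (fun x => (φ x : ℂ)) (fun x => (ψ x : ℂ)) = if φ = ψ then 1 else 0 := by
  split_ifs with h
  · subst h; exact classInner_irr_self (isIrrCharacter_of_hom φ)
  · refine classInner_irr_ne (isIrrCharacter_of_hom φ) (isIrrCharacter_of_hom ψ) fun e => h ?_
    ext x
    exact congrFun e x

theorem dual_vanish {A : Type*} [CommGroup A] [Finite A] [Fintype A] (F : A → ℂ)
    (h : ∀ φ : A →* ℂˣ, ∑ a, F a * (1 - (φ a : ℂ)) = 0) {a₀ : A} (ha₀ : a₀ ≠ 1) : F a₀ = 0 := by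
  haveI := Fintype.ofFinite (A →* ℂˣ)
  have hsum : ∀ a : A, a ≠ 1 → ∑ φ : A →* ℂˣ, (φ a : ℂ) = 0 := by
    intro a ha
    obtain ⟨φ₀, hφ₀⟩ := CommGroup.exists_apply_ne_one_of_hasEnoughRootsOfUnity A ℂ ha
    have e : (φ₀ a : ℂ) * ∑ φ : A →* ℂˣ, (φ a : ℂ) = ∑ φ : A →* ℂˣ, (φ a : ℂ) := by
      rw [Finset.mul_sum]
      exact (Finset.sum_congr rfl fun φ _ => by simp).trans
        (Equiv.sum_comp (Equiv.mulLeft φ₀) (fun φ : A →* ℂˣ => (φ a : ℂ)))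
    rcases (mul_left_eq_self₀.mp e) with h1 | h1
    · exact absurd (Units.val_eq_one.mp h1) hφ₀
    · exact h1
  have key : ∑ φ : A →* ℂˣ, (φ a₀⁻¹ : ℂ) * ∑ a, F a * (1 - (φ a : ℂ)) = 0 := by simp [h]
  simp only [Finset.mul_sum] at key
  rw [Finset.sum_comm] at key
  have e : ∀ a : A, ∑ φ : A →* ℂˣ, (φ a₀⁻¹ : ℂ) * (F a * (1 - (φ a : ℂ))) =
      if a = a₀ then -((Fintype.card (A →* ℂˣ) : ℂ) * F a₀) else 0 := by
    intro a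
    have e2 : ∀ φ : A →* ℂˣ, (φ a₀⁻¹ : ℂ) * (F a * (1 - (φ a : ℂ))) =
        F a * (φ a₀⁻¹ : ℂ) - F a * (φ (a₀⁻¹ * a) : ℂ) := fun φ => by
      rw [map_mul, Units.val_mul]; ring
    rw [Finset.sum_congr rfl fun φ _ => e2 φ, Finset.sum_sub_distrib, ← Finset.mul_sum,
      ← Finset.mul_sum, hsum _ (inv_ne_one.mpr ha₀), mul_zero, zero_sub]
    split_ifs with hh
    · subst hh
      simp only [inv_mul_cancel, map_one, Units.val_one, Finset.sum_const, Finset.card_univ,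
        nsmul_eq_mul, mul_one]
      ring
    · rw [hsum _ (by rwa [ne_eq, inv_mul_eq_one, eq_comm]), mul_zero, neg_zero]
  rw [Finset.sum_congr rfl fun a _ => e a, Finset.sum_ite_eq' univ, if_pos (mem_univ _),
    neg_eq_zero, mul_eq_zero] at key
  exact key.resolve_left (Nat.cast_ne_zero.mpr Fintype.card_ne_zero)

section Sup

variable {G : Type*} [Group G] {W₁ W₂ : Subgroup G}

/-- inclusion of the left factor -/
def ctiL (W₁ W₂ : Subgroup G) : W₁ →* ↥(W₁ ⊔ W₂) := Subgroup.inclusion le_sup_left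

/-- inclusion of the right factor -/
def ctiR (W₁ W₂ : Subgroup G) : W₂ →* ↥(W₁ ⊔ W₂) := Subgroup.inclusion le_sup_right

/-- the multiplication map from the product -/
def ctiMul (hcomm : ∀ a ∈ W₁, ∀ b ∈ W₂, a * b = b * a) : W₁ × W₂ →* ↥(W₁ ⊔ W₂) :=
  MonoidHom.noncommCoprod (ctiL W₁ W₂) (ctiR W₁ W₂) fun a b =>
    Subtype.ext (hcomm a a.2 b b.2)

@[simp] theorem ctiMul_apply (hcomm : ∀ a ∈ W₁, ∀ b ∈ W₂, a * b = b * a) (p : W₁ × W₂) :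
    (ctiMul hcomm p : G) = (p.1 : G) * (p.2 : G) := rfl

theorem ctiMul_eq (hcomm : ∀ a ∈ W₁, ∀ b ∈ W₂, a * b = b * a) (p : W₁ × W₂) :
    ctiMul hcomm p = ctiL W₁ W₂ p.1 * ctiR W₁ W₂ p.2 := rfl

theorem ctiMul_bijective (hdisj : W₁ ⊓ W₂ = ⊥) (hcomm : ∀ a ∈ W₁, ∀ b ∈ W₂, a * b = b * a) :
    Function.Bijective (ctiMul hcomm) := by
  refine ⟨?_, ?_⟩
  · rw [← MonoidHom.ker_eq_bot_iff, eq_bot_iff]
    rintro ⟨a, b⟩ h
    rw [MonoidHom.mem_ker] at h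
    have h' : (a : G) * (b : G) = 1 := congrArg Subtype.val h
    have ha : (a : G) ∈ W₁ ⊓ W₂ :=
      ⟨a.2, by rw [eq_inv_of_mul_eq_one_left h']; exact W₂.inv_mem b.2⟩
    rw [hdisj, Subgroup.mem_bot] at ha
    rw [ha, one_mul] at h'
    exact Subgroup.mem_bot.mpr (Prod.ext (Subtype.ext ha) (Subtype.ext h'))
  · intro w
    have hle : W₁ ⊔ W₂ ≤ (ctiMul hcomm).range.map (W₁ ⊔ W₂).subtype :=
      sup_le (fun a ha => ⟨_, ⟨(⟨a, ha⟩, 1), rfl⟩, by simp⟩)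
        (fun b hb => ⟨_, ⟨(1, ⟨b, hb⟩), rfl⟩, by simp⟩)
    obtain ⟨v, ⟨p, hp⟩, hv⟩ := hle w.2
    exact ⟨p, hp.trans (Subtype.ext hv)⟩

/-- `(1 - φ) * (1 - ψ)` expanded -/
def ctiAlpha (φ ψ : ↥(W₁ ⊔ W₂) →* ℂˣ) : ↥(W₁ ⊔ W₂) → ℂ :=
  fun w => 1 - (φ w : ℂ) - (ψ w : ℂ) + (φ w : ℂ) * (ψ w : ℂ)

/-- trivial on the right factor -/
def TrivR (φ : ↥(W₁ ⊔ W₂) →* ℂˣ) : Prop := ∀ w : ↥(W₁ ⊔ W₂), (w : G) ∈ W₂ → φ w = 1

/-- trivial on the left factor -/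
def TrivL (φ : ↥(W₁ ⊔ W₂) →* ℂˣ) : Prop := ∀ w : ↥(W₁ ⊔ W₂), (w : G) ∈ W₁ → φ w = 1

theorem TrivR.apply_mul {φ : ↥(W₁ ⊔ W₂) →* ℂˣ} (h : TrivR φ)
    (hcomm : ∀ a ∈ W₁, ∀ b ∈ W₂, a * b = b * a) (p : W₁ × W₂) :
    φ (ctiMul hcomm p) = φ (ctiL W₁ W₂ p.1) := by
  rw [ctiMul_eq, map_mul, h (ctiR W₁ W₂ p.2) p.2.2, mul_one]

theorem TrivL.apply_mul {φ : ↥(W₁ ⊔ W₂) →* ℂˣ} (h : TrivL φ)
    (hcomm : ∀ a ∈ W₁, ∀ b ∈ W₂, a * b = b * a) (p : W₁ × W₂) :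
    φ (ctiMul hcomm p) = φ (ctiR W₁ W₂ p.2) := by
  rw [ctiMul_eq, map_mul, h (ctiL W₁ W₂ p.1) p.1.2, one_mul]

theorem ctiAlpha_mul {φ ψ : ↥(W₁ ⊔ W₂) →* ℂˣ} (hφ : TrivR φ) (hψ : TrivL ψ)
    (hcomm : ∀ a ∈ W₁, ∀ b ∈ W₂, a * b = b * a) (p : W₁ × W₂) :
    ctiAlpha φ ψ (ctiMul hcomm p) =
      (1 - (φ (ctiL W₁ W₂ p.1) : ℂ)) * (1 - (ψ (ctiR W₁ W₂ p.2) : ℂ)) := by
  simp only [ctiAlpha]
  rw [hφ.apply_mul hcomm, hψ.apply_mul hcomm]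
  ring

theorem ctiAlpha_vanish {φ ψ : ↥(W₁ ⊔ W₂) →* ℂˣ} (hφ : TrivR φ) (hψ : TrivL ψ)
    (w : ↥(W₁ ⊔ W₂)) (hw : (w : G) ∈ W₁ ∨ (w : G) ∈ W₂) : ctiAlpha φ ψ w = 0 := by
  simp only [ctiAlpha]
  rcases hw with h | h
  · rw [hψ w h, Units.val_one]; ring
  · rw [hφ w h, Units.val_one]; ring

theorem exists_trivR (hdisj : W₁ ⊓ W₂ = ⊥) (hcomm : ∀ a ∈ W₁, ∀ b ∈ W₂, a * b = b * a)
    (f : W₁ →* ℂˣ) : ∃ φ : ↥(W₁ ⊔ W₂) →* ℂˣ, TrivR φ ∧ φ.comp (ctiL W₁ W₂) = f := by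
  let e := MulEquiv.ofBijective _ (ctiMul_bijective hdisj hcomm)
  refine ⟨(f.comp (MonoidHom.fst _ _)).comp e.symm.toMonoidHom, fun w hw => ?_, ?_⟩
  · have : e.symm w = (1, ⟨w, hw⟩) := by
      rw [MulEquiv.symm_apply_eq]; exact Subtype.ext (by simp [e])
    simp [this]
  · ext a
    have : e.symm (ctiL W₁ W₂ a) = (a, 1) := by
      rw [MulEquiv.symm_apply_eq]; exact Subtype.ext (by simp [e, ctiL, Subgroup.inclusion])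
    simp [this]

theorem exists_trivL (hdisj : W₁ ⊓ W₂ = ⊥) (hcomm : ∀ a ∈ W₁, ∀ b ∈ W₂, a * b = b * a)
    (f : W₂ →* ℂˣ) : ∃ φ : ↥(W₁ ⊔ W₂) →* ℂˣ, TrivL φ ∧ φ.comp (ctiR W₁ W₂) = f := by
  let e := MulEquiv.ofBijective _ (ctiMul_bijective hdisj hcomm)
  refine ⟨(f.comp (MonoidHom.snd _ _)).comp e.symm.toMonoidHom, fun w hw => ?_, ?_⟩
  · have : e.symm w = (⟨w, hw⟩, 1) := by
      rw [MulEquiv.symm_apply_eq]; exact Subtype.ext (by simp [e])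
    simp [this]
  · ext a
    have : e.symm (ctiR W₁ W₂ a) = (1, a) := by
      rw [MulEquiv.symm_apply_eq]; exact Subtype.ext (by simp [e, ctiR, Subgroup.inclusion])
    simp [this]

theorem trivR_ext (hdisj : W₁ ⊓ W₂ = ⊥) (hcomm : ∀ a ∈ W₁, ∀ b ∈ W₂, a * b = b * a)
    {φ φ' : ↥(W₁ ⊔ W₂) →* ℂˣ} (h : TrivR φ) (h' : TrivR φ')
    (e : φ.comp (ctiL W₁ W₂) = φ'.comp (ctiL W₁ W₂)) : φ = φ' := by
  refine MonoidHom.ext fun w => ?_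
  obtain ⟨p, rfl⟩ := (ctiMul_bijective hdisj hcomm).2 w
  rw [h.apply_mul hcomm, h'.apply_mul hcomm]
  exact DFunLike.congr_fun e p.1

theorem trivL_ext (hdisj : W₁ ⊓ W₂ = ⊥) (hcomm : ∀ a ∈ W₁, ∀ b ∈ W₂, a * b = b * a)
    {φ φ' : ↥(W₁ ⊔ W₂) →* ℂˣ} (h : TrivL φ) (h' : TrivL φ')
    (e : φ.comp (ctiR W₁ W₂) = φ'.comp (ctiR W₁ W₂)) : φ = φ' := by
  refine MonoidHom.ext fun w => ?_
  obtain ⟨p, rfl⟩ := (ctiMul_bijective hdisj hcomm).2 w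
  rw [h.apply_mul hcomm, h'.apply_mul hcomm]
  exact DFunLike.congr_fun e p.2

theorem eq_one_of_trivR_trivL (hdisj : W₁ ⊓ W₂ = ⊥) (hcomm : ∀ a ∈ W₁, ∀ b ∈ W₂, a * b = b * a)
    {φ : ↥(W₁ ⊔ W₂) →* ℂˣ} (h : TrivR φ) (h' : TrivL φ) : φ = 1 :=
  trivR_ext hdisj hcomm h (fun _ _ => rfl) (MonoidHom.ext fun a => h' _ a.2)

theorem mul_inj_trivR_trivL (hdisj : W₁ ⊓ W₂ = ⊥) (hcomm : ∀ a ∈ W₁, ∀ b ∈ W₂, a * b = b * a)
    {φ φ' ψ ψ' : ↥(W₁ ⊔ W₂) →* ℂˣ} (hφ : TrivR φ) (hφ' : TrivR φ') (hψ : TrivL ψ)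
    (hψ' : TrivL ψ') (e : φ * ψ = φ' * ψ') : φ = φ' ∧ ψ = ψ' := by
  constructor
  · refine trivR_ext hdisj hcomm hφ hφ' (MonoidHom.ext fun a => ?_)
    have := DFunLike.congr_fun e (ctiL W₁ W₂ a)
    simpa [MonoidHom.mul_apply, hψ (ctiL W₁ W₂ a) a.2, hψ' (ctiL W₁ W₂ a) a.2] using this
  · refine trivL_ext hdisj hcomm hψ hψ' (MonoidHom.ext fun a => ?_)
    have := DFunLike.congr_fun e (ctiR W₁ W₂ a)
    simpa [MonoidHom.mul_apply, hφ (ctiR W₁ W₂ a) a.2, hφ' (ctiR W₁ W₂ a) a.2] using this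

theorem exists_trivR_mul_trivL (hdisj : W₁ ⊓ W₂ = ⊥) (hcomm : ∀ a ∈ W₁, ∀ b ∈ W₂, a * b = b * a)
    (ω : ↥(W₁ ⊔ W₂) →* ℂˣ) : ∃ φ ψ, TrivR φ ∧ TrivL ψ ∧ φ * ψ = ω := by
  obtain ⟨φ, hφ, hφe⟩ := exists_trivR hdisj hcomm (ω.comp (ctiL W₁ W₂))
  obtain ⟨ψ, hψ, hψe⟩ := exists_trivL hdisj hcomm (ω.comp (ctiR W₁ W₂))
  refine ⟨φ, ψ, hφ, hψ, MonoidHom.ext fun w => ?_⟩
  obtain ⟨p, rfl⟩ := (ctiMul_bijective hdisj hcomm).2 w
  rw [MonoidHom.mul_apply, hφ.apply_mul hcomm, hψ.apply_mul hcomm]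
  have e1 : φ (ctiL W₁ W₂ p.1) = ω (ctiL W₁ W₂ p.1) := DFunLike.congr_fun hφe p.1
  have e2 : ψ (ctiR W₁ W₂ p.2) = ω (ctiR W₁ W₂ p.2) := DFunLike.congr_fun hψe p.2
  rw [e1, e2, ← map_mul, ctiMul_eq]

theorem ctiAlpha_eq_sum (φ ψ : ↥(W₁ ⊔ W₂) →* ℂˣ) :
    ctiAlpha φ ψ = (fun w => ((1 : ↥(W₁ ⊔ W₂) →* ℂˣ) w : ℂ)) - (fun w => (φ w : ℂ)) -
      (fun w => (ψ w : ℂ)) + (fun w => ((φ * ψ) w : ℂ)) := by
  funext w
  simp [ctiAlpha]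

theorem classInner_ctiAlpha_one [Fintype ↥(W₁ ⊔ W₂)] (hdisj : W₁ ⊓ W₂ = ⊥)
    (hcomm : ∀ a ∈ W₁, ∀ b ∈ W₂, a * b = b * a) {φ ψ : ↥(W₁ ⊔ W₂) →* ℂˣ} (hφ : TrivR φ)
    (hψ : TrivL ψ) (hφ1 : φ ≠ 1) (hψ1 : ψ ≠ 1) :
    Cfsg.classInner (ctiAlpha φ ψ) (fun _ => 1) = 1 := by
  have e1 : (fun _ : ↥(W₁ ⊔ W₂) => (1 : ℂ)) = fun w => ((1 : ↥(W₁ ⊔ W₂) →* ℂˣ) w : ℂ) := by simp
  have h12 : φ * ψ ≠ 1 := fun e => hφ1 (mul_inj_trivR_trivL hdisj hcomm hφ (fun _ _ => rfl) hψ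
    (fun _ _ => rfl) (e.trans (one_mul (1 : ↥(W₁ ⊔ W₂) →* ℂˣ)).symm)).1
  rw [e1, ctiAlpha_eq_sum, classInner_add_left, classInner_sub_left, classInner_sub_left,
    classInner_hom, classInner_hom, classInner_hom, classInner_hom, if_pos rfl, if_neg hφ1,
    if_neg hψ1, if_neg h12]
  ring

theorem classInner_ctiAlpha [Fintype ↥(W₁ ⊔ W₂)] (hdisj : W₁ ⊓ W₂ = ⊥)
    (hcomm : ∀ a ∈ W₁, ∀ b ∈ W₂, a * b = b * a) {φ φ' ψ ψ' : ↥(W₁ ⊔ W₂) →* ℂˣ} (hφ : TrivR φ)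
    (hφ' : TrivR φ') (hψ : TrivL ψ) (hψ' : TrivL ψ') (hφ1 : φ ≠ 1) (hφ'1 : φ' ≠ 1)
    (hψ1 : ψ ≠ 1) (hψ'1 : ψ' ≠ 1) :
    Cfsg.classInner (ctiAlpha φ ψ) (ctiAlpha φ' ψ') =
      1 + (if φ = φ' then 1 else 0) + (if ψ = ψ' then 1 else 0) +
        (if φ = φ' then 1 else 0) * (if ψ = ψ' then 1 else 0) := by
  have t : TrivR (1 : ↥(W₁ ⊔ W₂) →* ℂˣ) := fun _ _ => rfl
  have t' : TrivL (1 : ↥(W₁ ⊔ W₂) →* ℂˣ) := fun _ _ => rfl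
  have iff1 : ∀ {a a' b b' : ↥(W₁ ⊔ W₂) →* ℂˣ}, TrivR a → TrivR a' → TrivL b → TrivL b' →
      (a * b = a' * b' ↔ a = a' ∧ b = b') := fun ha ha' hb hb' =>
    ⟨mul_inj_trivR_trivL hdisj hcomm ha ha' hb hb', fun h => by rw [h.1, h.2]⟩
  have n1 : φ * ψ ≠ 1 := fun e => hφ1 ((iff1 hφ t hψ t').mp (e.trans (one_mul (1 : ↥(W₁ ⊔ W₂) →* ℂˣ)).symm)).1
  have n1' : φ' * ψ' ≠ 1 := fun e => hφ'1 ((iff1 hφ' t hψ' t').mp (e.trans (one_mul (1 : ↥(W₁ ⊔ W₂) →* ℂˣ)).symm)).1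
  have n2 : φ ≠ φ' * ψ' := fun e =>
    hψ'1 ((iff1 hφ hφ' t' hψ').mp ((mul_one φ).trans e)).2.symm
  have n3 : ψ ≠ φ' * ψ' := fun e =>
    hφ'1 ((iff1 t hφ' hψ hψ').mp ((one_mul ψ).trans e)).1.symm
  have n4 : φ * ψ ≠ φ' := fun e => hψ1 ((iff1 hφ hφ' hψ t').mp (e.trans (mul_one φ').symm)).2
  have n5 : φ * ψ ≠ ψ' := fun e => hφ1 ((iff1 hφ t hψ hψ').mp (e.trans (one_mul ψ').symm)).1
  have n6 : φ ≠ ψ' := fun e => hφ1 (eq_one_of_trivR_trivL hdisj hcomm hφ (e ▸ hψ'))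
  have n7 : ψ ≠ φ' := fun e => hψ1 (eq_one_of_trivR_trivL hdisj hcomm (e ▸ hφ') hψ)
  simp only [ctiAlpha_eq_sum, classInner_add_left, classInner_sub_left, classInner_add_right,
    classInner_sub_right, classInner_hom, if_neg n1, if_neg n1'.symm, if_neg n2, if_neg n3,
    if_neg n4, if_neg n5, if_neg n6, if_neg n7, if_neg hφ1, if_neg hψ1, if_neg hφ'1.symm,
    if_neg hψ'1.symm, if_pos rfl, iff1 hφ hφ' hψ hψ', ite_and]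
  split_ifs <;> ring

/-- a function on `W` orthogonal to all the `ctiAlpha` vanishes outside `W₁ ∪ W₂` -/
theorem vanish_of_orth [Fintype ↥(W₁ ⊔ W₂)] (hdisj : W₁ ⊓ W₂ = ⊥)
    (hcomm : ∀ a ∈ W₁, ∀ b ∈ W₂, a * b = b * a)
    (habel : ∀ a b : ↥(W₁ ⊔ W₂), a * b = b * a) (f : ↥(W₁ ⊔ W₂) → ℂ)
    (h : ∀ φ ψ, TrivR φ → TrivL ψ → φ ≠ 1 → ψ ≠ 1 → Cfsg.classInner f (ctiAlpha φ ψ) = 0)
    (w : ↥(W₁ ⊔ W₂)) (hw₁ : (w : G) ∉ W₁) (hw₂ : (w : G) ∉ W₂) : f w = 0 := by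
  let iA : CommGroup W₁ :=
    { (inferInstance : Group W₁) with
      mul_comm := fun a b => Subtype.ext (congrArg Subtype.val
        (habel (ctiL W₁ W₂ a) (ctiL W₁ W₂ b)) :) }
  let iB : CommGroup W₂ :=
    { (inferInstance : Group W₂) with
      mul_comm := fun a b => Subtype.ext (congrArg Subtype.val
        (habel (ctiR W₁ W₂ a) (ctiR W₁ W₂ b)) :) }
  let e := MulEquiv.ofBijective _ (ctiMul_bijective hdisj hcomm)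
  haveI : Finite (W₁ × W₂) := Finite.of_equiv _ e.symm.toEquiv
  haveI : Finite W₁ := Finite.prod_left W₂
  haveI : Finite W₂ := Finite.prod_right W₁
  haveI := Fintype.ofFinite W₁
  haveI := Fintype.ofFinite W₂
  have key : ∀ (g₁ : W₁ →* ℂˣ) (g₂ : W₂ →* ℂˣ),
      ∑ a : W₁, (∑ b : W₂, f (ctiMul hcomm (a, b)) * (1 - (g₂ b : ℂ))) * (1 - (g₁ a : ℂ)) = 0 := by
    intro g₁ g₂
    by_cases h1 : g₁ = 1
    · simp [h1]
    by_cases h2 : g₂ = 1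
    · simp [h2]
    obtain ⟨φ, hφ, hφe⟩ := exists_trivR hdisj hcomm g₁⁻¹
    obtain ⟨ψ, hψ, hψe⟩ := exists_trivL hdisj hcomm g₂⁻¹
    have hφ1 : φ ≠ 1 := fun hh => h1 (by
      rw [hh, MonoidHom.one_comp] at hφe
      exact MonoidHom.ext fun a => inv_eq_one.mp (DFunLike.congr_fun hφe.symm a))
    have hψ1 : ψ ≠ 1 := fun hh => h2 (by
      rw [hh, MonoidHom.one_comp] at hψe
      exact MonoidHom.ext fun a => inv_eq_one.mp (DFunLike.congr_fun hψe.symm a))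
    have := h φ ψ hφ hψ hφ1 hψ1
    rw [Cfsg.classInner, mul_eq_zero] at this
    have := this.resolve_left (inv_ne_zero (Nat.cast_ne_zero.mpr Nat.card_pos.ne'))
    rw [← Equiv.sum_comp e.toEquiv, Fintype.sum_prod_type] at this
    rw [← this]
    refine Finset.sum_congr rfl fun a _ => ?_
    rw [Finset.sum_mul]
    refine Finset.sum_congr rfl fun b _ => ?_
    show _ = f (ctiMul hcomm (a, b)) * conj (ctiAlpha φ ψ (ctiMul hcomm (a, b)))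
    have ea : φ (ctiL W₁ W₂ a) = g₁⁻¹ a := DFunLike.congr_fun hφe a
    have eb : ψ (ctiR W₁ W₂ b) = g₂⁻¹ b := DFunLike.congr_fun hψe b
    rw [ctiAlpha_mul hφ hψ, map_mul, map_sub, map_sub, map_one, ea, eb, hom_conj, hom_conj,
      MonoidHom.inv_apply, MonoidHom.inv_apply, MonoidHom.inv_apply, MonoidHom.inv_apply,
      inv_inv, inv_inv]
    ring
  obtain ⟨⟨a, b⟩, rfl⟩ := (ctiMul_bijective hdisj hcomm).2 w
  have ha : a ≠ 1 := fun e => hw₂ (by simp [e])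
  have hb : b ≠ 1 := fun e => hw₁ (by simp [e])
  refine dual_vanish (fun b' => f (ctiMul hcomm (a, b'))) (fun g₂ => ?_) hb
  exact dual_vanish (fun a' => ∑ b' : W₂, f (ctiMul hcomm (a', b')) * (1 - (g₂ b' : ℂ)))
    (fun g₁ => key g₁ g₂) ha

end Sup

section TI

variable {G : Type*} [Group G] {W₁ W₂ : Subgroup G}

theorem cti_abelian (hW : Cfsg.IsSelfNormalizingCyclic W₁ W₂) (a b : ↥(W₁ ⊔ W₂)) :
    a * b = b * a := by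
  haveI := hW.2.2.2.2.1
  exact IsMulCommutative.is_comm.comm a b

theorem mem_iff_pow_card_eq_one [Finite G] {W A : Subgroup G} [hcyc : IsCyclic W] (hA : A ≤ W)
    {z : G} (hz : z ∈ W) : z ∈ A ↔ z ^ Nat.card A = 1 := by
  refine ⟨fun h => orderOf_dvd_iff_pow_eq_one.mp (A.orderOf_dvd_natCard h), fun h => ?_⟩
  haveI := Fintype.ofFinite W
  set S : Finset W := univ.filter (fun x => x ^ Nat.card A = 1) with hS
  have hsub : univ.filter (fun x : W => (x : G) ∈ A) ⊆ S := by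
    intro x hx
    simp only [hS, mem_filter, mem_univ, true_and] at hx ⊢
    exact Subtype.ext (by simpa using orderOf_dvd_iff_pow_eq_one.mp (A.orderOf_dvd_natCard hx))
  have hcard : (univ.filter (fun x : W => (x : G) ∈ A)).card = Nat.card A := by
    rw [← Fintype.card_subtype, ← Nat.card_eq_fintype_card]
    exact Nat.card_congr
      { toFun := fun x => ⟨x.1.1, x.2⟩
        invFun := fun y => ⟨⟨y.1, hA y.2⟩, y.2⟩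
        left_inv := fun _ => rfl
        right_inv := fun _ => rfl }
  have := Finset.eq_of_subset_of_card_le hsub (hcard.symm ▸ IsCyclic.card_pow_eq_one_le Nat.card_pos)
  have hz' : (⟨z, hz⟩ : W) ∈ S := by
    simp only [hS, mem_filter, mem_univ, true_and]
    exact Subtype.ext (by simpa using h)
  rw [← this] at hz'
  simpa using hz'

theorem cti_conj_mem [Finite G] (hW : Cfsg.IsSelfNormalizingCyclic W₁ W₂) {z x : G}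
    (hz : z ∈ W₁ ⊔ W₂) (hxz : x * z * x⁻¹ ∈ W₁ ⊔ W₂) :
    (x * z * x⁻¹ ∈ W₁ ↔ z ∈ W₁) ∧ (x * z * x⁻¹ ∈ W₂ ↔ z ∈ W₂) := by
  haveI := hW.2.2.2.2.1
  refine ⟨?_, ?_⟩
  · rw [mem_iff_pow_card_eq_one le_sup_left hxz, mem_iff_pow_card_eq_one le_sup_left hz, conj_pow,
      mul_inv_eq_one, mul_eq_left]
  · rw [mem_iff_pow_card_eq_one le_sup_right hxz, mem_iff_pow_card_eq_one le_sup_right hz, conj_pow,
      mul_inv_eq_one, mul_eq_left]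

theorem cti_centralizer [Finite G] (hW : Cfsg.IsSelfNormalizingCyclic W₁ W₂) {v : G}
    (hv : v ∈ W₁ ⊔ W₂) (h₁ : v ∉ W₁) (h₂ : v ∉ W₂) (c : G) :
    c ∈ W₁ ⊔ W₂ ↔ c * v * c⁻¹ = v := by
  refine ⟨fun hc => ?_, fun hc => ?_⟩
  · have := congrArg Subtype.val (cti_abelian hW ⟨c, hc⟩ ⟨v, hv⟩)
    simp only [Subgroup.coe_mul] at this
    rw [this, mul_inv_cancel_right]
  · rw [← hW.2.2.2.2.2 {v} (by simp [hv, h₁, h₂]) (Set.singleton_nonempty _),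
      Subgroup.mem_set_normalizer_iff]
    intro z
    simp only [Set.mem_singleton_iff]
    constructor
    · rintro rfl; exact hc
    · intro h
      exact mul_left_cancel (mul_right_cancel (h.trans hc.symm))

theorem cti_TI [Finite G] (hW : Cfsg.IsSelfNormalizingCyclic W₁ W₂) {v x : G}
    (hv : v ∈ W₁ ⊔ W₂) (h₁ : v ∉ W₁) (h₂ : v ∉ W₂) (hxv : x * v * x⁻¹ ∈ W₁ ⊔ W₂) :
    x ∈ W₁ ⊔ W₂ := by
  obtain ⟨e₁, e₂⟩ := cti_conj_mem hW hv hxv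
  have hnorm : ∀ c, c ∈ W₁ ⊔ W₂ ↔ x * c * x⁻¹ ∈ W₁ ⊔ W₂ := by
    intro c
    rw [cti_centralizer hW hv h₁ h₂ c,
      cti_centralizer hW hxv (fun h => h₁ (e₁.mp h)) (fun h => h₂ (e₂.mp h))]
    constructor
    · intro h
      calc _ = x * (c * v * c⁻¹) * x⁻¹ := by group
        _ = _ := by rw [h]
    · intro h
      calc c * v * c⁻¹ = x⁻¹ * (x * c * x⁻¹ * (x * v * x⁻¹) * (x * c * x⁻¹)⁻¹) * x := by group
        _ = v := by rw [h]; group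
  rw [← hW.2.2.2.2.2 ((↑(W₁ ⊔ W₂) : Set G) \ (↑W₁ ∪ ↑W₂)) subset_rfl
    ⟨v, hv, by simp [h₁, h₂]⟩, Subgroup.mem_set_normalizer_iff]
  intro z
  simp only [Set.mem_sdiff, Set.mem_union, SetLike.mem_coe, not_or]
  constructor
  · rintro ⟨hz, k₁, k₂⟩
    obtain ⟨f₁, f₂⟩ := cti_conj_mem hW hz ((hnorm z).mp hz)
    exact ⟨(hnorm z).mp hz, fun h => k₁ (f₁.mp h), fun h => k₂ (f₂.mp h)⟩
  · rintro ⟨hz, k₁, k₂⟩
    obtain ⟨f₁, f₂⟩ := cti_conj_mem hW ((hnorm z).mpr hz) hz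
    exact ⟨(hnorm z).mpr hz, fun h => k₁ (f₁.mpr h), fun h => k₂ (f₂.mpr h)⟩

theorem indFun_cti_apply [Fintype G] (hW : Cfsg.IsSelfNormalizingCyclic W₁ W₂)
    (β : ↥(W₁ ⊔ W₂) → ℂ)
    (hβ : ∀ w : ↥(W₁ ⊔ W₂), ((w : G) ∈ W₁ ∨ (w : G) ∈ W₂) → β w = 0) (w : ↥(W₁ ⊔ W₂)) :
    Cfsg.indFun (W₁ ⊔ W₂) β w = β w := by
  rw [CfsgLib.Induction.indFun_apply]
  have hsum : ∑ x : G, Cfsg.extendByZero (W₁ ⊔ W₂) β (x⁻¹ * w * x) =
      ∑ x ∈ univ.filter (· ∈ W₁ ⊔ W₂), Cfsg.extendByZero (W₁ ⊔ W₂) β (x⁻¹ * w * x) := by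
    symm
    refine Finset.sum_subset (Finset.subset_univ _) fun x _ hx => ?_
    have hx' : x ∉ W₁ ⊔ W₂ := by simpa using hx
    by_cases hm : x⁻¹ * (w : G) * x ∈ W₁ ⊔ W₂
    · rw [CfsgLib.Induction.extendByZero_mem _ _ hm]
      refine hβ _ ?_
      by_contra hc
      rw [not_or] at hc
      exact hx' (cti_TI hW hm hc.1 hc.2 (by
        have : x * (x⁻¹ * (w : G) * x) * x⁻¹ = w := by group
        rw [this]; exact w.2))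
    · exact CfsgLib.Induction.extendByZero_notMem _ _ hm
  have hconst : ∀ x ∈ univ.filter (· ∈ W₁ ⊔ W₂),
      Cfsg.extendByZero (W₁ ⊔ W₂) β (x⁻¹ * w * x) = β w := by
    intro x hx
    have e : x⁻¹ * (w : G) * x = w := by
      have := congrArg Subtype.val (cti_abelian hW w ⟨x, (mem_filter.mp hx).2⟩)
      simp only [Subgroup.coe_mul] at this
      rw [mul_assoc, this, inv_mul_cancel_left]
    rw [e, CfsgLib.Induction.extendByZero_coe]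
  rw [hsum, Finset.sum_congr rfl hconst, Finset.sum_const, nsmul_eq_mul]
  have hc : ((univ.filter (· ∈ W₁ ⊔ W₂)).card : ℂ) = (Nat.card ↥(W₁ ⊔ W₂) : ℂ) := by
    rw [Nat.card_eq_fintype_card, Fintype.card_subtype]
  rw [hc, inv_mul_cancel_left₀]
  exact Nat.cast_ne_zero.mpr Nat.card_pos.ne'

theorem indFun_ctiAlpha_isometry [Fintype G] [Fintype ↥(W₁ ⊔ W₂)]
    (hW : Cfsg.IsSelfNormalizingCyclic W₁ W₂) {φ φ' ψ ψ' : ↥(W₁ ⊔ W₂) →* ℂˣ}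
    (hφ' : TrivR φ') (hψ' : TrivL ψ') :
    Cfsg.classInner (Cfsg.indFun (W₁ ⊔ W₂) (ctiAlpha φ ψ))
      (Cfsg.indFun (W₁ ⊔ W₂) (ctiAlpha φ' ψ')) =
      Cfsg.classInner (ctiAlpha φ ψ) (ctiAlpha φ' ψ') := by
  rw [CfsgLib.Induction.classInner_indFun _ _ (CfsgLib.Induction.isClassFunction_indFun _ _)]
  congr 1
  funext w
  exact indFun_cti_apply hW _ (ctiAlpha_vanish hφ' hψ') w

end TI

end CfsgLib.OddChar
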