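import Mathlib
import Cfsg.Prelude.Def_OddOrderChar

set_option autoImplicit false

/-! Elementary consequences of the Dade set-up: disjointness of the supporting cosets,
equivariance of the supporting subgroups, and the summation formula over the support. -/

namespace CfsgLib.OddChar

open scoped Classical
open Finset

variable {G : Type*} [Group G]

/-- the union of the conjugates of the cosets `a * H a` -/
def dadeSupp (A : Set G) (H : G → Subgroup G) : Set G :=
  {g : G | ∃ a ∈ A, ∃ u ∈ H a, ∃ x : G, x * g * x⁻¹ = a * u}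

theorem exists_pow_eq_left [Finite G] {a b u v : G} (hau : Commute a u) (hbv : Commute b v)
    (h : Nat.Coprime (Nat.lcm (orderOf a) (orderOf b)) (Nat.lcm (orderOf u) (orderOf v))) :
    ∃ n : ℕ, (a * u) ^ n = a ∧ (b * v) ^ n = b := by
  obtain ⟨n, h1, h2⟩ := Nat.chineseRemainder h 1 0
  have e1 : ∀ {c w : G}, Commute c w → orderOf c ∣ Nat.lcm (orderOf a) (orderOf b) →
      orderOf w ∣ Nat.lcm (orderOf u) (orderOf v) → (c * w) ^ n = c := by
    intro c w hcw hc hw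
    rw [hcw.mul_pow, pow_eq_pow_iff_modEq.mpr (h1.of_dvd hc), pow_one,
      pow_eq_pow_iff_modEq.mpr (h2.of_dvd hw), pow_zero, mul_one]
  exact ⟨n, e1 hau (Nat.dvd_lcm_left _ _) (Nat.dvd_lcm_left _ _),
    e1 hbv (Nat.dvd_lcm_right _ _) (Nat.dvd_lcm_right _ _)⟩

section

variable {A : Set G} {L : Subgroup G} {H : G → Subgroup G}

theorem dade_commute (hD : Cfsg.DadeHypothesis A L H) {a u : G} (ha : a ∈ A) (hu : u ∈ H a) :
    Commute a u :=
  (Subgroup.mem_centralizer_singleton_iff.mp (hD.le_centralizer a ha hu)).symm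

theorem dade_orderOf_dvd (hD : Cfsg.DadeHypothesis A L H) {a : G} (ha : a ∈ A) :
    orderOf a ∣ Nat.card ↥(L ⊓ Subgroup.centralizer ({a} : Set G)) :=
  Subgroup.orderOf_dvd_natCard _
    ⟨hD.subset ha, Subgroup.mem_centralizer_singleton_iff.mpr rfl⟩

theorem dade_fusion (hD : Cfsg.DadeHypothesis A L H) {a b x : G} (ha : a ∈ A) (hb : b ∈ A)
    (h : x * a * x⁻¹ = b) : ∃ l ∈ L, l * a * l⁻¹ = b := by
  subst h
  exact hD.fusion a ha x hb

theorem dade_key [Finite G] (hD : Cfsg.DadeHypothesis A L H) {a b u v x : G} (ha : a ∈ A)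
    (hb : b ∈ A) (hu : u ∈ H a) (hv : v ∈ H b) (h : x * (a * u) * x⁻¹ = b * v) :
    x * a * x⁻¹ = b ∧ x * u * x⁻¹ = v := by
  have hua : ∀ c ∈ A, Nat.Coprime (orderOf c) (orderOf u) := fun c hc =>
    ((hD.coprime a ha c hc).symm.coprime_dvd_left (dade_orderOf_dvd hD hc)).coprime_dvd_right
      (Subgroup.orderOf_dvd_natCard _ hu)
  have hvb : ∀ c ∈ A, Nat.Coprime (orderOf c) (orderOf v) := fun c hc =>
    ((hD.coprime b hb c hc).symm.coprime_dvd_left (dade_orderOf_dvd hD hc)).coprime_dvd_right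
      (Subgroup.orderOf_dvd_natCard _ hv)
  have hcop : Nat.Coprime (Nat.lcm (orderOf a) (orderOf b)) (Nat.lcm (orderOf u) (orderOf v)) := by
    apply Nat.Coprime.coprime_dvd_left (Nat.lcm_dvd_mul _ _)
    apply Nat.Coprime.coprime_dvd_right (Nat.lcm_dvd_mul _ _)
    exact Nat.Coprime.mul_left ((hua a ha).mul_right (hvb a ha))
      ((hua b hb).mul_right (hvb b hb))
  obtain ⟨n, hn1, hn2⟩ := exists_pow_eq_left (dade_commute hD ha hu) (dade_commute hD hb hv) hcop
  have hxa : x * a * x⁻¹ = b := by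
    calc x * a * x⁻¹ = x * (a * u) ^ n * x⁻¹ := by rw [hn1]
      _ = (x * (a * u) * x⁻¹) ^ n := conj_pow.symm
      _ = b := by rw [h, hn2]
  refine ⟨hxa, ?_⟩
  calc x * u * x⁻¹ = (x * a * x⁻¹)⁻¹ * (x * (a * u) * x⁻¹) := by group
    _ = v := by rw [hxa, h]; group

theorem dade_card_centralizer_conj {L : Subgroup G} {a b l : G} (hl : l ∈ L)
    (h : l * a * l⁻¹ = b) :
    Nat.card ↥(L ⊓ Subgroup.centralizer ({a} : Set G)) =
      Nat.card ↥(L ⊓ Subgroup.centralizer ({b} : Set G)) := by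
  refine Nat.card_congr ((MulAut.conj l).toEquiv.subtypeEquiv fun c => ?_)
  subst h
  simp only [Subgroup.mem_inf, Subgroup.mem_centralizer_singleton_iff, MulEquiv.toEquiv_eq_coe,
    EquivLike.coe_coe, MulAut.conj_apply]
  constructor
  · rintro ⟨h1, h2⟩
    refine ⟨L.mul_mem (L.mul_mem hl h1) (L.inv_mem hl), ?_⟩
    calc l * c * l⁻¹ * (l * a * l⁻¹) = l * (c * a) * l⁻¹ := by group
      _ = l * a * l⁻¹ * (l * c * l⁻¹) := by rw [h2]; group
  · rintro ⟨h1, h2⟩
    refine ⟨?_, ?_⟩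
    · simpa [mul_assoc] using L.mul_mem (L.mul_mem (L.inv_mem hl) h1) hl
    · calc c * a = l⁻¹ * (l * c * l⁻¹ * (l * a * l⁻¹)) * l := by group
        _ = a * c := by rw [h2]; group

theorem dade_decomp (hD : Cfsg.DadeHypothesis A L H) {a c : G} (ha : a ∈ A)
    (hc : c ∈ Subgroup.centralizer ({a} : Set G)) :
    ∃ u ∈ H a, ∃ k ∈ L ⊓ Subgroup.centralizer ({a} : Set G), c = u * k := by
  have hle : L ⊓ Subgroup.centralizer ({a} : Set G) ≤ Subgroup.normalizer (H a : Set G) := by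
    intro k hk
    rw [Subgroup.mem_normalizer_iff]
    intro u
    refine ⟨fun hu => hD.conj_mem_H a ha k hk.2 u hu, fun hu => ?_⟩
    have := hD.conj_mem_H a ha k⁻¹ (Subgroup.inv_mem _ hk.2) _ hu
    simpa [mul_assoc] using this
  rw [← hD.sup_eq a ha, ← SetLike.mem_coe,
    Subgroup.coe_mul_of_right_le_normalizer_left _ _ hle] at hc
  obtain ⟨u, hu, k, hk, rfl⟩ := hc
  exact ⟨u, hu, k, hk, rfl⟩

theorem dade_card_centralizer (hD : Cfsg.DadeHypothesis A L H) {a : G} (ha : a ∈ A) :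
    Nat.card ↥(Subgroup.centralizer ({a} : Set G)) =
      Nat.card (H a) * Nat.card ↥(L ⊓ Subgroup.centralizer ({a} : Set G)) := by
  rw [← Nat.card_prod]
  symm
  refine Nat.card_congr (Equiv.ofBijective
    (fun p : (H a) × ↥(L ⊓ Subgroup.centralizer ({a} : Set G)) =>
      (⟨p.1.1 * p.2.1, Subgroup.mul_mem _ (hD.le_centralizer a ha p.1.2) p.2.2.2⟩ :
        ↥(Subgroup.centralizer ({a} : Set G)))) ⟨?_, ?_⟩)
  · rintro ⟨u, k⟩ ⟨u', k'⟩ h
    have h' : (u : G) * k = u' * k' := congrArg Subtype.val h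
    have e : (u' : G)⁻¹ * u = k' * (k : G)⁻¹ := by
      calc (u' : G)⁻¹ * u = (u' : G)⁻¹ * (u * k) * (k : G)⁻¹ := by group
        _ = k' * (k : G)⁻¹ := by rw [h']; group
    have m : (u' : G)⁻¹ * u ∈ H a ⊓ (L ⊓ Subgroup.centralizer ({a} : Set G)) :=
      ⟨(H a).mul_mem ((H a).inv_mem u'.2) u.2, e ▸ Subgroup.mul_mem _ k'.2 (Subgroup.inv_mem _ k.2)⟩
    rw [hD.inf_eq_bot a ha, Subgroup.mem_bot, inv_mul_eq_one] at m
    have hk : (k : G) = k' := by rw [m] at h'; exact mul_left_cancel h'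
    exact Prod.ext (Subtype.ext m.symm) (Subtype.ext hk)
  · rintro ⟨c, hc⟩
    obtain ⟨u, hu, k, hk, rfl⟩ := dade_decomp hD ha hc
    exact ⟨(⟨u, hu⟩, ⟨k, hk⟩), rfl⟩

theorem dade_card_H_conj [Finite G] (hD : Cfsg.DadeHypothesis A L H) {a b x : G} (ha : a ∈ A)
    (hb : b ∈ A) (h : x * a * x⁻¹ = b) : Nat.card (H a) = Nat.card (H b) := by
  obtain ⟨l, hl, hl'⟩ := dade_fusion hD ha hb h
  have h1 : Nat.card ↥(Subgroup.centralizer ({a} : Set G)) =
      Nat.card ↥(Subgroup.centralizer ({b} : Set G)) := by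
    have := dade_card_centralizer_conj (L := (⊤ : Subgroup G)) (Subgroup.mem_top l) hl'
    rwa [top_inf_eq, top_inf_eq] at this
  rw [dade_card_centralizer hD ha, dade_card_centralizer hD hb,
    dade_card_centralizer_conj hl hl'] at h1
  exact Nat.eq_of_mul_eq_mul_right Nat.card_pos h1

theorem dade_conj_mem_H [Finite G] (hD : Cfsg.DadeHypothesis A L H) {a b x u : G} (ha : a ∈ A)
    (hb : b ∈ A) (h : x * a * x⁻¹ = b) (hu : u ∈ H a) : x * u * x⁻¹ ∈ H b := by
  have hc : x * u * x⁻¹ ∈ Subgroup.centralizer ({b} : Set G) := by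
    rw [Subgroup.mem_centralizer_singleton_iff, ← h]
    calc x * u * x⁻¹ * (x * a * x⁻¹) = x * (u * a) * x⁻¹ := by group
      _ = x * a * x⁻¹ * (x * u * x⁻¹) := by rw [← (dade_commute hD ha hu).eq]; group
  obtain ⟨v, hv, k, hk, he⟩ := dade_decomp hD hb hc
  have hn : (x * u * x⁻¹) ^ Nat.card (H b) = 1 := by
    rw [conj_pow, ← dade_card_H_conj hD ha hb h]
    have : u ^ Nat.card (H a) = 1 :=
      orderOf_dvd_iff_pow_eq_one.mp (Subgroup.orderOf_dvd_natCard _ hu)
    rw [this]; group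
  have hpow : ∀ n : ℕ, ∃ w ∈ H b, (v * k) ^ n = w * k ^ n := by
    intro n
    induction n with
    | zero => exact ⟨1, one_mem _, by simp⟩
    | succ n ih =>
      obtain ⟨w, hw, e⟩ := ih
      refine ⟨w * (k ^ n * v * (k ^ n)⁻¹),
        mul_mem hw (hD.conj_mem_H b hb (k ^ n) (pow_mem hk.2 n) v hv), ?_⟩
      rw [pow_succ, e, pow_succ]; group
  obtain ⟨w, hw, hwe⟩ := hpow (Nat.card (H b))
  rw [← he, hn] at hwe
  have hkm : k ^ Nat.card (H b) ∈ H b ⊓ (L ⊓ Subgroup.centralizer ({b} : Set G)) := by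
    refine ⟨?_, pow_mem hk _⟩
    have : k ^ Nat.card (H b) = w⁻¹ := eq_inv_of_mul_eq_one_right hwe.symm
    rw [this]; exact (H b).inv_mem hw
  rw [hD.inf_eq_bot b hb, Subgroup.mem_bot, ← orderOf_dvd_iff_pow_eq_one] at hkm
  have hk1 : k = 1 := by
    rw [← orderOf_eq_one_iff, ← Nat.dvd_one, ← (hD.coprime b hb b hb).gcd_eq_one]
    exact Nat.dvd_gcd hkm (Subgroup.orderOf_dvd_natCard _ hk)
  rw [he, hk1, mul_one]
  exact hv

/-- the number of `x` conjugating `a` into `A` -/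
theorem dade_card_conj_into [Finite G] (hD : Cfsg.DadeHypothesis A L H) {a : G} (ha : a ∈ A) :
    Nat.card {x : G // x⁻¹ * a * x ∈ A} = Nat.card (H a) * Nat.card L := by
  have key : Nat.card {x : G // x⁻¹ * a * x ∈ A} *
      Nat.card ↥(L ⊓ Subgroup.centralizer ({a} : Set G)) =
      Nat.card ↥(Subgroup.centralizer ({a} : Set G)) * Nat.card L := by
    rw [← Nat.card_prod, ← Nat.card_prod]
    have hl : ∀ x : {x : G // x⁻¹ * a * x ∈ A}, ∃ l ∈ L, l * a * l⁻¹ = x.1⁻¹ * a * x.1 :=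
      fun x => dade_fusion hD ha x.2 (x := x.1⁻¹) (by rw [inv_inv])
    choose l hl1 hl2 using hl
    have hc : ∀ x : {x : G // x⁻¹ * a * x ∈ A}, ∀ k ∈ L ⊓ Subgroup.centralizer ({a} : Set G),
        x.1 * l x * k ∈ Subgroup.centralizer ({a} : Set G) := by
      intro x k hk
      refine mul_mem ?_ hk.2
      rw [Subgroup.mem_centralizer_singleton_iff]
      calc x.1 * l x * a = x.1 * (l x * a * (l x)⁻¹) * l x := by group
        _ = a * (x.1 * l x) := by rw [hl2]; group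
    refine Nat.card_congr (Equiv.ofBijective (fun p =>
      ((⟨p.1.1 * l p.1 * p.2.1, hc p.1 _ p.2.2⟩ : ↥(Subgroup.centralizer ({a} : Set G))),
        (⟨(p.2.1)⁻¹ * (l p.1)⁻¹, mul_mem (inv_mem p.2.2.1) (inv_mem (hl1 _))⟩ : L))) ⟨?_, ?_⟩)
    · rintro ⟨x, k⟩ ⟨x', k'⟩ h
      rw [Prod.mk.injEq, Subtype.mk.injEq, Subtype.mk.injEq] at h
      dsimp only at h
      have hx : x = x' := by
        refine Subtype.ext ?_
        calc x.1 = x.1 * l x * k.1 * (k.1⁻¹ * (l x)⁻¹) := by group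
          _ = x'.1 := by rw [h.1, h.2]; group
      subst hx
      exact Prod.ext rfl (Subtype.ext (mul_left_cancel h.1))
    · rintro ⟨c, m⟩
      have hca : c.1 * a = a * c.1 := Subgroup.mem_centralizer_singleton_iff.mp c.2
      have hxA : (c.1 * m.1)⁻¹ * a * (c.1 * m.1) ∈ A := by
        have e : (c.1 * m.1)⁻¹ * a * (c.1 * m.1) = m.1⁻¹ * a * (m.1⁻¹)⁻¹ := by
          calc (c.1 * m.1)⁻¹ * a * (c.1 * m.1) = m.1⁻¹ * c.1⁻¹ * (a * c.1) * m.1 := by group
            _ = m.1⁻¹ * a * (m.1⁻¹)⁻¹ := by rw [← hca]; group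
        rw [e]; exact hD.conj_mem _ (inv_mem m.2) a ha
      let x : {x : G // x⁻¹ * a * x ∈ A} := ⟨c.1 * m.1, hxA⟩
      have hk : (l x)⁻¹ * m.1⁻¹ ∈ L ⊓ Subgroup.centralizer ({a} : Set G) := by
        refine ⟨L.mul_mem (L.inv_mem (hl1 x)) (L.inv_mem m.2),
          Subgroup.mem_centralizer_singleton_iff.mpr ?_⟩
        have e := hl2 x
        calc (l x)⁻¹ * m.1⁻¹ * a = (l x)⁻¹ * m.1⁻¹ * c.1⁻¹ * (c.1 * a) := by group
          _ = (l x)⁻¹ * ((c.1 * m.1)⁻¹ * a * (c.1 * m.1)) * m.1⁻¹ := by rw [hca]; group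
          _ = a * ((l x)⁻¹ * m.1⁻¹) := by rw [← e]; group
      refine ⟨(x, ⟨_, hk⟩), Prod.ext (Subtype.ext ?_) (Subtype.ext ?_)⟩
      · show c.1 * m.1 * l x * ((l x)⁻¹ * m.1⁻¹) = c.1
        group
      · show ((l x)⁻¹ * m.1⁻¹)⁻¹ * (l x)⁻¹ = m.1
        group
  rw [dade_card_centralizer hD ha, mul_right_comm] at key
  exact Nat.eq_of_mul_eq_mul_right Nat.card_pos key

/-- summation over the support of the Dade map -/
theorem dade_sum [Fintype G] (hD : Cfsg.DadeHypothesis A L H) {k : Type*} [Field k] [CharZero k]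
    (F : G → k) (hF : ∀ g x : G, F (x * g * x⁻¹) = F g) :
    (Nat.card L : k) * ∑ g ∈ univ.filter (· ∈ dadeSupp A H), F g =
      (Nat.card G : k) * ∑ a ∈ univ.filter (· ∈ A),
        (Nat.card (H a) : k)⁻¹ * ∑ u ∈ univ.filter (· ∈ H a), F (a * u) := by
  set T : Finset (G × G × G) :=
    univ ×ˢ univ.filter (fun q : G × G => q.1 ∈ A ∧ q.2 ∈ H q.1) with hT
  set f : G × G × G → G := fun p => p.1 * (p.2.1 * p.2.2) * p.1⁻¹ with hf
  set w : G × G × G → k := fun p => (Nat.card (H p.2.1) : k)⁻¹ with hw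
  have hR : ∑ p ∈ T, w p * F (f p) = (Nat.card G : k) * ∑ a ∈ univ.filter (· ∈ A),
        (Nat.card (H a) : k)⁻¹ * ∑ u ∈ univ.filter (· ∈ H a), F (a * u) := by
    simp only [hT, hf, hw, hF]
    rw [Finset.sum_product]
    dsimp only
    rw [Finset.sum_const, Finset.card_univ, nsmul_eq_mul,
      Nat.card_eq_fintype_card, Finset.sum_filter, Fintype.sum_prod_type, Finset.sum_filter]
    congr 1
    refine Finset.sum_congr rfl fun a _ => ?_
    by_cases ha : a ∈ A
    · simp [ha, Finset.mul_sum, Finset.sum_filter]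
    · simp [ha]
  have hmaps : ∀ p ∈ T, f p ∈ univ.filter (· ∈ dadeSupp A H) := by
    intro p hp
    simp only [hT, mem_filter, mem_product, mem_univ, true_and] at hp ⊢
    exact ⟨p.2.1, hp.1, p.2.2, hp.2, p.1⁻¹, by simp [hf, mul_assoc]⟩
  have hfib : ∀ g ∈ univ.filter (· ∈ dadeSupp A H),
      ∑ p ∈ T.filter (fun p => f p = g), w p * F (f p) = (Nat.card L : k) * F g := by
    intro g hg
    obtain ⟨a, ha, u, hu, x0, hx0⟩ := (mem_filter.mp hg).2
    have hmem : ∀ p ∈ T.filter (fun p => f p = g),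
        (x0 * p.1) * p.2.1 * (x0 * p.1)⁻¹ = a ∧ (x0 * p.1) * p.2.2 * (x0 * p.1)⁻¹ = u := by
      intro p hp
      simp only [hT, mem_filter, mem_product, mem_univ, true_and] at hp
      refine dade_key hD hp.1.1 ha hp.1.2 hu ?_
      rw [← hx0, ← hp.2]; simp only [hf]; group
    have hcard : (T.filter (fun p => f p = g)).card = Nat.card (H a) * Nat.card L := by
      rw [← dade_card_conj_into hD ha, Nat.card_eq_fintype_card, Fintype.card_subtype]
      refine Finset.card_bij (fun p _ => x0 * p.1) ?_ ?_ ?_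
      · intro p hp
        obtain ⟨e, -⟩ := hmem p hp
        simp only [hT, mem_filter, mem_product, mem_univ, true_and] at hp
        rw [mem_filter]
        refine ⟨mem_univ _, ?_⟩
        have : (x0 * p.1)⁻¹ * a * (x0 * p.1) = p.2.1 := by rw [← e]; group
        rw [this]; exact hp.1.1
      · intro p hp q hq h
        have hp' := hmem p hp
        have hq' := hmem q hq
        have h1 : p.1 = q.1 := mul_left_cancel h
        rw [h1] at hp'
        refine Prod.ext h1 (Prod.ext ?_ ?_)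
        · exact mul_left_cancel (mul_right_cancel (hp'.1.trans hq'.1.symm))
        · exact mul_left_cancel (mul_right_cancel (hp'.2.trans hq'.2.symm))
      · intro y hy
        rw [mem_filter] at hy
        have hu' : y⁻¹ * u * y ∈ H (y⁻¹ * a * y) := by
          have := dade_conj_mem_H hD ha hy.2 (x := y⁻¹) (by rw [inv_inv]) hu
          rwa [inv_inv] at this
        refine ⟨(x0⁻¹ * y, y⁻¹ * a * y, y⁻¹ * u * y), ?_, by simp⟩
        simp only [hT, mem_filter, mem_product, mem_univ, true_and]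
        refine ⟨⟨hy.2, hu'⟩, ?_⟩
        calc f (x0⁻¹ * y, y⁻¹ * a * y, y⁻¹ * u * y) = x0⁻¹ * (a * u) * x0 := by
              simp only [hf]; group
          _ = g := by rw [← hx0]; group
    have hw' : ∀ p ∈ T.filter (fun p => f p = g), w p * F (f p) = (Nat.card (H a) : k)⁻¹ * F g := by
      intro p hp
      obtain ⟨e, -⟩ := hmem p hp
      simp only [hT, mem_filter, mem_product, mem_univ, true_and] at hp
      rw [hp.2]; simp only [hw]
      rw [dade_card_H_conj hD hp.1.1 ha e]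
    rw [Finset.sum_congr rfl hw', Finset.sum_const, hcard, nsmul_eq_mul, Nat.cast_mul]
    have : (Nat.card (H a) : k) ≠ 0 := Nat.cast_ne_zero.mpr Nat.card_pos.ne'
    field_simp
  rw [← hR, ← Finset.sum_fiberwise_of_maps_to hmaps, Finset.sum_congr rfl hfib, Finset.mul_sum]

theorem dadeIsometry_apply [Finite G] (hD : Cfsg.DadeHypothesis A L H) {α : L → ℂ}
    (hα : Cfsg.IsClassFunction L α) {a : L} {u x g : G} (ha : (a : G) ∈ A) (hu : u ∈ H a)
    (h : x * g * x⁻¹ = a * u) : Cfsg.dadeIsometry A L H α g = α a := by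
  have hex : ∃ a : ↥L, (a : G) ∈ A ∧ ∃ x : G, ∃ u ∈ H (a : G), x * g * x⁻¹ = (a : G) * u :=
    ⟨a, ha, x, u, hu, h⟩
  rw [Cfsg.dadeIsometry, dif_pos hex]
  obtain ⟨hb, y, v, hv, hy⟩ := Classical.choose_spec hex
  set b := Classical.choose hex
  have := dade_key hD ha hb hu hv (x := y * x⁻¹) (by rw [← h, ← hy]; group)
  obtain ⟨l, hl, hl'⟩ := dade_fusion hD ha hb this.1
  have e : b = (⟨l, hl⟩ : L) * a * (⟨l, hl⟩ : L)⁻¹ := Subtype.ext hl'.symm
  rw [e]; exact hα a ⟨l, hl⟩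

theorem dadeIsometry_of_not_mem {α : L → ℂ} {g : G}
    (h : g ∉ dadeSupp A H) : Cfsg.dadeIsometry A L H α g = 0 := by
  rw [Cfsg.dadeIsometry, dif_neg]
  rintro ⟨a, ha, x, u, hu, e⟩
  exact h ⟨a, ha, u, hu, x, e⟩

theorem dadeSupp_conj {g x : G} : x * g * x⁻¹ ∈ dadeSupp A H ↔ g ∈ dadeSupp A H := by
  constructor
  · rintro ⟨a, ha, u, hu, y, e⟩
    exact ⟨a, ha, u, hu, y * x, by rw [← e]; group⟩
  · rintro ⟨a, ha, u, hu, y, e⟩
    exact ⟨a, ha, u, hu, y * x⁻¹, by rw [← e]; group⟩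

theorem dadeIsometry_isClassFunction [Finite G] (hD : Cfsg.DadeHypothesis A L H) {α : L → ℂ}
    (hα : Cfsg.IsClassFunction L α) :
    Cfsg.IsClassFunction G (Cfsg.dadeIsometry A L H α) := by
  intro g x
  by_cases hg : g ∈ dadeSupp A H
  · obtain ⟨a, ha, u, hu, y, e⟩ := hg
    rw [dadeIsometry_apply hD hα (a := ⟨a, hD.subset ha⟩) (x := y) ha hu e,
      dadeIsometry_apply hD hα (a := ⟨a, hD.subset ha⟩) (x := y * x⁻¹) ha hu
        (by rw [← e]; group)]
  · rw [dadeIsometry_of_not_mem hg,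
      dadeIsometry_of_not_mem (fun h => hg (dadeSupp_conj.mp h))]

end

end CfsgLib.OddChar
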