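import Cfsg.Agent.Lib.OddChar.Dade

set_option autoImplicit false

/-! Inner products with images of the Dade map. -/

namespace CfsgLib.OddChar

open scoped Classical ComplexConjugate
open Finset

variable {G : Type*} [Group G] {A : Set G} {L : Subgroup G} {H : G → Subgroup G}

theorem dade_sum_subtype [Fintype G] [Fintype L] (hsub : A ⊆ (L : Set G))
    {k : Type*} [AddCommMonoid k] (f : G → k) :
    ∑ a ∈ (univ : Finset G).filter (· ∈ A), f a =
      ∑ a ∈ (univ : Finset L).filter (fun a : L => (a : G) ∈ A), f (a : G) := by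
  symm
  refine Finset.sum_bij (fun a _ => (a : G)) ?_ ?_ ?_ (fun _ _ => rfl)
  · intro a ha; simpa using ha
  · intro a _ b _ h; exact Subtype.ext h
  · intro b hb
    have hb' : b ∈ A := by simpa using hb
    exact ⟨⟨b, hsub hb'⟩, by simpa using hb', rfl⟩

theorem dade_adjoint [Fintype G] [Fintype L] (hD : Cfsg.DadeHypothesis A L H) {α : L → ℂ}
    (hα : Cfsg.IsClassFunction L α) (hαA : ∀ x : L, (x : G) ∉ A → α x = 0) {χ : G → ℂ}
    (hχ : Cfsg.IsClassFunction G χ) {ψ : L → ℂ}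
    (hψ : ∀ a : L, (a : G) ∈ A → ψ a =
      (Nat.card (H a) : ℂ)⁻¹ * ∑ᶠ u ∈ (H a : Set G), χ (a * u)) :
    Cfsg.classInner (Cfsg.dadeIsometry A L H α) χ = Cfsg.classInner α ψ := by
  have hG : (Nat.card G : ℂ) ≠ 0 := Nat.cast_ne_zero.mpr Nat.card_pos.ne'
  have hL : (Nat.card L : ℂ) ≠ 0 := Nat.cast_ne_zero.mpr Nat.card_pos.ne'
  set τα := Cfsg.dadeIsometry A L H α with hτ
  have hF : ∀ g x : G, τα (x * g * x⁻¹) * conj (χ (x * g * x⁻¹)) = τα g * conj (χ g) := fun g x => by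
    rw [hτ, dadeIsometry_isClassFunction hD hα g x, hχ g x]
  have key := dade_sum hD (k := ℂ) (fun g => τα g * conj (χ g)) hF
  have h1 : ∑ g ∈ univ.filter (· ∈ dadeSupp A H), τα g * conj (χ g) =
      ∑ g : G, τα g * conj (χ g) := by
    refine Finset.sum_subset (Finset.subset_univ _) fun g _ hg => ?_
    rw [hτ, dadeIsometry_of_not_mem (by simpa using hg), zero_mul]
  have h2 : ∀ a : L, (a : G) ∈ A → (Nat.card (H (a : G)) : ℂ)⁻¹ *
      ∑ u ∈ univ.filter (· ∈ H (a : G)), τα ((a : G) * u) * conj (χ ((a : G) * u)) =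
      α a * conj (ψ a) := by
    intro a ha
    rw [hψ a ha, map_mul, map_inv₀, Complex.conj_natCast,
      finsum_mem_eq_finite_toFinset_sum _ (Set.toFinite _), map_sum, mul_left_comm (α a)]
    congr 1
    rw [Finset.mul_sum]
    refine Finset.sum_congr (by ext u; simp) fun u hu => ?_
    rw [Set.Finite.mem_toFinset, SetLike.mem_coe] at hu
    rw [hτ, dadeIsometry_apply hD hα (x := (1 : G)) ha hu (by group)]
  simp only [h1] at key
  rw [dade_sum_subtype hD.subset,
    Finset.sum_congr rfl (fun a ha => h2 a (mem_filter.mp ha).2)] at key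
  have h3 : ∑ a ∈ (univ : Finset L).filter (fun a : L => (a : G) ∈ A), α a * conj (ψ a) =
      ∑ a : L, α a * conj (ψ a) := by
    refine Finset.sum_subset (Finset.subset_univ _) fun a _ ha => ?_
    rw [hαA a (by simpa using ha), zero_mul]
  rw [h3] at key
  rw [Cfsg.classInner, Cfsg.classInner]
  field_simp
  linear_combination key

theorem dade_average [Fintype G] (hD : Cfsg.DadeHypothesis A L H) {β : L → ℂ}
    (hβ : Cfsg.IsClassFunction L β) {a : L} (ha : (a : G) ∈ A) :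
    β a = (Nat.card (H (a : G)) : ℂ)⁻¹ *
      ∑ᶠ u ∈ (H (a : G) : Set G), Cfsg.dadeIsometry A L H β ((a : G) * u) := by
  rw [finsum_mem_eq_finite_toFinset_sum _ (Set.toFinite _),
    Finset.sum_congr rfl (fun u hu => dadeIsometry_apply hD hβ (x := (1 : G)) ha
      ((Set.Finite.mem_toFinset _).mp hu) (by group)), Finset.sum_const, nsmul_eq_mul,
    ← Nat.card_eq_card_finite_toFinset]
  have : (Nat.card (H (a : G)) : ℂ) ≠ 0 := Nat.cast_ne_zero.mpr Nat.card_pos.ne'
  simp only [SetLike.coe_sort_coe]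
  field_simp

theorem dade_isometry [Fintype G] [Fintype L] (hD : Cfsg.DadeHypothesis A L H) {α β : L → ℂ}
    (hα : Cfsg.IsClassFunction L α) (hαA : ∀ x : L, (x : G) ∉ A → α x = 0)
    (hβ : Cfsg.IsClassFunction L β) :
    Cfsg.classInner (Cfsg.dadeIsometry A L H α) (Cfsg.dadeIsometry A L H β) =
      Cfsg.classInner α β :=
  dade_adjoint hD hα hαA (dadeIsometry_isClassFunction hD hβ) fun _ ha => dade_average hD hβ ha

theorem dade_norm_le [Fintype G] [Fintype L] (hD : Cfsg.DadeHypothesis A L H) {χ : G → ℂ}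
    (hχ : Cfsg.IsClassFunction G χ) {ψ : L → ℂ}
    (hψ : ∀ a : L, (a : G) ∈ A → ψ a =
      (Nat.card (H a) : ℂ)⁻¹ * ∑ᶠ u ∈ (H a : Set G), χ (a * u)) :
    (Nat.card L : ℝ)⁻¹ * ∑ᶠ a ∈ {a : L | (a : G) ∈ A}, ‖ψ a‖ ^ 2 ≤
      (Nat.card G : ℝ)⁻¹ * ∑ᶠ g ∈ dadeSupp A H, ‖χ g‖ ^ 2 := by
  have key := dade_sum hD (k := ℝ) (fun g => ‖χ g‖ ^ 2) (fun g x => by rw [hχ g x])
  rw [dade_sum_subtype hD.subset] at key
  rw [finsum_mem_eq_finite_toFinset_sum _ (Set.toFinite _),
    finsum_mem_eq_finite_toFinset_sum _ (Set.toFinite _)]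
  have hG : (0 : ℝ) < Nat.card G := Nat.cast_pos.mpr Nat.card_pos
  have hL : (0 : ℝ) < Nat.card L := Nat.cast_pos.mpr Nat.card_pos
  rw [inv_mul_le_iff₀ hL, mul_left_comm, ← sub_nonneg]
  have e1 : (Set.toFinite (dadeSupp A H)).toFinset = univ.filter (· ∈ dadeSupp A H) := by
    ext g; simp
  have e2 : (Set.toFinite {a : L | (a : G) ∈ A}).toFinset =
      univ.filter (fun a : L => (a : G) ∈ A) := by ext g; simp
  rw [e1, e2, key, ← mul_assoc, inv_mul_cancel₀ hG.ne', one_mul, sub_nonneg]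
  refine Finset.sum_le_sum fun a ha => ?_
  have hn : (0 : ℝ) < Nat.card (H (a : G)) := Nat.cast_pos.mpr Nat.card_pos
  have hcard : ((univ.filter (· ∈ H (a : G))).card : ℝ) = Nat.card (H (a : G)) := by
    rw [Nat.card_eq_fintype_card, Fintype.card_subtype]
  rw [hψ a (mem_filter.mp ha).2, finsum_mem_eq_finite_toFinset_sum _ (Set.toFinite _)]
  have e3 : (Set.toFinite (H (a : G) : Set G)).toFinset = univ.filter (· ∈ H (a : G)) := by
    ext g; simp
  rw [e3, norm_mul, norm_inv, Complex.norm_natCast, mul_pow]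
  have h1 : ‖∑ u ∈ univ.filter (· ∈ H (a : G)), χ ((a : G) * u)‖ ^ 2 ≤
      (Nat.card (H (a : G)) : ℝ) * ∑ u ∈ univ.filter (· ∈ H (a : G)), ‖χ ((a : G) * u)‖ ^ 2 := by
    refine le_trans (pow_le_pow_left₀ (norm_nonneg _) (norm_sum_le _ _) 2) ?_
    rw [← hcard]
    exact sq_sum_le_card_mul_sum_sq
  refine le_trans (mul_le_mul_of_nonneg_left h1 (by positivity)) (le_of_eq ?_)
  field_simp

end CfsgLib.OddChar
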