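import Cfsg.Agent.Lib.OddChar.DadeInner
import Cfsg.Agent.Lib.Characters.Generalized
import Cfsg.Agent.Lib.Characters.Clifford

set_option autoImplicit false
set_option linter.style.haveILetI false

/-! The Dade map sends generalized characters to generalized characters: the inner product with a
character is an alternating sum over the nonempty subsets of `A`, grouped in `L`-orbits. -/

namespace CfsgLib.OddChar

open scoped Classical ComplexConjugate
open Finset CfsgLib.Characters

variable {G : Type*} [Group G] [Fintype G]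

/-- average of `F` over the coset `K * x` -/
noncomputable def cosetAvg (K : Subgroup G) (F : G → ℂ) (x : G) : ℂ :=
  (Nat.card K : ℂ)⁻¹ * ∑ k ∈ univ.filter (· ∈ K), F (k * x)

theorem sum_filter_mem_eq (K : Subgroup G) (F : G → ℂ) :
    ∑ k ∈ univ.filter (· ∈ K), F k = ∑ k : K, F (k : G) :=
  Finset.sum_subtype (univ.filter (· ∈ K)) (p := (· ∈ K)) (fun x => by simp) F

theorem cosetAvg_reduce (K : Subgroup G) {x : G} (hnorm : ∀ k ∈ K, x * k * x⁻¹ ∈ K)
    (hx : Nat.Coprime (orderOf x) (Nat.card K)) {F : G → ℂ} (hF : Cfsg.IsClassFunction G F) :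
    cosetAvg K F x = cosetAvg (K ⊓ Subgroup.centralizer ({x} : Set G)) F x := by
  let C : Subgroup K := (Subgroup.centralizer ({x} : Set G)).subgroupOf K
  haveI : Fintype C := Fintype.ofFinite _
  haveI : Fintype (K ⧸ C) := Fintype.ofFinite _
  have hmem : ∀ c : C, Commute ((c : K) : G) x := fun c =>
    Subgroup.mem_centralizer_singleton_iff.mp (Subgroup.mem_subgroupOf.mp c.2)
  have hcop : ∀ c : K, Nat.Coprime (orderOf x) (orderOf (c : G)) := fun c =>
    hx.coprime_dvd_right (Subgroup.orderOf_dvd_natCard _ c.2)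
  let f : (K ⧸ C) × C → K := fun p =>
    ⟨(p.1.out : G) * (p.2 : G) * (x * ((p.1.out : G))⁻¹ * x⁻¹),
      K.mul_mem (K.mul_mem p.1.out.2 (p.2 : K).2) (hnorm _ (K.inv_mem p.1.out.2))⟩
  have hf : Function.Injective f := by
    rintro ⟨q, c⟩ ⟨r, d⟩ e
    have e' : (q.out : G) * (c : G) * (x * (q.out : G)⁻¹ * x⁻¹) =
        (r.out : G) * (d : G) * (x * (r.out : G)⁻¹ * x⁻¹) := congrArg Subtype.val e
    set a : K := r.out⁻¹ * q.out with ha
    have e1 : (a : G) * ((c : G) * x) * (a : G)⁻¹ = (d : G) * x := by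
      simp only [ha, Subgroup.coe_mul, Subgroup.coe_inv]
      calc _ = (r.out : G)⁻¹ * ((q.out : G) * (c : G) * (x * (q.out : G)⁻¹ * x⁻¹)) * x *
            (r.out : G) := by group
        _ = _ := by rw [e']; group
    obtain ⟨n, h1, h2⟩ := Nat.chineseRemainder
      (Nat.Coprime.mul_right (hcop (c : K)) (hcop (d : K))) 1 0
    have hp : ∀ {c : G}, Commute c x → n ≡ 0 [MOD orderOf c] → (c * x) ^ n = x := fun hcx h0 => by
      rw [hcx.mul_pow, pow_eq_pow_iff_modEq.mpr h0, pow_zero, one_mul,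
        pow_eq_pow_iff_modEq.mpr h1, pow_one]
    have hax : (a : G) * x * (a : G)⁻¹ = x := by
      conv_rhs => rw [← hp (hmem d) (h2.of_dvd (dvd_mul_left _ _)), ← e1, conj_pow,
        hp (hmem c) (h2.of_dvd (dvd_mul_right _ _))]
    have haC : a ∈ C := Subgroup.mem_subgroupOf.mpr
      (Subgroup.mem_centralizer_singleton_iff.mpr (mul_inv_eq_iff_eq_mul.mp hax))
    have hqr : q = r := by
      rw [← q.out_eq', ← r.out_eq', eq_comm, QuotientGroup.eq]
      exact haC
    subst hqr
    exact Prod.ext rfl (Subtype.ext (Subtype.ext (mul_left_cancel (mul_right_cancel e'))))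
  have hbij : Function.Bijective f := (Nat.bijective_iff_injective_and_card f).mpr
    ⟨hf, by rw [Nat.card_prod, ← Subgroup.card_eq_card_quotient_mul_card_subgroup]⟩
  let e : C ≃ ↥(K ⊓ Subgroup.centralizer ({x} : Set G)) :=
    { toFun := fun c => ⟨(c : G), (c : K).2, Subgroup.mem_subgroupOf.mp c.2⟩
      invFun := fun d => ⟨⟨d.1, d.2.1⟩, Subgroup.mem_subgroupOf.mpr d.2.2⟩
      left_inv := fun _ => rfl
      right_inv := fun _ => rfl }
  have hterm : ∀ p : (K ⧸ C) × C, F ((f p : G) * x) = F ((p.2 : G) * x) := by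
    intro p
    have : (f p : G) * x = (p.1.out : G) * ((p.2 : G) * x) * (p.1.out : G)⁻¹ := by
      show (p.1.out : G) * (p.2 : G) * (x * ((p.1.out : G))⁻¹ * x⁻¹) * x = _
      group
    rw [this, hF _ (p.1.out : G)]
  have hcard : Nat.card K = Nat.card (K ⧸ C) * Nat.card C :=
    Subgroup.card_eq_card_quotient_mul_card_subgroup _
  rw [cosetAvg, cosetAvg, sum_filter_mem_eq K (fun k => F (k * x)),
    sum_filter_mem_eq _ (fun k => F (k * x)), ← (Equiv.ofBijective f hbij).sum_comp,
    ← e.sum_comp, ← Nat.card_congr e]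
  simp only [Equiv.ofBijective_apply]
  rw [Finset.sum_congr rfl (fun p _ => hterm p), Fintype.sum_prod_type]
  dsimp only
  refine Eq.trans (congrArg _ (Finset.sum_const (M := ℂ) _)) ?_
  rw [Finset.card_univ, nsmul_eq_mul, ← mul_assoc, hcard, Nat.cast_mul, ← Nat.card_eq_fintype_card]
  congr 1
  have h1 : (Nat.card (K ⧸ C) : ℂ) ≠ 0 := Nat.cast_ne_zero.mpr Nat.card_pos.ne'
  have h2 : (Nat.card C : ℂ) ≠ 0 := Nat.cast_ne_zero.mpr Nat.card_pos.ne'
  field_simp

variable {A : Set G} {L : Subgroup G} {H : G → Subgroup G}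

/-- the intersection of the supporting subgroups along `B` -/
def hInter (H : G → Subgroup G) (B : Finset G) : Subgroup G := ⨅ b ∈ B, H b

theorem mem_hInter {B : Finset G} {u : G} : u ∈ hInter H B ↔ ∀ b ∈ B, u ∈ H b := by
  simp [hInter, Subgroup.mem_iInf]

theorem hInter_singleton (l : G) : hInter H {l} = H l := by
  ext u; simp [mem_hInter]

theorem dade_mem_H_of_pow {a u : G} (hD : Cfsg.DadeHypothesis A L H) (ha : a ∈ A)
    (hu : u ∈ Subgroup.centralizer ({a} : Set G))
    (hcop : Nat.Coprime (orderOf u) (Nat.card ↥(L ⊓ Subgroup.centralizer ({a} : Set G)))) :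
    u ∈ H a := by
  obtain ⟨v, hv, k, hk, he⟩ := dade_decomp hD ha hu
  have hpow : ∀ n : ℕ, ∃ w ∈ H a, (v * k) ^ n = w * k ^ n := by
    intro n
    induction n with
    | zero => exact ⟨1, one_mem _, by simp⟩
    | succ n ih =>
      obtain ⟨w, hw, e⟩ := ih
      refine ⟨w * (k ^ n * v * (k ^ n)⁻¹),
        mul_mem hw (hD.conj_mem_H a ha (k ^ n) (pow_mem hk.2 n) v hv), ?_⟩
      rw [pow_succ, e, pow_succ]; group
  obtain ⟨w, hw, hwe⟩ := hpow (orderOf u)
  rw [← he, pow_orderOf_eq_one] at hwe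
  have hkm : k ^ orderOf u ∈ H a ⊓ (L ⊓ Subgroup.centralizer ({a} : Set G)) := by
    refine ⟨?_, pow_mem hk _⟩
    have : k ^ orderOf u = w⁻¹ := eq_inv_of_mul_eq_one_right hwe.symm
    rw [this]; exact (H a).inv_mem hw
  rw [hD.inf_eq_bot a ha, Subgroup.mem_bot, ← orderOf_dvd_iff_pow_eq_one] at hkm
  have hk1 : k = 1 := by
    rw [← orderOf_eq_one_iff, ← Nat.dvd_one, ← hcop.gcd_eq_one]
    exact Nat.dvd_gcd hkm (Subgroup.orderOf_dvd_natCard _ hk)
  rw [he, hk1, mul_one]
  exact hv

theorem hInter_inf_centralizer (hD : Cfsg.DadeHypothesis A L H) {B : Finset G}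
    (hB : ∀ b ∈ B, b ∈ A) (hne : B.Nonempty) {l : G} (hl : l ∈ A) :
    hInter H B ⊓ Subgroup.centralizer ({l} : Set G) = hInter H (insert l B) := by
  ext u
  rw [Subgroup.mem_inf, mem_hInter, mem_hInter]
  constructor
  · rintro ⟨h, hc⟩ b hb
    rcases Finset.mem_insert.mp hb with rfl | hb
    · obtain ⟨b₀, hb₀⟩ := hne
      refine dade_mem_H_of_pow hD hl hc ?_
      exact (hD.coprime b₀ (hB b₀ hb₀) b hl).coprime_dvd_left
        ((H b₀).orderOf_dvd_natCard (h b₀ hb₀))
    · exact h b hb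
  · intro h
    exact ⟨fun b hb => h b (Finset.mem_insert_of_mem hb),
      hD.le_centralizer l hl (h l (Finset.mem_insert_self l B))⟩

/-- stabiliser in `L` of the finite set `B` -/
def setStab (L : Subgroup G) (B : Finset G) : Subgroup G :=
  L ⊓ Subgroup.normalizer (B : Set G)

theorem setStab_conj_mem {B : Finset G} {l : G} (hl : l ∈ setStab L B) {b : G} (hb : b ∈ B) :
    l * b * l⁻¹ ∈ B := (Subgroup.mem_set_normalizer_iff.mp hl.2 b).mp hb

theorem setStab_le_normalizer (hD : Cfsg.DadeHypothesis A L H) {B : Finset G}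
    (hB : ∀ b ∈ B, b ∈ A) : setStab L B ≤ Subgroup.normalizer (hInter H B : Set G) := by
  have key : ∀ l ∈ setStab L B, ∀ u ∈ hInter H B, l * u * l⁻¹ ∈ hInter H B := by
    intro l hl u hu
    rw [mem_hInter] at hu ⊢
    intro b hb
    have hb' : l⁻¹ * b * (l⁻¹)⁻¹ ∈ B := setStab_conj_mem ((setStab L B).inv_mem hl) hb
    exact dade_conj_mem_H hD (hB _ hb') (hB b hb) (x := l) (by group) (hu _ hb')
  intro l hl
  rw [Subgroup.mem_set_normalizer_iff]
  intro u
  refine ⟨key l hl u, fun hu => ?_⟩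
  have := key l⁻¹ ((setStab L B).inv_mem hl) _ hu
  simpa [mul_assoc] using this

/-- the term of `B` -/
noncomputable def dadeTerm (L : Subgroup G) (H : G → Subgroup G) (α : G → ℂ) (χ : G → ℂ)
    (B : Finset G) : ℂ :=
  (-1 : ℂ) ^ (B.card + 1) * ((Nat.card (setStab L B) : ℂ)⁻¹ *
    ∑ l ∈ univ.filter (· ∈ setStab L B), α l * cosetAvg (hInter H B) (fun g => conj (χ g)) l)

theorem dadeTerm_int (hD : Cfsg.DadeHypothesis A L H) {B : Finset G} (hB : ∀ b ∈ B, b ∈ A)
    {α : L → ℂ} (hα : Cfsg.IsGeneralizedCharacter L α) {χ : G → ℂ} (hχ : Cfsg.IsCharacter G χ) :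
    ∃ z : ℤ, dadeTerm L H (Cfsg.extendByZero L α) χ B = z := by
  set K := hInter H B
  set N := setStab L B
  have hle := setStab_le_normalizer hD hB
  let M := K ⋊[(K.normalizerMonoidHom).comp (Subgroup.inclusion hle)] N
  let μ : M →* G := SemidirectProduct.monoidHomSubgroup hle
  let π : M →* L := (Subgroup.inclusion (inf_le_left : N ≤ L)).comp SemidirectProduct.rightHom
  let _ : Fintype M := Fintype.ofEquiv (K × N) SemidirectProduct.equivProd.symm
  have h1 : Cfsg.IsGeneralizedCharacter M (fun m => α (π m)) := by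
    obtain ⟨p, q, hp, hq, rfl⟩ := hα
    exact ⟨fun m => p (π m), fun m => q (π m), CfsgLib.Clifford.isCharacter_pullback hp π,
      CfsgLib.Clifford.isCharacter_pullback hq π, rfl⟩
  have h2 : Cfsg.IsGeneralizedCharacter M (fun m => χ (μ m)) :=
    isGeneralizedCharacter_of_isCharacter (CfsgLib.Clifford.isCharacter_pullback hχ μ)
  obtain ⟨z, hz⟩ := classInner_generalized_int h1 h2
  refine ⟨(-1) ^ (B.card + 1) * z, ?_⟩
  rw [Int.cast_mul, Int.cast_pow, Int.cast_neg, Int.cast_one, dadeTerm, ← hz, Cfsg.classInner]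
  congr 1
  rw [← SemidirectProduct.equivProd.symm.sum_comp, Fintype.sum_prod_type, Finset.sum_comm,
    SemidirectProduct.card, Nat.cast_mul, mul_inv, mul_comm (Nat.card K : ℂ)⁻¹, mul_assoc,
    sum_filter_mem_eq, Finset.mul_sum univ _ (Nat.card K : ℂ)⁻¹]
  congr 1
  refine Finset.sum_congr rfl fun l _ => ?_
  rw [Finset.mul_sum, cosetAvg, sum_filter_mem_eq, Finset.mul_sum, Finset.mul_sum]
  refine Finset.sum_congr rfl fun k _ => ?_
  have e1 : Cfsg.extendByZero L α (l : G) = α (π (SemidirectProduct.equivProd.symm (k, l))) :=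
    CfsgLib.Induction.extendByZero_mem L α l.2.1
  have e2 : μ (SemidirectProduct.equivProd.symm (k, l)) = (k : G) * (l : G) := rfl
  rw [e1, e2]
  ring

theorem dade_cancel (hD : Cfsg.DadeHypothesis A L H) {l : G} (hl : l ∈ A) {F : G → ℂ}
    (hF : Cfsg.IsClassFunction G F) :
    ∑ B ∈ (Set.toFinite A).toFinset.powerset,
      (if B.Nonempty ∧ l ∈ setStab L B then
        (-1 : ℂ) ^ (B.card + 1) * cosetAvg (hInter H B) F l else 0) =
      cosetAvg (H l) F l := by
  have hlA : l ∈ (Set.toFinite A).toFinset := by simpa using hl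
  rw [← Finset.insert_erase hlA, Finset.sum_powerset_insert (Finset.notMem_erase l _),
    ← Finset.sum_add_distrib, Finset.sum_eq_single (∅ : Finset G)]
  · have hmem : l ∈ setStab L ({l} : Finset G) := by
      refine ⟨hD.subset hl, Subgroup.mem_set_normalizer_iff.mpr fun z => ?_⟩
      rw [Finset.coe_singleton, Set.mem_singleton_iff, Set.mem_singleton_iff]
      constructor
      · rintro rfl; simp
      · intro h
        calc z = l⁻¹ * (l * z * l⁻¹) * l := by group
          _ = l := by rw [h]; group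
    rw [if_neg (by simp), zero_add, insert_empty_eq, if_pos ⟨Finset.singleton_nonempty l, hmem⟩,
      Finset.card_singleton, hInter_singleton]
    norm_num
  · intro B hB hne
    have hlB : l ∉ B := fun h => Finset.notMem_erase l _ (Finset.mem_powerset.mp hB h)
    have hBA : ∀ b ∈ B, b ∈ A := fun b hb => by
      have := Finset.mem_of_mem_erase (Finset.mem_powerset.mp hB hb)
      simpa using this
    have hBne : B.Nonempty := Finset.nonempty_iff_ne_empty.mpr hne
    have hins : ∀ b ∈ insert l B, b ∈ A := fun b hb => by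
      rcases Finset.mem_insert.mp hb with rfl | hb
      · exact hl
      · exact hBA b hb
    have hiff : l ∈ setStab L (insert l B) ↔ l ∈ setStab L B := by
      simp only [setStab, Subgroup.mem_inf, Subgroup.mem_set_normalizer_iff, Finset.coe_insert,
        Set.mem_insert_iff, Finset.mem_coe]
      refine and_congr_right fun _ => forall_congr' fun z => ?_
      by_cases hz : z = l
      · subst hz
        have : z * z * z⁻¹ = z := by group
        simp [this, hlB]
      · have hz' : l * z * l⁻¹ ≠ l := fun h => hz (by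
          calc z = l⁻¹ * (l * z * l⁻¹) * l := by group
            _ = l := by rw [h]; group)
        simp [hz, hz']
    by_cases hst : l ∈ setStab L B
    · rw [if_pos ⟨hBne, hst⟩, if_pos ⟨Finset.insert_nonempty l B, hiff.mpr hst⟩,
        Finset.card_insert_of_notMem hlB]
      have hcop : ∀ B' : Finset G, B'.Nonempty → (∀ b ∈ B', b ∈ A) →
          Nat.Coprime (orderOf l) (Nat.card (hInter H B')) := by
        intro B' ⟨b, hb⟩ hB'
        refine Nat.Coprime.coprime_dvd_right (Subgroup.card_dvd_of_le (K := H b)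
          (fun u hu => mem_hInter.mp hu b hb)) ?_
        exact ((hD.coprime b (hB' b hb) l hl).symm).coprime_dvd_left (dade_orderOf_dvd hD hl)
      have hnorm : ∀ k ∈ hInter H B, l * k * l⁻¹ ∈ hInter H B := fun k hk =>
        (Subgroup.mem_set_normalizer_iff.mp (setStab_le_normalizer hD hBA hst) k).mp hk
      rw [cosetAvg_reduce (hInter H B) hnorm (hcop B hBne hBA) hF,
        hInter_inf_centralizer hD hBA hBne hl]
      ring
    · rw [if_neg (fun h => hst h.2), if_neg (fun h => hst (hiff.mp h.2)), add_zero]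
  · intro h; exact absurd (Finset.empty_mem_powerset _) h

/-- conjugation of a finite set -/
noncomputable def conjFinset (k : G) (B : Finset G) : Finset G := B.image fun b => k * b * k⁻¹

theorem mem_conjFinset {k : G} {B : Finset G} {z : G} :
    z ∈ conjFinset k B ↔ k⁻¹ * z * k ∈ B := by
  simp only [conjFinset, Finset.mem_image]
  constructor
  · rintro ⟨b, hb, rfl⟩
    simpa [mul_assoc] using hb
  · intro h
    exact ⟨_, h, by group⟩

theorem mem_setStab_conj {k : G} (hk : k ∈ L) {B : Finset G} {l : G} :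
    k * l * k⁻¹ ∈ setStab L (conjFinset k B) ↔ l ∈ setStab L B := by
  simp only [setStab, Subgroup.mem_inf, Subgroup.mem_set_normalizer_iff, Finset.mem_coe,
    mem_conjFinset]
  refine and_congr ⟨fun h => ?_, fun h => L.mul_mem (L.mul_mem hk h) (L.inv_mem hk)⟩
    ⟨fun h z => ?_, fun h z => ?_⟩
  · simpa [mul_assoc] using L.mul_mem (L.mul_mem (L.inv_mem hk) h) hk
  · simpa [mul_assoc] using h (k * z * k⁻¹)
  · simpa [mul_assoc] using h (k⁻¹ * z * k)

theorem mem_hInter_conj (hD : Cfsg.DadeHypothesis A L H) {k : G} (hk : k ∈ L) {B : Finset G}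
    (hB : ∀ b ∈ B, b ∈ A) {u : G} :
    k * u * k⁻¹ ∈ hInter H (conjFinset k B) ↔ u ∈ hInter H B := by
  simp only [mem_hInter, conjFinset, Finset.forall_mem_image]
  refine forall₂_congr fun b hb => ⟨fun h => ?_, fun h => ?_⟩
  · have := dade_conj_mem_H hD (hD.conj_mem k hk b (hB b hb)) (hB b hb) (x := k⁻¹) (by group) h
    simpa [mul_assoc] using this
  · exact dade_conj_mem_H hD (hB b hb) (hD.conj_mem k hk b (hB b hb)) (x := k) rfl h

theorem sum_filter_conj (k : G) {p q : G → Prop} (h : ∀ x, q (k * x * k⁻¹) ↔ p x) (F : G → ℂ) :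
    ∑ y ∈ univ.filter q, F y = ∑ x ∈ univ.filter p, F (k * x * k⁻¹) := by
  rw [Finset.sum_filter, Finset.sum_filter, ← Equiv.sum_comp (MulAut.conj k).toEquiv]
  refine Finset.sum_congr rfl fun x _ => ?_
  show (if q (k * x * k⁻¹) then F (k * x * k⁻¹) else 0) = _
  by_cases hp : p x
  · rw [if_pos hp, if_pos ((h x).mpr hp)]
  · rw [if_neg hp, if_neg (mt (h x).mp hp)]

theorem card_congr_conj (k : G) {P Q : Subgroup G} (h : ∀ x, k * x * k⁻¹ ∈ Q ↔ x ∈ P) :
    Nat.card P = Nat.card Q :=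
  Nat.card_congr ((MulAut.conj k).toEquiv.subtypeEquiv fun x => (h x).symm)

theorem dadeTerm_conj (hD : Cfsg.DadeHypothesis A L H) {k : G} (hk : k ∈ L) {B : Finset G}
    (hB : ∀ b ∈ B, b ∈ A) {α : L → ℂ} (hα : Cfsg.IsClassFunction L α) {χ : G → ℂ}
    (hχ : Cfsg.IsClassFunction G χ) :
    dadeTerm L H (Cfsg.extendByZero L α) χ (conjFinset k B) =
      dadeTerm L H (Cfsg.extendByZero L α) χ B := by
  have hc : (conjFinset k B).card = B.card :=
    Finset.card_image_of_injective _ fun a b e => mul_left_cancel (mul_right_cancel e)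
  have hs : ∀ x, k * x * k⁻¹ ∈ setStab L (conjFinset k B) ↔ x ∈ setStab L B :=
    fun _ => mem_setStab_conj hk
  have hh : ∀ x, k * x * k⁻¹ ∈ hInter H (conjFinset k B) ↔ x ∈ hInter H B :=
    fun _ => mem_hInter_conj hD hk hB
  rw [dadeTerm, dadeTerm, hc, ← card_congr_conj k hs, sum_filter_conj k hs]
  refine congrArg _ (congrArg _ (Finset.sum_congr rfl fun l hl => ?_))
  rw [cosetAvg, cosetAvg, ← card_congr_conj k hh, sum_filter_conj k hh,
    CfsgLib.Induction.extendByZero_conj L hα ⟨k, hk⟩ l]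
  refine congrArg _ (congrArg _ (Finset.sum_congr rfl fun u _ => ?_))
  have : k * u * k⁻¹ * (k * l * k⁻¹) = k * (u * l) * k⁻¹ := by group
  rw [this, hχ]

theorem setStab_fibre (L : Subgroup G) (B₀ B : Finset G) {k₀ : G} (hk₀ : k₀ ∈ L)
    (hB : conjFinset k₀ B₀ = B) :
    (univ.filter (fun k => k ∈ L ∧ conjFinset k B₀ = B)).card = Nat.card (setStab L B) := by
  rw [Nat.card_eq_fintype_card, Fintype.card_subtype]
  have hcomp : ∀ s t : G, conjFinset s (conjFinset t B₀) = conjFinset (s * t) B₀ := by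
    intro s t
    ext z
    simp [mem_conjFinset, mul_assoc]
  refine Finset.card_bij' (fun k _ => k * k₀⁻¹) (fun s _ => s * k₀) ?_ ?_ ?_ ?_
  · intro k hk
    simp only [mem_filter, mem_univ, true_and] at hk ⊢
    refine ⟨L.mul_mem hk.1 (L.inv_mem hk₀), Subgroup.mem_set_normalizer_iff.mpr fun z => ?_⟩
    rw [Finset.mem_coe, Finset.mem_coe]
    conv_lhs => rw [← hB, mem_conjFinset]
    conv_rhs => rw [← hk.2, mem_conjFinset]
    simp [mul_assoc]
  · intro s hs
    simp only [mem_filter, mem_univ, true_and] at hs ⊢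
    refine ⟨L.mul_mem hs.1 hk₀, ?_⟩
    rw [← hcomp, hB]
    ext z
    rw [mem_conjFinset]
    have := Subgroup.mem_set_normalizer_iff''.mp hs.2 z
    simpa using this.symm
  · intro k _; simp
  · intro s _; simp

theorem orbit_sum_int (L : Subgroup G) (c : Finset G → ℂ) (P : Finset (Finset G))
    (hP : ∀ k ∈ L, ∀ B ∈ P, conjFinset k B ∈ P)
    (hc : ∀ k ∈ L, ∀ B ∈ P, c (conjFinset k B) = c B) (hint : ∀ B ∈ P, ∃ z : ℤ, c B = z) :
    ∃ z : ℤ, ∑ B ∈ P, (Nat.card (setStab L B) : ℂ) * c B = (Nat.card L : ℂ) * z := by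
  induction P using Finset.strongInduction with
  | _ P ih =>
    rcases P.eq_empty_or_nonempty with rfl | ⟨B₀, hB₀⟩
    · exact ⟨0, by simp⟩
    set O := (univ.filter (· ∈ L)).image (fun k => conjFinset k B₀) with hO
    have hOP : O ⊆ P := by
      intro B hB
      obtain ⟨k, hk, rfl⟩ := Finset.mem_image.mp hB
      exact hP k (mem_filter.mp hk).2 B₀ hB₀
    have h1 : conjFinset 1 B₀ = B₀ := by ext z; simp [mem_conjFinset]
    have hOne : O.Nonempty :=
      ⟨B₀, Finset.mem_image.mpr ⟨1, mem_filter.mpr ⟨mem_univ _, L.one_mem⟩, h1⟩⟩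
    obtain ⟨z₀, hz₀⟩ := hint B₀ hB₀
    have hcomp : ∀ s t : G, conjFinset s (conjFinset t B₀) = conjFinset (s * t) B₀ := by
      intro s t
      ext z
      simp [mem_conjFinset, mul_assoc]
    have hstab : ∀ k ∈ L, ∀ B ∈ P \ O, conjFinset k B ∈ P \ O := by
      intro k hk B hB
      rw [Finset.mem_sdiff] at hB ⊢
      refine ⟨hP k hk B hB.1, fun h => hB.2 ?_⟩
      obtain ⟨m, hm, e⟩ := Finset.mem_image.mp h
      refine Finset.mem_image.mpr ⟨k⁻¹ * m,
        mem_filter.mpr ⟨mem_univ _, L.mul_mem (L.inv_mem hk) (mem_filter.mp hm).2⟩, ?_⟩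
      rw [← hcomp, e]
      ext z
      simp [mem_conjFinset, mul_assoc]
    obtain ⟨z, hz⟩ := ih (P \ O) (Finset.sdiff_ssubset hOP hOne) hstab
      (fun k hk B hB => hc k hk B (Finset.mem_sdiff.mp hB).1)
      (fun B hB => hint B (Finset.mem_sdiff.mp hB).1)
    refine ⟨z + z₀, ?_⟩
    rw [← Finset.sum_sdiff hOP, hz, Int.cast_add, mul_add, ← hz₀]
    congr 1
    have e : ∀ B ∈ O, (Nat.card (setStab L B) : ℂ) * c B =
        ∑ k ∈ univ.filter (fun k => k ∈ L ∧ conjFinset k B₀ = B), c B₀ := by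
      intro B hB
      obtain ⟨k, hk, rfl⟩ := Finset.mem_image.mp hB
      rw [Finset.sum_const, nsmul_eq_mul, setStab_fibre L B₀ _ (mem_filter.mp hk).2 rfl,
        hc k (mem_filter.mp hk).2 B₀ hB₀]
    rw [Finset.sum_congr rfl e]
    have e2 : ∑ B ∈ O, ∑ k ∈ univ.filter (fun k => k ∈ L ∧ conjFinset k B₀ = B), c B₀ =
        ∑ k ∈ univ.filter (· ∈ L), c B₀ := by
      rw [← Finset.sum_fiberwise_of_maps_to (t := O) (g := fun k => conjFinset k B₀)
        (fun k hk => Finset.mem_image_of_mem (fun k => conjFinset k B₀) hk)]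
      refine Finset.sum_congr rfl fun B _ => ?_
      rw [Finset.filter_filter]
    rw [e2, Finset.sum_const, nsmul_eq_mul, Nat.card_eq_fintype_card, Fintype.card_subtype]

theorem dade_virtual [Fintype L] (hD : Cfsg.DadeHypothesis A L H) {α : L → ℂ}
    (hα : Cfsg.IsGeneralizedCharacter L α) (hαA : ∀ x : L, (x : G) ∉ A → α x = 0) :
    Cfsg.IsGeneralizedCharacter G (Cfsg.dadeIsometry A L H α) := by
  have hαc := isClassFunction_of_isGeneralizedCharacter hα
  refine isGeneralizedCharacter_iff.mpr ⟨dadeIsometry_isClassFunction hD hαc, fun χ => ?_⟩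
  have hχc := irr_isClassFunction χ
  have hcc : Cfsg.IsClassFunction G (fun g => conj ((χ : G → ℂ) g)) := isClassFunction_conj hχc
  set P := (Set.toFinite A).toFinset.powerset.filter Finset.Nonempty with hPdef
  have hPA : ∀ B ∈ P, ∀ b ∈ B, b ∈ A := fun B hB b hb => by
    have := Finset.mem_powerset.mp (mem_filter.mp hB).1 hb
    simpa using this
  have hPconj : ∀ k ∈ L, ∀ B ∈ P, conjFinset k B ∈ P := by
    intro k hk B hB
    refine mem_filter.mpr ⟨Finset.mem_powerset.mpr fun z hz => ?_, (mem_filter.mp hB).2.image _⟩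
    obtain ⟨b, hb, rfl⟩ := Finset.mem_image.mp hz
    simpa using hD.conj_mem k hk b (hPA B hB b hb)
  obtain ⟨z, hz⟩ := orbit_sum_int L (dadeTerm L H (Cfsg.extendByZero L α) (χ : G → ℂ)) P hPconj
    (fun k hk B hB => dadeTerm_conj hD hk (hPA B hB) hαc hχc)
    (fun B hB => dadeTerm_int hD (hPA B hB) hα (irr_isCharacter χ))
  refine ⟨z, ?_⟩
  have hne : (Nat.card L : ℂ) ≠ 0 := Nat.cast_ne_zero.mpr Nat.card_pos.ne'
  rw [dade_adjoint hD hαc hαA hχc
    (ψ := fun a => (Nat.card (H (a : G)) : ℂ)⁻¹ *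
      ∑ᶠ u ∈ (H (a : G) : Set G), (χ : G → ℂ) ((a : G) * u)) (fun a _ => rfl)]
  refine mul_left_cancel₀ hne ?_
  rw [← hz, Cfsg.classInner, mul_inv_cancel_left₀ hne]
  have hterm : ∀ B ∈ P, (Nat.card (setStab L B) : ℂ) *
      dadeTerm L H (Cfsg.extendByZero L α) (χ : G → ℂ) B =
      ∑ l ∈ univ.filter (· ∈ A), Cfsg.extendByZero L α l * (if B.Nonempty ∧ l ∈ setStab L B then
        (-1 : ℂ) ^ (B.card + 1) * cosetAvg (hInter H B) (fun g => conj ((χ : G → ℂ) g)) l
        else 0) := by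
    intro B hB
    rw [dadeTerm, mul_left_comm, mul_inv_cancel_left₀ (Nat.cast_ne_zero.mpr Nat.card_pos.ne'),
      Finset.sum_filter, Finset.sum_filter, Finset.mul_sum]
    refine Finset.sum_congr rfl fun l _ => ?_
    by_cases hlA : l ∈ A
    · rw [if_pos hlA]
      by_cases hs : l ∈ setStab L B
      · rw [if_pos hs, if_pos ⟨(mem_filter.mp hB).2, hs⟩]; ring
      · rw [if_neg hs, if_neg (fun h => hs h.2)]; ring
    · rw [if_neg hlA]
      by_cases hs : l ∈ setStab L B
      · rw [if_pos hs, CfsgLib.Induction.extendByZero_mem L α hs.1, hαA _ hlA]; ring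
      · rw [if_neg hs]; ring
  rw [Finset.sum_congr rfl hterm, Finset.sum_comm]
  have hl : ∀ l ∈ univ.filter (· ∈ A), ∑ B ∈ P, Cfsg.extendByZero L α l *
      (if B.Nonempty ∧ l ∈ setStab L B then
        (-1 : ℂ) ^ (B.card + 1) * cosetAvg (hInter H B) (fun g => conj ((χ : G → ℂ) g)) l
        else 0) =
      Cfsg.extendByZero L α l * cosetAvg (H l) (fun g => conj ((χ : G → ℂ) g)) l := by
    intro l hl
    rw [← Finset.mul_sum, ← dade_cancel hD (mem_filter.mp hl).2 hcc, hPdef]
    congr 1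
    refine Finset.sum_subset (Finset.filter_subset _ _) fun B hB hB' => ?_
    rw [if_neg]
    exact fun h => hB' (mem_filter.mpr ⟨hB, h.1⟩)
  rw [Finset.sum_congr rfl hl, dade_sum_subtype hD.subset]
  symm
  refine (Finset.sum_congr rfl fun a ha => ?_).trans
    (Finset.sum_subset (Finset.subset_univ _) fun a _ ha => ?_)
  · have haA := (mem_filter.mp ha).2
    rw [CfsgLib.Induction.extendByZero_coe, map_mul, map_inv₀, Complex.conj_natCast,
      finsum_mem_eq_finite_toFinset_sum _ (Set.toFinite _), map_sum, cosetAvg]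
    refine congrArg _ (congrArg _ (Finset.sum_congr (by ext u; simp) fun u hu => ?_))
    rw [Set.Finite.mem_toFinset, SetLike.mem_coe] at hu
    rw [(dade_commute hD haA hu).eq]
  · rw [hαA a (by simpa using ha), zero_mul]

end CfsgLib.OddChar
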