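import Cfsg.Agent.Lib.OddChar.FrobeniusKernel
import Cfsg.Agent.Lib.OddChar.CentralSet

set_option autoImplicit false
set_option linter.style.haveILetI false
set_option linter.unusedSectionVars false

/-! Feit's coherence theorem for a Frobenius group. -/

namespace CfsgLib.OddChar

open scoped Classical commutatorElement
open Finset CfsgLib.Characters CfsgLib.Clifford

variable {N : Type*} [Group N] [Fintype N] {H : Subgroup N} [hHn : H.Normal] [Fintype H]

theorem natDeg_eq_one_of_commutator {A : Subgroup N} (hA : ⁅H, H⁆ ≤ A) {θ : H → ℂ}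
    (hθ : Cfsg.IsIrrCharacter H θ) (hker : ∀ a : H, (a : N) ∈ A → θ a = θ 1) : natDeg θ = 1 := by
  have hle : natDeg θ ^ 2 ≤ (⊤ : Subgroup H).index := sq_natDeg_le hθ ⊤ fun d _ =>
    norm_eq_of_central hθ fun c => hker _ (hA (by
      simpa [commutatorElement_def] using Subgroup.commutator_mem_commutator d.2 c.2))
  rw [Subgroup.index_top] at hle
  have := natDeg_pos hθ
  nlinarith

/-- the degree bound through a subgroup central modulo `B` -/
theorem sq_natDeg_le_centre {B D : Subgroup N} (hDH : ∀ d ∈ D, ∀ h ∈ H, ⁅d, h⁆ ∈ B) {θ : H → ℂ}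
    (hθ : Cfsg.IsIrrCharacter H θ) (hker : ∀ a : H, (a : N) ∈ B → θ a = θ 1) :
    natDeg θ ^ 2 ≤ D.relIndex H :=
  sq_natDeg_le hθ (D.subgroupOf H) fun d hd => norm_eq_of_central hθ fun c => hker _ (by
    simpa [commutatorElement_def] using hDH d (Subgroup.mem_subgroupOf.mp hd) c c.2)

theorem indAbove_irr (hC : ∀ h ∈ H, h ≠ 1 → Subgroup.centralizer ({h} : Set N) ≤ H) {A : Subgroup N}
    {φ : N → ℂ} (hφ : φ ∈ indAboveFinset H A) : Cfsg.IsIrrCharacter N φ := by
  obtain ⟨θ, hθ, rfl⟩ := Finset.mem_image.mp hφ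
  exact indFun_irr_of_free hHn hC θ.2 (mem_thetaAbove.mp hθ).1

theorem indAboveFinset_mono {A B : Subgroup N} (h : B ≤ A) :
    indAboveFinset H A ⊆ indAboveFinset H B := by
  rw [← Finset.coe_subset, coe_indAboveFinset, coe_indAboveFinset]
  exact indAbove_mono H h

theorem sum_sq_indAbove (hC : ∀ h ∈ H, h ≠ 1 → Subgroup.centralizer ({h} : Set N) ≤ H)
    (A : Subgroup N) [A.Normal] :
    ∑ φ ∈ indAboveFinset H A, natDeg φ ^ 2 = H.index * (A.relIndex H - 1) := by
  have h1 : 1 ≤ A.relIndex H :=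
    Nat.one_le_iff_ne_zero.mpr (Subgroup.index_ne_zero_of_finite (H := A.subgroupOf H))
  have h := sum_indAbove hHn A
  rw [Finset.sum_congr rfl fun φ hφ => show (natDeg φ : ℝ) ^ 2 / (natNorm φ : ℝ) = ((natDeg φ ^ 2 : ℕ) : ℝ) by
    simp [natNorm, classInner_irr_self (indAbove_irr hC hφ)], ← Nat.cast_sum] at h
  have h2 : ((∑ φ ∈ indAboveFinset H A, natDeg φ ^ 2 : ℕ) : ℝ) = ((H.index * (A.relIndex H - 1) : ℕ) : ℝ) := by
    rw [h, Nat.cast_mul, Nat.cast_sub h1, Nat.cast_one]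
  exact_mod_cast h2

theorem natDeg_indAbove_linear {A : Subgroup N} (hA : ⁅H, H⁆ ≤ A) {φ : N → ℂ}
    (hφ : φ ∈ indAboveFinset H A) : natDeg φ = H.index := by
  obtain ⟨θ, hθ, rfl⟩ := Finset.mem_image.mp hφ
  rw [natDeg_indFun (irr_isCharacter θ),
    natDeg_eq_one_of_commutator hA θ.2 (mem_thetaAbove.mp hθ).2, mul_one]

theorem card_indAbove_linear (hC : ∀ h ∈ H, h ≠ 1 → Subgroup.centralizer ({h} : Set N) ≤ H)
    {A : Subgroup N} [A.Normal] (hA : ⁅H, H⁆ ≤ A) :
    (indAboveFinset H A).card * H.index = A.relIndex H - 1 := by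
  have h := sum_sq_indAbove hC A
  rw [Finset.sum_congr rfl fun φ hφ => by rw [natDeg_indAbove_linear hA hφ],
    Finset.sum_const, smul_eq_mul] at h
  refine Nat.eq_of_mul_eq_mul_left (Nat.pos_of_ne_zero (Subgroup.index_ne_zero_of_finite (H := H))) ?_
  rw [← h]; ring

theorem indAbove_bot_eq (hC : ∀ h ∈ H, h ≠ 1 → Subgroup.centralizer ({h} : Set N) ≤ H) :
    (↑(indAboveFinset H ⊥) : Set (N → ℂ)) =
      {χ | Cfsg.IsIrrCharacter N χ ∧ ∃ h ∈ H, χ h ≠ χ 1} := by
  have hirr : ∀ θ ∈ thetaOff H H, Cfsg.IsIrrCharacter N (Cfsg.indFun H (θ : H → ℂ)) := fun θ hθ =>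
    indFun_irr_of_free hHn hC θ.2 (thetaOff_ne_one hθ)
  rw [← offFinset_eq_irr hHn H le_rfl hirr, coe_offFinset hHn H, coe_indAboveFinset]
  refine (sdiff_eq_left.mpr (Set.disjoint_left.mpr ?_)).symm
  rintro φ - ⟨θ, hθ, h1, hker, -⟩
  refine h1 (funext fun a => ?_)
  obtain ⟨m, hm0, hm⟩ := irr_exists_degree hθ
  have hd : natDeg θ = 1 := natDeg_eq_one_of_commutator (Subgroup.commutator_le_right H H) hθ hker
  rw [hker a a.2, natDeg_spec (isCharacter_of_irr hθ), hd, Nat.cast_one]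

variable {G : Type*} [Group G] [Fintype G] {τ : (N → ℂ) → (G → ℂ)}

theorem coherent_linear (hC : ∀ h ∈ H, h ≠ 1 → Subgroup.centralizer ({h} : Set N) ≤ H)
    (hsys : IrrSys (↑(indAboveFinset H ⊥) : Set (N → ℂ)) τ) {A : Subgroup N} [A.Normal]
    (hA : ⁅H, H⁆ ≤ A) (hAH : A < H) (hne : A.relIndex H ≠ H.index + 1) :
    Cfsg.IsCoherent (↑(indAboveFinset H A) : Set (N → ℂ)) {1}ᶜ τ := by
  refine coherent_equal_irr hsys _ (fun x hx => indAboveFinset_mono bot_le hx) ?_ fun a ha b hb => ?_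
  · by_contra hlt
    have h := card_indAbove_linear hC hA
    have h1 : A.relIndex H ≠ 0 := Subgroup.index_ne_zero_of_finite (H := A.subgroupOf H)
    have h2 : A.relIndex H ≠ 1 := fun e => hAH.not_ge (Subgroup.relIndex_eq_one.mp e)
    rcases Nat.lt_or_ge (indAboveFinset H A).card 1 with h0 | h0
    · rw [show (indAboveFinset H A).card = 0 by omega, zero_mul] at h; omega
    · rw [show (indAboveFinset H A).card = 1 by omega, one_mul] at h; omega
  · rw [natDeg_spec (isCharacter_of_irr (indAbove_irr hC ha)),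
      natDeg_spec (isCharacter_of_irr (indAbove_irr hC hb)), natDeg_indAbove_linear hA ha,
      natDeg_indAbove_linear hA hb]

theorem coherent_step_irr (hC : ∀ h ∈ H, h ≠ 1 → Subgroup.centralizer ({h} : Set N) ≤ H)
    (hsolv : Group.IsSolvable H) (hsys : IrrSys (↑(indAboveFinset H ⊥) : Set (N → ℂ)) τ)
    (A B : Subgroup N) [A.Normal] [B.Normal] (hAH : A < H) (hBA : B ≤ A)
    (hA : Cfsg.IsCoherent (↑(indAboveFinset H A) : Set (N → ℂ)) {1}ᶜ τ)
    (hdeg : ∀ θ : H → ℂ, Cfsg.IsIrrCharacter H θ → (∀ a : H, (a : N) ∈ B → θ a = θ 1) →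
      2 * H.index * natDeg θ < A.relIndex H - 1) :
    Cfsg.IsCoherent (↑(indAboveFinset H B) : Set (N → ℂ)) {1}ᶜ τ := by
  obtain ⟨ψ, hψ, hψd⟩ := exists_linear_above H hsolv A hAH
  rw [← coe_indAboveFinset, Finset.mem_coe] at hψ
  have := coherent_add_irr_all hsys ψ (indAboveFinset H B) (indAboveFinset H A)
    (fun x hx => indAboveFinset_mono bot_le hx) hA hψ (fun x hx => indAboveFinset_mono bot_le hx)
    fun χ hχ => ?_
  · rwa [Finset.union_eq_right.mpr (indAboveFinset_mono hBA)] at this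
  · obtain ⟨θ, hθ, rfl⟩ := Finset.mem_image.mp hχ
    rw [hψd, natDeg_indFun (irr_isCharacter θ), sum_sq_indAbove hC A]
    refine ⟨dvd_mul_right _ _, ?_⟩
    calc 2 * H.index * (H.index * natDeg (θ : H → ℂ))
        = H.index * (2 * H.index * natDeg (θ : H → ℂ)) := by ring
      _ < _ := Nat.mul_lt_mul_of_pos_left (hdeg θ θ.2 (mem_thetaAbove.mp hθ).2)
          (Nat.pos_of_ne_zero Subgroup.index_ne_zero_of_finite)

theorem coherent_descend_irr (hC : ∀ h ∈ H, h ≠ 1 → Subgroup.centralizer ({h} : Set N) ≤ H)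
    (hsolv : Group.IsSolvable H) (hsys : IrrSys (↑(indAboveFinset H ⊥) : Set (N → ℂ)) τ)
    (hlt : ⁅H, H⁆ < H)
    (hstep : ∀ (A : Subgroup N) [A.Normal], A ≤ ⁅H, H⁆ → A ≠ ⊥ → ∃ B : Subgroup N, B.Normal ∧ B < A ∧
      ∀ θ : H → ℂ, Cfsg.IsIrrCharacter H θ → (∀ a : H, (a : N) ∈ B → θ a = θ 1) →
        2 * H.index * natDeg θ < A.relIndex H - 1) :
    ∀ (A : Subgroup N) [A.Normal], A ≤ ⁅H, H⁆ →
      Cfsg.IsCoherent (↑(indAboveFinset H A) : Set (N → ℂ)) {1}ᶜ τ →
      Cfsg.IsCoherent (↑(indAboveFinset H ⊥) : Set (N → ℂ)) {1}ᶜ τ := by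
  intro A
  induction hn : Nat.card A using Nat.strong_induction_on generalizing A with
  | _ n ih =>
    intro _ hle hA
    by_cases hbot : A = ⊥
    · subst hbot; exact hA
    obtain ⟨B, hB, hBA, hdeg⟩ := hstep A hle hbot
    refine ih _ ?_ B rfl (hBA.le.trans hle)
      (coherent_step_irr hC hsolv hsys A B (hle.trans_lt hlt) hBA.le hA hdeg)
    rw [← hn]
    rw [← SetLike.coe_ssubset_coe] at hBA
    exact Set.ncard_lt_ncard hBA (Set.toFinite _)

theorem relIndex_le_of_le {A B C : Subgroup N} (h : A ≤ B) : B.relIndex C ≤ A.relIndex C :=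
  Nat.le_of_dvd (Nat.pos_of_ne_zero (Subgroup.index_ne_zero_of_finite (H := A.subgroupOf C)))
    (Subgroup.relIndex_dvd_of_le_left C h)

theorem commutator_lt_kernel_step (hnil : Group.IsNilpotent H) {A : Subgroup N} [A.Normal]
    (hA : A ≠ ⊥) (hAH : A ≤ H) : ⁅A, H⁆ < A := by
  haveI := hnil
  have := commutator_sup_lt (M := ⊥) (A := A) (H := H) inferInstance (bot_lt_iff_ne_bot.mpr hA) hAH
  rwa [sup_bot_eq] at this

theorem coherent_of_big (hC : ∀ h ∈ H, h ≠ 1 → Subgroup.centralizer ({h} : Set N) ≤ H)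
    (hnil : Group.IsNilpotent H) (hsys : IrrSys (↑(indAboveFinset H ⊥) : Set (N → ℂ)) τ)
    (hlt : ⁅H, H⁆ < H) (hbig : 4 * H.index ^ 2 + 1 < (⁅H, H⁆).relIndex H) :
    Cfsg.IsCoherent (↑(indAboveFinset H ⊥) : Set (N → ℂ)) {1}ᶜ τ := by
  haveI := hnil
  have hsolv : Group.IsSolvable H := inferInstance
  refine coherent_descend_irr hC hsolv hsys hlt (fun A _ hA hne => ?_) ⁅H, H⁆ le_rfl
    (coherent_linear hC hsys le_rfl hlt ?_)
  · have hAH : A ≤ H := hA.trans hlt.le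
    refine ⟨⁅A, H⁆, inferInstance, commutator_lt_kernel_step hnil hne hAH, fun θ hθ hker => ?_⟩
    have hb := sq_natDeg_le_centre (D := A) (fun d hd h hh => Subgroup.commutator_mem_commutator hd hh) hθ hker
    have hx := hbig.trans_le (relIndex_le_of_le hA (C := H))
    generalize A.relIndex H = x at hb hx
    refine lt_of_pow_lt_pow_left₀ 2 (Nat.zero_le _) ?_
    obtain ⟨t, rfl⟩ : ∃ t, x = t + 1 := ⟨x - 1, by omega⟩
    rw [Nat.add_sub_cancel]
    nlinarith
  · nlinarith [Nat.pos_of_ne_zero (Subgroup.index_ne_zero_of_finite (H := H))]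

theorem sq_index_le_of_two_primes
    (hC : ∀ h ∈ H, h ≠ 1 → Subgroup.centralizer ({h} : Set N) ≤ H) (hlt : ⁅H, H⁆ < H)
    (hnp : ∀ p k : ℕ, p.Prime → (⁅H, H⁆).relIndex H ≠ p ^ k) :
    (H.index + 1) ^ 2 ≤ (⁅H, H⁆).relIndex H := by
  obtain ⟨p, hp, B, hBn, h0, h1, k, hk⟩ := exists_ppart_below H ⁅H, H⁆ hlt le_rfl
  haveI := hBn
  have hne : ⁅H, H⁆ < B := lt_of_le_of_ne h0 fun e => hnp p k hp (by rw [e, hk])
  rw [← Subgroup.relIndex_mul_relIndex _ B H h0 h1.le, sq]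
  exact Nat.mul_le_mul (index_succ_le_relIndex hC _ B hne h1.le) (index_succ_le_relIndex hC B H h1 le_rfl)

theorem coherent_of_two_primes (hC : ∀ h ∈ H, h ≠ 1 → Subgroup.centralizer ({h} : Set N) ≤ H)
    (hnil : Group.IsNilpotent H) (hsys : IrrSys (↑(indAboveFinset H ⊥) : Set (N → ℂ)) τ)
    (hlt : ⁅H, H⁆ < H) (hnp : ∀ p k : ℕ, p.Prime → (⁅H, H⁆).relIndex H ≠ p ^ k) :
    Cfsg.IsCoherent (↑(indAboveFinset H ⊥) : Set (N → ℂ)) {1}ᶜ τ := by
  haveI := hnil
  have hsolv : Group.IsSolvable H := inferInstance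
  have he : 0 < H.index := Nat.pos_of_ne_zero (Subgroup.index_ne_zero_of_finite (H := H))
  have hsq := sq_index_le_of_two_primes hC hlt hnp
  refine coherent_descend_irr hC hsolv hsys hlt (fun A _ hA hne => ?_) ⁅H, H⁆ le_rfl
    (coherent_linear hC hsys le_rfl hlt ?_)
  · have hAH : A ≤ H := hA.trans hlt.le
    obtain ⟨p, hp, B, hBn, hB0, hBA, k, hk⟩ := exists_ppart_below A ⁅A, H⁆
      (commutator_lt_kernel_step hnil hne hAH) (Subgroup.commutator_mono le_rfl hAH)
    haveI := hBn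
    haveI := Fact.mk hp
    set σ := QuotientGroup.mk' B with hσ
    haveI : (H.map σ).Normal := Subgroup.Normal.map hHn σ (QuotientGroup.mk'_surjective B)
    set C := H ⊓ (Subgroup.centralizer ((H.map σ : Subgroup (N ⧸ B)) : Set (N ⧸ B))).comap σ with hCdef
    have hcomm : ∀ {c h : N}, σ ⁅c, h⁆ = 1 ↔ σ h * σ c = σ c * σ h := fun {c h} => by
      rw [map_commutatorElement, commutatorElement_eq_one_iff_mul_comm]
      exact eq_comm
    have hAC : A ≤ C := fun a ha => ⟨hAH ha, Subgroup.mem_centralizer_iff.mpr (by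
      rintro _ ⟨h, hh, rfl⟩
      exact hcomm.mp ((QuotientGroup.eq_one_iff _).mpr
        (hB0 (Subgroup.commutator_mem_commutator ha hh))))⟩
    have hCA : ¬ C ≤ A := by
      intro hle
      haveI : Group.IsNilpotent (H.map σ) :=
        Group.nilpotent_of_surjective (σ.subgroupMap H) (σ.subgroupMap_surjective H)
      have hcard : Nat.card (H.map σ) = B.relIndex H := by
        have e := Subgroup.relIndex_map_map σ B H
        rw [(Subgroup.map_eq_bot_iff B).mpr (by rw [hσ, QuotientGroup.ker_mk']),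
          Subgroup.relIndex_bot_left, hσ, QuotientGroup.ker_mk', sup_idem,
          sup_eq_left.mpr (hBA.le.trans hAH)] at e
        exact e
      obtain ⟨q, hq, hqd, hqp⟩ : ∃ q, q.Prime ∧ q ∣ Nat.card (H.map σ) ∧ q ≠ p := by
        by_contra hcon
        push Not at hcon
        have hall : Nat.card (H.map σ) = p ^ _ :=
          Nat.eq_prime_pow_of_unique_prime_dvd Nat.card_pos.ne' fun {d} h h' => hcon d h h'
        have hd : (⁅H, H⁆).relIndex H ∣ Nat.card (H.map σ) :=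
          hcard ▸ Subgroup.relIndex_dvd_of_le_left H (hBA.le.trans hA)
        obtain ⟨j, -, hj⟩ := (Nat.dvd_prime_pow hp).mp (hall ▸ hd)
        exact hnp p j hp hj
      haveI := Fact.mk hq
      let Q : Sylow q (H.map σ) := default
      haveI : (Q : Subgroup (H.map σ)).Normal :=
        Group.isNilpotent_of_finite_tfae.out 0 3 rfl rfl |>.mp inferInstance q inferInstance Q
      obtain ⟨⟨z, hzc, hzQ⟩, hz1⟩ := Subgroup.ne_bot_iff_exists_ne_one.mp
        (CfsgLib.OddOrder.PuigSeries.inf_center_ne_bot (Q : Subgroup (H.map σ))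
          (Q.ne_bot_of_dvd_card hqd))
      obtain ⟨_, c, hc, rfl⟩ := z
      have hcC : c ∈ C := ⟨hc, Subgroup.mem_centralizer_iff.mpr fun w hw =>
        congrArg Subtype.val (Subgroup.mem_center_iff.mp hzc ⟨w, hw⟩)⟩
      have hcard2 : Nat.card (A.map σ) = p ^ k := by
        have e := Subgroup.relIndex_map_map σ B A
        rw [(Subgroup.map_eq_bot_iff B).mpr (by rw [hσ, QuotientGroup.ker_mk']),
          Subgroup.relIndex_bot_left, hσ, QuotientGroup.ker_mk', sup_idem,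
          sup_eq_left.mpr hBA.le] at e
        exact e.trans hk
      have h1 : orderOf (σ c) ∣ p ^ k :=
        hcard2 ▸ (A.map σ).orderOf_dvd_natCard ⟨c, hle hcC, rfl⟩
      obtain ⟨j, hj⟩ := IsPGroup.iff_orderOf.mp Q.isPGroup' ⟨⟨σ c, c, hc, rfl⟩, hzQ⟩
      have hj' : orderOf (σ c) = q ^ j :=
        (orderOf_injective ((H.map σ).subtype.comp (Q : Subgroup (H.map σ)).subtype)
          (Subtype.val_injective.comp Subtype.val_injective) ⟨⟨σ c, c, hc, rfl⟩, hzQ⟩).trans hj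
      have hone : orderOf (σ c) = 1 :=
        Nat.eq_one_of_dvd_coprimes (Nat.coprime_pow_primes j k hq hp hqp) (hj' ▸ dvd_rfl) h1
      exact hz1 (Subtype.ext (Subtype.ext (orderOf_eq_one_iff.mp hone)))
    refine ⟨B, hBn, hBA, fun θ hθ hker => ?_⟩
    have hb := sq_natDeg_le_centre (D := C) (fun d hd h hh => (QuotientGroup.eq_one_iff _).mp
      (hcomm.mpr (Subgroup.mem_centralizer_iff.mp hd.2 (σ h) ⟨h, hh, rfl⟩))) hθ hker
    have hmul := Subgroup.relIndex_mul_relIndex A C H hAC inf_le_left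
    have hbig := index_succ_le_relIndex hC A C (lt_of_le_not_ge hAC hCA) inf_le_left
    have hx := hsq.trans (relIndex_le_of_le hA (C := H))
    generalize A.relIndex H = x at hmul hx ⊢
    generalize C.relIndex H = r at hb hmul
    generalize A.relIndex C = s at hbig hmul
    generalize H.index = e at he hbig hx ⊢
    generalize natDeg θ = t at hb ⊢
    have h1 : t ^ 2 * (e + 1) ≤ x := by rw [← hmul]; nlinarith
    obtain ⟨y, rfl⟩ : ∃ y, x = y + 1 :=
      ⟨x - 1, (Nat.sub_add_cancel (le_trans (Nat.one_le_pow _ _ (by omega)) hx)).symm⟩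
    rw [Nat.add_sub_cancel]
    by_contra hcon
    push Not at hcon
    have h2 : y ^ 2 * (e + 1) ≤ 4 * e ^ 2 * (y + 1) := by
      calc y ^ 2 * (e + 1) ≤ (2 * e * t) ^ 2 * (e + 1) :=
            Nat.mul_le_mul_right _ (Nat.pow_le_pow_left hcon 2)
        _ = 4 * e ^ 2 * (t ^ 2 * (e + 1)) := by ring
        _ ≤ _ := Nat.mul_le_mul_left _ h1
    nlinarith [h2, hx, sq_nonneg ((e : ℤ) - 1), Nat.mul_le_mul hx (le_refl y)]
  · intro h
    rw [h] at hsq
    nlinarith

/-- Feit's coherence theorem -/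
theorem feit_coherence (hC : ∀ h ∈ H, h ≠ 1 → Subgroup.centralizer ({h} : Set N) ≤ H)
    (hH1 : H ≠ ⊥) (hH2 : H ≠ ⊤) (he : Nat.card H ≠ H.index + 1)
    (hsys : IrrSys (↑(indAboveFinset H ⊥) : Set (N → ℂ)) τ) :
    Cfsg.IsCoherent (↑(indAboveFinset H ⊥) : Set (N → ℂ)) {1}ᶜ τ ∨
      ∃ p : ℕ, p.Prime ∧ (∃ m : ℕ, Nat.card H = p ^ m) ∧ ¬ IsMulCommutative H ∧
        (⁅H, H⁆).relIndex H ≤ 4 * H.index ^ 2 + 1 := by
  have hnil := kernel_isNilpotent hC hH2
  haveI := hnil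
  by_cases hab : IsMulCommutative H
  · left
    refine coherent_linear hC hsys (A := ⊥) (le_of_eq ?_) (bot_lt_iff_ne_bot.mpr hH1) ?_
    · exact Subgroup.commutator_eq_bot_iff_le_centralizer.mpr fun a ha =>
        Subgroup.mem_centralizer_iff.mpr fun b hb => congrArg Subtype.val (hab.1.1 ⟨b, hb⟩ ⟨a, ha⟩)
    · rwa [Subgroup.relIndex_bot_left]
  have hlt : ⁅H, H⁆ < H := commutator_lt_kernel_step hnil hH1 le_rfl
  by_cases hbig : 4 * H.index ^ 2 + 1 < (⁅H, H⁆).relIndex H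
  · exact Or.inl (coherent_of_big hC hnil hsys hlt hbig)
  by_cases hnp : ∀ p k : ℕ, p.Prime → (⁅H, H⁆).relIndex H ≠ p ^ k
  · exact Or.inl (coherent_of_two_primes hC hnil hsys hlt hnp)
  push Not at hnp
  obtain ⟨p, k, hp, hk⟩ := hnp
  refine Or.inr ⟨p, hp, ⟨_, Nat.eq_prime_pow_of_unique_prime_dvd Nat.card_pos.ne' fun {q} hq hqd => ?_⟩,
    hab, not_lt.mp hbig⟩
  have hidx : (commutator H).index = (⁅H, H⁆).relIndex H := by
    rw [Subgroup.relIndex, ← Subgroup.map_subtype_commutator, Subgroup.subgroupOf,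
      Subgroup.comap_map_eq_self_of_injective Subtype.val_injective]
  have hd := dvd_commutator_index (X := H) hq hqd
  rw [hidx, hk] at hd
  exact (Nat.prime_dvd_prime_iff_eq hq hp).mp (hq.dvd_of_dvd_pow hd)

end CfsgLib.OddChar
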