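import Cfsg.Agent.Lib.OddChar.Sibley

set_option autoImplicit false
set_option linter.style.haveILetI false
set_option linter.unusedSectionVars false

/-! The Feit–Sibley coherence theorem for a nilpotent TI kernel. -/

namespace CfsgLib.OddChar

open scoped Classical commutatorElement
open Finset CfsgLib.Characters

variable {G : Type*} [Group G] [Fintype G]

theorem kernel_of_le_normalizer {K N : Subgroup G}
    (hC : ∀ k ∈ K, k ≠ 1 → Subgroup.centralizer ({k} : Set G) ≤ K) :
    ∀ h ∈ K.subgroupOf N, h ≠ 1 → Subgroup.centralizer ({h} : Set N) ≤ K.subgroupOf N :=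
  fun h hh h1 _ hx => Subgroup.mem_subgroupOf.mpr
    (hC h (Subgroup.mem_subgroupOf.mp hh) (fun e => h1 (Subtype.ext e))
      (Subgroup.mem_centralizer_singleton_iff.mpr
        (congrArg Subtype.val (Subgroup.mem_centralizer_singleton_iff.mp hx))))

theorem feit_sibley (K : Subgroup G) (hK1 : K ≠ ⊥) (hTI : Cfsg.IsTISubset (K : Set G))
    (hlt : K < Subgroup.normalizer (K : Set G))
    (hC : ∀ k ∈ K, k ≠ 1 → Subgroup.centralizer ({k} : Set G) ≤ K)
    [Fintype ↥(Subgroup.normalizer (K : Set G))] :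
    (Nat.card {χ : ↥(Subgroup.normalizer (K : Set G)) → ℂ //
        Cfsg.IsIrrCharacter ↥(Subgroup.normalizer (K : Set G)) χ ∧
          ∃ k : ↥(Subgroup.normalizer (K : Set G)), (k : G) ∈ K ∧ χ k ≠ χ 1} = 1 ∧
      Nat.card K = (K.subgroupOf (Subgroup.normalizer (K : Set G))).index + 1 ∧
      ∃ p : ℕ, p.Prime ∧ Cfsg.IsElementaryAbelian p K) ∨
    (Nat.card K = 2 ^ (Nat.card G).factorization 2 ∧
      (⁅K, K⁆.subgroupOf K).index < 4 * (K.subgroupOf (Subgroup.normalizer (K : Set G))).index ^ 2) ∨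
    Cfsg.IsCoherent {χ : ↥(Subgroup.normalizer (K : Set G)) → ℂ |
        Cfsg.IsIrrCharacter ↥(Subgroup.normalizer (K : Set G)) χ ∧
          ∃ k : ↥(Subgroup.normalizer (K : Set G)), (k : G) ∈ K ∧ χ k ≠ χ 1} {1}ᶜ
      (fun α => Cfsg.indFun (Subgroup.normalizer (K : Set G)) α) := by
  haveI : Fintype ↥(K.subgroupOf (Subgroup.normalizer (K : Set G))) := Fintype.ofFinite _
  have hCN := kernel_of_le_normalizer (N := Subgroup.normalizer (K : Set G)) hC
  have hKN : K ≤ Subgroup.normalizer (K : Set G) := hlt.le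
  let eK := Subgroup.subgroupOfEquivOfLe hKN
  have hcard : Nat.card (K.subgroupOf (Subgroup.normalizer (K : Set G))) = Nat.card K :=
    Nat.card_congr eK.toEquiv
  have hH1 : K.subgroupOf (Subgroup.normalizer (K : Set G)) ≠ ⊥ := fun e => hK1
    (Subgroup.card_eq_one.mp (by rw [← hcard, e, Subgroup.card_bot]))
  have hH2 : K.subgroupOf (Subgroup.normalizer (K : Set G)) ≠ ⊤ := fun e =>
    hlt.not_ge (Subgroup.subgroupOf_eq_top.mp e)
  have hset : {χ : ↥(Subgroup.normalizer (K : Set G)) → ℂ |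
      Cfsg.IsIrrCharacter ↥(Subgroup.normalizer (K : Set G)) χ ∧
        ∃ k : ↥(Subgroup.normalizer (K : Set G)), (k : G) ∈ K ∧ χ k ≠ χ 1} =
      ↑(indAboveFinset (K.subgroupOf (Subgroup.normalizer (K : Set G))) ⊥) := by
    rw [indAbove_bot_eq hCN]
    rfl
  by_cases he : Nat.card K = (K.subgroupOf (Subgroup.normalizer (K : Set G))).index + 1
  · left
    obtain ⟨hcomm, p, hp, hpow⟩ := kernel_small hCN (hcard.trans he)
    refine ⟨?_, he, p, hp, ⟨⟨fun a b => ?_⟩⟩, fun a ha => ?_⟩
    · show Nat.card ↥{χ : ↥(Subgroup.normalizer (K : Set G)) → ℂ |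
        Cfsg.IsIrrCharacter ↥(Subgroup.normalizer (K : Set G)) χ ∧
          ∃ k : ↥(Subgroup.normalizer (K : Set G)), (k : G) ∈ K ∧ χ k ≠ χ 1} = 1
      rw [hset, Nat.card_coe_set_eq, Set.ncard_coe_finset]
      have h := card_indAbove_linear hCN (A := ⊥) (le_of_eq
        (Subgroup.commutator_eq_bot_iff_le_centralizer.mpr fun a ha =>
          Subgroup.mem_centralizer_iff.mpr fun b hb => congrArg Subtype.val (hcomm.1.1 ⟨b, hb⟩ ⟨a, ha⟩)))
      rw [Subgroup.relIndex_bot_left, hcard, he, Nat.add_sub_cancel] at h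
      exact (mul_eq_right₀ Subgroup.index_ne_zero_of_finite).mp h
    · have := congrArg eK (hcomm.1.1 (eK.symm a) (eK.symm b))
      simpa using this
    · exact congrArg Subtype.val (hpow ⟨a, hKN ha⟩ (Subgroup.mem_subgroupOf.mpr ha))
  right
  have hsysI := indFun_ti_isometry K hTI
    (↑(indAboveFinset (K.subgroupOf (Subgroup.normalizer (K : Set G))) ⊥) :
      Set (↥(Subgroup.normalizer (K : Set G)) → ℂ))
    (fun χ hχ => isGeneralizedCharacter_of_isCharacter (isCharacter_of_irr (indAbove_irr hCN hχ)))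
    (fun χ hχ x hx => by
      obtain ⟨θ, -, rfl⟩ := Finset.mem_image.mp hχ
      exact CfsgLib.Induction.indFun_normal_eq_zero _ (fun h => hx (Subgroup.mem_subgroupOf.mp h)))
  rcases feit_coherence hCN hH1 hH2 (by rwa [hcard])
    ⟨fun χ hχ => indAbove_irr hCN hχ, hsysI.1, hsysI.2⟩ with h | ⟨p, hp, ⟨n, hn⟩, hnab, hx⟩
  · right; rw [hset]; exact h
  haveI := Fact.mk hp
  have hKp : IsPGroup p K := IsPGroup.of_card (hcard ▸ hn)
  have hnd : ¬ p ∣ K.index := fun hd => hp.coprime_iff_not_dvd.mp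
    ((CfsgLib.Frobenius.coprime_card_index_of_centralizer_le K hC).coprime_dvd_left
      (by
        rw [← hcard, hn]
        refine dvd_pow_self p ?_
        rintro rfl
        exact hH1 (Subgroup.card_eq_one.mp (by rw [hn, pow_zero])))) hd
  by_cases hp2 : p = 2
  · subst hp2
    refine Or.inl ⟨(hKp.toSylow hnd).card_eq_multiplicity, ?_⟩
    have hidx : (⁅K, K⁆.subgroupOf K).index =
        (⁅K.subgroupOf (Subgroup.normalizer (K : Set G)), K.subgroupOf (Subgroup.normalizer (K : Set G))⁆).relIndex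
          (K.subgroupOf (Subgroup.normalizer (K : Set G))) := by
      rw [← Subgroup.relIndex_map_map_of_injective _ _
        (Subgroup.subtype_injective (Subgroup.normalizer (K : Set G))), Subgroup.map_commutator,
        Subgroup.subgroupOf_map_subtype, inf_eq_left.mpr hKN]
      rfl
    rw [hidx]
    set e := (K.subgroupOf (Subgroup.normalizer (K : Set G))).index with he'
    set x := (⁅K.subgroupOf (Subgroup.normalizer (K : Set G)), K.subgroupOf (Subgroup.normalizer (K : Set G))⁆).relIndex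
          (K.subgroupOf (Subgroup.normalizer (K : Set G))) with hx'
    obtain ⟨j, -, hj⟩ := (Nat.dvd_prime_pow hp).mp (hn ▸ Subgroup.relIndex_dvd_card _ _ : x ∣ 2 ^ n)
    have he2 : 2 ≤ e := by
      have h0 : e ≠ 0 := Subgroup.index_ne_zero_of_finite
      have h1 : e ≠ 1 := fun h => hH2 (Subgroup.index_eq_one.mp h)
      omega
    have heo : ¬ 2 ∣ e := fun hd => Nat.prime_two.coprime_iff_not_dvd.mp
      ((CfsgLib.Frobenius.coprime_card_index_of_centralizer_le _ hCN).coprime_dvd_left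
        (by
          rw [hn]
          refine dvd_pow_self 2 ?_
          rintro rfl
          exact hH1 (Subgroup.card_eq_one.mp (by rw [hn, pow_zero])))) hd
    rcases j with _ | i
    · rw [hj, pow_zero]; nlinarith
    by_contra hcon
    rw [hj, pow_succ] at hx hcon
    have hev : 2 ^ i * 2 = 4 * e ^ 2 := by
      have h1 := not_lt.mp hcon
      have h4 : ∀ a b : ℕ, 4 * b ≤ a * 2 → a * 2 ≤ 4 * b + 1 → a * 2 = 4 * b := fun a b _ _ => by omega
      exact h4 _ _ h1 hx
    have hd : e ^ 2 ∣ 2 ^ (i + 1) := ⟨4, by rw [pow_succ, hev]; ring⟩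
    obtain ⟨r, -, hr⟩ := (Nat.dvd_prime_pow Nat.prime_two).mp hd
    rcases r with _ | r
    · rw [pow_zero] at hr; nlinarith
    · exact heo (Nat.prime_two.dvd_of_dvd_pow (n := 2) (by rw [hr]; exact dvd_pow_self 2 r.succ_ne_zero))
  · right
    obtain ⟨P, rfl⟩ : ∃ P : Sylow p G, (P : Subgroup G) = K := ⟨hKp.toSylow hnd, rfl⟩
    rw [hset]
    refine sibley_coherence P hp2 hTI hC fun h => hnab ⟨⟨fun a b => eK.injective ?_⟩⟩
    rw [map_mul, map_mul]
    exact h.1.1 _ _

end CfsgLib.OddChar
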