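import Cfsg.Agent.Lib.OddChar.CoherenceNilpotent
import Mathlib.GroupTheory.Nilpotent

set_option autoImplicit false
set_option linter.style.haveILetI false
set_option linter.unusedSectionVars false

/-! Coherence for a nilpotent section over a Frobenius quotient. -/

namespace CfsgLib.OddChar

open scoped Classical commutatorElement
open Finset

theorem card_conj_eq_index {X : Type*} [Group X] [Finite X] (n : X) :
    Nat.card {y : X // IsConj n y} = (Subgroup.centralizer ({n} : Set X)).index := by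
  rw [Subgroup.index_eq_card]
  refine (Nat.card_congr (Equiv.ofBijective
    (fun q : X ⧸ Subgroup.centralizer ({n} : Set X) =>
      (⟨q.out * n * q.out⁻¹, isConj_iff.mpr ⟨q.out, rfl⟩⟩ : {y : X // IsConj n y})) ⟨?_, ?_⟩)).symm
  · intro q r e
    have e' : q.out * n * q.out⁻¹ = r.out * n * r.out⁻¹ := congrArg Subtype.val e
    rw [← q.out_eq', ← r.out_eq', QuotientGroup.eq, Subgroup.mem_centralizer_singleton_iff]
    calc q.out⁻¹ * r.out * n = q.out⁻¹ * (r.out * n * r.out⁻¹) * r.out := by group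
      _ = _ := by rw [← e']; group
  · rintro ⟨y, hy⟩
    obtain ⟨g, rfl⟩ := isConj_iff.mp hy
    obtain ⟨⟨c, hc⟩, hq⟩ := QuotientGroup.mk_out_eq_mul (Subgroup.centralizer ({n} : Set X)) g
    refine ⟨(QuotientGroup.mk g : X ⧸ _), Subtype.ext ?_⟩
    show _ * n * _⁻¹ = g * n * g⁻¹
    rw [hq]
    have := Subgroup.mem_centralizer_singleton_iff.mp hc
    calc g * c * n * (g * c)⁻¹ = g * (c * n) * c⁻¹ * g⁻¹ := by group
      _ = _ := by rw [this]; group

/-- orbits of size the index on a normal subgroup inside `C` -/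
theorem index_dvd_card_sub_one {X : Type*} [Group X] [Finite X] (C N : Subgroup X) [N.Normal]
    (hC : ∀ n ∈ N, n ≠ 1 → Subgroup.centralizer ({n} : Set X) = C) : C.index ∣ Nat.card N - 1 := by
  haveI := Fintype.ofFinite X
  set S := univ.filter (fun n : X => n ∈ N ∧ n ≠ 1) with hS
  have hcard : S.card = Nat.card N - 1 := by
    have : S = (univ.filter (fun n : X => n ∈ N)).erase 1 := by
      ext x; simp [hS, and_comm]
    rw [this, Finset.card_erase_of_mem (by simp [N.one_mem]), Nat.card_eq_fintype_card,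
      Fintype.card_subtype]
  rw [← hcard, Finset.card_eq_sum_card_image ConjClasses.mk S]
  refine Finset.dvd_sum fun c hc => ?_
  obtain ⟨n, hn, rfl⟩ := Finset.mem_image.mp hc
  obtain ⟨hnN, hn1⟩ := (mem_filter.mp hn).2
  have : S.filter (fun y => ConjClasses.mk y = ConjClasses.mk n) = univ.filter (fun y => IsConj n y) := by
    ext y
    simp only [hS, mem_filter, mem_univ, true_and, ConjClasses.mk_eq_mk_iff_isConj]
    refine ⟨fun h => h.2.symm, fun h => ?_⟩
    obtain ⟨g, rfl⟩ := isConj_iff.mp h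
    exact ⟨⟨Subgroup.Normal.conj_mem inferInstance n hnN g, by simpa using hn1⟩, h.symm⟩
  rw [this, ← Fintype.card_subtype, ← Nat.card_eq_fintype_card, card_conj_eq_index, hC n hnN hn1]

variable {L : Type*} [Group L] [Finite L] {K H₁ : Subgroup L} [K.Normal] [H₁.Normal]

/-- `[K : K]` in the Frobenius quotient: `e` divides `[N : H₁] - 1` -/
theorem index_dvd_relIndex_sub_one (hle : H₁ ≤ K) (hcomm : ⁅K, K⁆ ≤ H₁)
    (hfrob : ∀ k ∈ K, k ∉ H₁ → ∀ x : L, x * k * x⁻¹ * k⁻¹ ∈ H₁ → x ∈ K)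
    (N : Subgroup L) [N.Normal] (hN : H₁ ≤ N) (hNK : N ≤ K) :
    K.index ∣ H₁.relIndex N - 1 := by
  set π := QuotientGroup.mk' H₁ with hπ
  have hsurj : Function.Surjective π := QuotientGroup.mk'_surjective _
  haveI : (N.map π).Normal := Subgroup.Normal.map inferInstance π hsurj
  have hC : ∀ n ∈ N.map π, n ≠ 1 → Subgroup.centralizer ({n} : Set (L ⧸ H₁)) = K.map π := by
    rintro _ ⟨k, hk, rfl⟩ hk1
    ext q
    obtain ⟨x, rfl⟩ := hsurj q
    rw [Subgroup.mem_centralizer_singleton_iff]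
    constructor
    · intro hx
      refine ⟨x, hfrob k (hNK hk) (fun h => hk1 ((QuotientGroup.eq_one_iff k).mpr h)) x ?_, rfl⟩
      rw [← QuotientGroup.eq_one_iff]
      show π (x * k * x⁻¹ * k⁻¹) = 1
      rw [map_mul, map_mul, map_mul, map_inv, map_inv, hx, mul_inv_cancel_right, mul_inv_cancel]
    · rintro ⟨y, hy, e⟩
      rw [← e, ← map_mul, ← map_mul]
      have hc : ⁅y, k⁆ ∈ H₁ := hcomm (Subgroup.commutator_mem_commutator hy (hNK hk))
      have : π ⁅y, k⁆ = 1 := (QuotientGroup.eq_one_iff _).mpr hc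
      rw [show y * k = ⁅y, k⁆ * (k * y) by rw [commutatorElement_def]; group, map_mul, this, one_mul]
  have h := index_dvd_card_sub_one (K.map π) (N.map π) hC
  rw [Subgroup.index_map_eq K hsurj (by rwa [hπ, QuotientGroup.ker_mk'])] at h
  have e : Nat.card (N.map π) = H₁.relIndex N := by
    have hb : H₁.map π = ⊥ :=
      (Subgroup.map_eq_bot_iff H₁).mpr (by rw [hπ, QuotientGroup.ker_mk'])
    rw [← Subgroup.relIndex_bot_left, ← hb,
      Subgroup.relIndex_map_map, hπ, QuotientGroup.ker_mk', sup_idem, sup_eq_left.mpr hN]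
  rwa [e] at h

theorem big_of_intermediate (hle : H₁ ≤ K) (hcomm : ⁅K, K⁆ ≤ H₁) (hodd : Odd (Nat.card L))
    (hfrob : ∀ k ∈ K, k ∉ H₁ → ∀ x : L, x * k * x⁻¹ * k⁻¹ ∈ H₁ → x ∈ K)
    (N : Subgroup L) [N.Normal] (hN : H₁ < N) (hNK : N < K) :
    4 * K.index ^ 2 + 1 < H₁.relIndex K := by
  have d1 := index_dvd_relIndex_sub_one hle hcomm hfrob N hN.le hNK.le
  have d2 := index_dvd_relIndex_sub_one hle hcomm hfrob K hle le_rfl
  have hodd' : ∀ A B : Subgroup L, Odd (A.relIndex B) := fun A B =>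
    hodd.of_dvd_nat ((Subgroup.relIndex_dvd_card A B).trans (Subgroup.card_subgroup_dvd_card B))
  have he : Odd K.index := hodd.of_dvd_nat (Subgroup.index_dvd_card K)
  have hmul := Subgroup.relIndex_mul_relIndex H₁ N K hN.le hNK.le
  have ha : H₁.relIndex N ≠ 1 := fun h => hN.not_ge (Subgroup.relIndex_eq_one.mp h)
  have hb : N.relIndex K ≠ 1 := fun h => hNK.not_ge (Subgroup.relIndex_eq_one.mp h)
  obtain ⟨a', ha'⟩ := hodd' H₁ N
  obtain ⟨b', hb'⟩ := hodd' N K
  obtain ⟨e', he'⟩ := he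
  rw [← hmul] at d2 ⊢
  rw [ha', hb'] at d2 ⊢
  rw [ha'] at d1 ha
  rw [hb'] at hb
  rw [he'] at d1 d2 ⊢
  have hcop : Nat.Coprime (2 * e' + 1) 2 :=
    (Nat.coprime_primes_iff_odd_aux e')
  have h1 : 2 * e' + 1 ∣ a' := hcop.dvd_of_dvd_mul_left (by simpa using d1)
  have e2 : (2 * a' + 1) * (2 * b' + 1) - 1 = 2 * a' * (2 * b' + 1) + 2 * b' := by
    have : (2 * a' + 1) * (2 * b' + 1) = 2 * a' * (2 * b' + 1) + 2 * b' + 1 := by ring
    omega
  rw [e2] at d2
  have h2 : 2 * e' + 1 ∣ b' := by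
    refine hcop.dvd_of_dvd_mul_left ?_
    exact (Nat.dvd_add_right ((Dvd.dvd.mul_left h1 2).mul_right _)).mp d2
  have : 2 * e' + 1 ≤ a' := Nat.le_of_dvd (by omega) h1
  have : 2 * e' + 1 ≤ b' := Nat.le_of_dvd (by omega) h2
  nlinarith
where
  Nat.coprime_primes_iff_odd_aux (e : ℕ) : Nat.Coprime (2 * e + 1) 2 := by
    rw [Nat.coprime_two_right]
    exact ⟨e, rfl⟩

theorem dvd_relIndex_commutator (M : Subgroup L) (hMK : M ≤ K)
    [(M.subgroupOf K).Normal] (hnil : Group.IsNilpotent (↥K ⧸ M.subgroupOf K))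
    (hH₁ : H₁ = ⁅K, K⁆ ⊔ M) {p : ℕ} [hp : Fact p.Prime] (hdvd : p ∣ M.relIndex K) :
    p ∣ H₁.relIndex K := by
  set Q := ↥K ⧸ M.subgroupOf K with hQ
  haveI : Group.IsNilpotent Q := hnil
  haveI : Fintype Q := Fintype.ofFinite Q
  have hn : ∀ (q : ℕ) (_hq : Fact q.Prime) (P : Sylow q Q), (P : Subgroup Q).Normal :=
    ((Group.isNilpotent_of_finite_tfae (G := Q)).out 0 3 rfl rfl).1 inferInstance
  obtain ⟨e⟩ : Nonempty ((∀ q : (Nat.card Q).primeFactors, ∀ P : Sylow q Q, (↑P : Subgroup Q)) ≃* Q) :=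
    ((Group.isNilpotent_of_finite_tfae (G := Q)).out 3 4 rfl rfl).1 hn
  have hpQ : p ∈ (Nat.card Q).primeFactors :=
    Nat.mem_primeFactors.mpr ⟨hp.out, hdvd, Nat.card_pos.ne'⟩
  obtain ⟨P⟩ : Nonempty (Sylow p Q) := inferInstance
  let proj : Q →* (↑P : Subgroup Q) :=
    ((Pi.evalMonoidHom (fun P : Sylow p Q => (↑P : Subgroup Q)) P).comp
      (Pi.evalMonoidHom (fun q : (Nat.card Q).primeFactors => ∀ P : Sylow q Q, (↑P : Subgroup Q))
        ⟨p, hpQ⟩)).comp e.symm.toMonoidHom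
  have hproj : Function.Surjective proj := fun x => ⟨e (Pi.mulSingle
      (M := fun q : (Nat.card Q).primeFactors => ∀ P : Sylow q Q, (↑P : Subgroup Q))
      ⟨p, hpQ⟩ (Pi.mulSingle P x)), by simp [proj]⟩
  haveI : Nontrivial (↑P : Subgroup Q) :=
    (Subgroup.nontrivial_iff_ne_bot _).mpr (P.ne_bot_of_dvd_card hdvd)
  haveI : Nontrivial (Abelianization (↑P : Subgroup Q)) := by
    haveI : Group.IsSolvable (↑P : Subgroup Q) := inferInstance
    exact QuotientGroup.nontrivial_iff.mpr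
      (Group.IsSolvable.commutator_lt_top_of_nontrivial (↑P : Subgroup Q)).ne
  set Φ : K →* Abelianization (↑P : Subgroup Q) :=
    (Abelianization.of.comp proj).comp (QuotientGroup.mk' (M.subgroupOf K)) with hΦ
  have hΦs : Function.Surjective Φ :=
    (QuotientGroup.mk_surjective.comp hproj).comp (QuotientGroup.mk'_surjective _)
  have hker : H₁.subgroupOf K ≤ Φ.ker := by
    have hH : H₁.subgroupOf K = ⁅(⊤ : Subgroup K), ⊤⁆ ⊔ M.subgroupOf K := by
      apply Subgroup.map_injective (f := K.subtype) Subtype.val_injective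
      rw [Subgroup.map_sup, Subgroup.map_commutator, Subgroup.subgroupOf_map_subtype,
        Subgroup.subgroupOf_map_subtype, ← MonoidHom.range_eq_map, Subgroup.range_subtype,
        inf_eq_left.mpr hMK, inf_eq_left.mpr (hH₁ ▸ sup_le (Subgroup.commutator_le_left K K) hMK),
        hH₁]
    rw [hH, sup_le_iff]
    refine ⟨Abelianization.commutator_subset_ker Φ, fun x hx => ?_⟩
    have h1 : QuotientGroup.mk' (M.subgroupOf K) x = 1 := (QuotientGroup.eq_one_iff x).mpr hx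
    rw [MonoidHom.mem_ker, hΦ]
    simp only [MonoidHom.comp_apply, h1, map_one]
  have h1 : Φ.ker.index ∣ H₁.relIndex K := Subgroup.index_dvd_of_le hker
  rw [Subgroup.index_ker, MonoidHom.range_eq_top.mpr hΦs, Subgroup.card_top] at h1
  obtain ⟨m, hm⟩ := (P.isPGroup'.to_quotient (commutator (↑P : Subgroup Q))).exists_card_eq
  have hm0 : m ≠ 0 := fun h0 => (Finite.one_lt_card (α := Abelianization (↑P : Subgroup Q))).ne'
    (hm.trans (by rw [h0, pow_zero]))
  exact (dvd_pow_self p hm0).trans ((hm.symm.dvd : p ^ m ∣ Nat.card (Abelianization _)).trans h1)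

theorem exists_intermediate (M : Subgroup L) (hMK : M ≤ K)
    [(M.subgroupOf K).Normal] (hnil : Group.IsNilpotent (↥K ⧸ M.subgroupOf K))
    (hH₁ : H₁ = ⁅K, K⁆ ⊔ M) (hnp : ¬ ∃ p m : ℕ, p.Prime ∧ M.relIndex K = p ^ m) :
    ∃ N : Subgroup L, N.Normal ∧ H₁ < N ∧ N < K := by
  have hne : M.relIndex K ≠ 0 := Subgroup.index_ne_zero_of_finite (H := M.subgroupOf K)
  have hne1 : M.relIndex K ≠ 1 := fun h => hnp ⟨2, 0, Nat.prime_two, by simp [h]⟩
  obtain ⟨p, hp, hpd⟩ := Nat.exists_prime_and_dvd hne1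
  obtain ⟨q, hq, hqd, hqp⟩ : ∃ q, q.Prime ∧ q ∣ M.relIndex K ∧ q ≠ p := by
    by_contra h
    push Not at h
    exact hnp ⟨p, (M.relIndex K).primeFactorsList.length, hp,
      Nat.eq_prime_pow_of_unique_prime_dvd hne fun hd hdd => h _ hd hdd⟩
  haveI := Fact.mk hp
  haveI := Fact.mk hq
  have hp1 := dvd_relIndex_commutator M hMK hnil hH₁ hpd
  have hq1 := dvd_relIndex_commutator M hMK hnil hH₁ hqd
  have hle : H₁ ≤ K := hH₁ ▸ sup_le (Subgroup.commutator_le_left K K) hMK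
  have hcomm : ⁅K, K⁆ ≤ H₁ := hH₁ ▸ le_sup_left
  haveI : (H₁.subgroupOf K).Normal := inferInstance
  let iA : CommGroup (↥K ⧸ H₁.subgroupOf K) :=
    { (inferInstance : Group (↥K ⧸ H₁.subgroupOf K)) with
      mul_comm := fun a b => QuotientGroup.induction_on a fun x => QuotientGroup.induction_on b
        fun y => QuotientGroup.eq.mpr (Subgroup.mem_subgroupOf.mpr (by
          have := hcomm (Subgroup.commutator_mem_commutator (K.inv_mem y.2) (K.inv_mem x.2))
          simpa [commutatorElement_def, mul_assoc] using this)) }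
  set a := (H₁.relIndex K).factorization p with ha
  let f : ↥K →* ↥K ⧸ H₁.subgroupOf K :=
    (powMonoidHom (p ^ a)).comp (QuotientGroup.mk' (H₁.subgroupOf K))
  set N := f.ker.map K.subtype with hN
  have hmem : ∀ x, x ∈ N ↔ x ∈ K ∧ x ^ (p ^ a) ∈ H₁ := by
    intro x
    constructor
    · rintro ⟨y, hy, rfl⟩
      refine ⟨y.2, ?_⟩
      have hy' : ((y ^ (p ^ a) : ↥K) : ↥K ⧸ H₁.subgroupOf K) = 1 := hy
      simpa [Subgroup.mem_subgroupOf] using (QuotientGroup.eq_one_iff _).mp hy'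
    · rintro ⟨hx, hxp⟩
      refine ⟨⟨x, hx⟩, ?_, rfl⟩
      show ((⟨x, hx⟩ ^ (p ^ a) : ↥K) : ↥K ⧸ H₁.subgroupOf K) = 1
      exact (QuotientGroup.eq_one_iff _).mpr (by simpa [Subgroup.mem_subgroupOf] using hxp)
  refine ⟨N, ⟨fun n hn g => ?_⟩, lt_of_le_of_ne (fun x hx => (hmem x).mpr
    ⟨hle hx, H₁.pow_mem hx _⟩) ?_, lt_of_le_of_ne (fun x hx => ((hmem x).mp hx).1) ?_⟩
  · obtain ⟨h1, h2⟩ := (hmem n).mp hn
    refine (hmem _).mpr ⟨Subgroup.Normal.conj_mem inferInstance n h1 g, ?_⟩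
    rw [conj_pow]
    exact Subgroup.Normal.conj_mem inferInstance _ h2 g
  · intro e
    obtain ⟨c, hc⟩ := exists_prime_orderOf_dvd_card' p
      (show p ∣ Nat.card (↥K ⧸ H₁.subgroupOf K) from hp1)
    obtain ⟨y, rfl⟩ := QuotientGroup.mk_surjective c
    have hy : (y : L) ∈ N := ⟨y, by
      show (y : ↥K ⧸ H₁.subgroupOf K) ^ (p ^ a) = 1
      refine orderOf_dvd_iff_pow_eq_one.mp ?_
      rw [hc]
      refine dvd_pow_self p ?_
      rw [ha]
      exact (hp.factorization_pos_of_dvd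
        (Subgroup.index_ne_zero_of_finite (H := H₁.subgroupOf K)) hp1).ne', rfl⟩
    rw [← e] at hy
    have h1 : (y : ↥K ⧸ H₁.subgroupOf K) = 1 :=
      (QuotientGroup.eq_one_iff y).mpr (Subgroup.mem_subgroupOf.mpr hy)
    rw [h1, orderOf_one] at hc
    exact hp.one_lt.ne hc
  · intro e
    obtain ⟨c, hc⟩ := exists_prime_orderOf_dvd_card' q
      (show q ∣ Nat.card (↥K ⧸ H₁.subgroupOf K) from hq1)
    obtain ⟨y, rfl⟩ := QuotientGroup.mk_surjective c
    have hy := ((hmem y).mp (e.ge y.2)).2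
    have h1 : (y : ↥K ⧸ H₁.subgroupOf K) ^ (p ^ a) = 1 :=
      (QuotientGroup.eq_one_iff (y ^ (p ^ a))).mpr (by simpa [Subgroup.mem_subgroupOf] using hy)
    have h2 := orderOf_dvd_iff_pow_eq_one.mpr h1
    rw [hc] at h2
    exact hqp ((Nat.prime_dvd_prime_iff_eq hq hp).mp (hq.dvd_of_dvd_pow h2))

theorem commutator_le_of_prime (M : Subgroup L) [M.Normal] [(M.subgroupOf K).Normal]
    (hnil : Group.IsNilpotent (↥K ⧸ M.subgroupOf K)) (hMK : M ≤ K)
    (hH₁ : H₁ = ⁅K, K⁆ ⊔ M) (hpr : (H₁.relIndex K).Prime) : ⁅K, K⁆ ≤ M := by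
  by_contra hnot
  have hle : H₁ ≤ K := hH₁ ▸ sup_le (Subgroup.commutator_le_left K K) hMK
  have hlt : M < H₁ := lt_of_le_of_ne (hH₁ ▸ le_sup_right) (fun e => hnot (e.symm ▸ hH₁ ▸ le_sup_left))
  have hB := commutator_sup_lt hnil hlt hle
  set B := ⁅H₁, K⁆ ⊔ M with hBdef
  haveI : (B.subgroupOf K).Normal := inferInstance
  haveI : (H₁.subgroupOf K).Normal := inferInstance
  haveI : IsCyclic (↥K ⧸ H₁.subgroupOf K) := by
    haveI := Fact.mk hpr
    exact isCyclic_of_prime_card (p := H₁.relIndex K) rfl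
  let f : ↥K ⧸ B.subgroupOf K →* ↥K ⧸ H₁.subgroupOf K :=
    QuotientGroup.map _ _ (MonoidHom.id _) (fun x hx => hB.le hx)
  have hker : f.ker ≤ Subgroup.center (↥K ⧸ B.subgroupOf K) := by
    intro c hc
    obtain ⟨x, rfl⟩ := QuotientGroup.mk_surjective c
    have hx : (x : L) ∈ H₁ := (QuotientGroup.eq_one_iff x).mp hc
    rw [Subgroup.mem_center_iff]
    intro d
    obtain ⟨y, rfl⟩ := QuotientGroup.mk_surjective d
    refine QuotientGroup.eq.mpr (Subgroup.mem_subgroupOf.mpr (Subgroup.mem_sup_left ?_))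
    have := Subgroup.commutator_mem_commutator (H₁.inv_mem hx) (K.inv_mem y.2)
    simpa [commutatorElement_def, mul_assoc] using this
  refine hB.not_ge ?_
  rw [hH₁, sup_le_iff]
  refine ⟨Subgroup.commutator_le.mpr fun a ha b hb => ?_, le_sup_right⟩
  have hab := (f.isMulCommutative_of_isCyclic_of_ker_le_center hker).is_comm.comm
    ((⟨a, ha⟩ : ↥K) : ↥K ⧸ B.subgroupOf K) ((⟨b, hb⟩ : ↥K) : ↥K ⧸ B.subgroupOf K)
  have hmem : (⁅(⟨a, ha⟩ : ↥K), ⟨b, hb⟩⁆) ∈ B.subgroupOf K := by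
    rw [← QuotientGroup.eq_one_iff, ← QuotientGroup.mk'_apply, map_commutatorElement,
      commutatorElement_eq_one_iff_mul_comm]
    exact hab
  simpa [Subgroup.mem_subgroupOf, commutatorElement_def] using hmem

theorem coherent_frobenius_quot {L : Type*} [Group L] [Fintype L] {G : Type*} [Group G] [Fintype G]
    (K : Subgroup L) [K.Normal] (hsolv : Group.IsSolvable K) {τ : (L → ℂ) → (G → ℂ)}
    {R : (L → ℂ) → Finset (G → ℂ)}
    (hS : Cfsg.IsCoherenceSystem (Cfsg.inducedIrrAbove K ⊥) τ R) (hodd : Odd (Nat.card L))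
    (M : Subgroup L) [M.Normal] (hMK : M ≤ K) [(M.subgroupOf K).Normal]
    (hnil : Group.IsNilpotent (↥K ⧸ M.subgroupOf K)) (H₁ : Subgroup L) (hH₁ : H₁ = ⁅K, K⁆ ⊔ M)
    (hH₁K : H₁ < K) (hKL : K < ⊤)
    (hfrob : ∀ k ∈ K, k ∉ H₁ → ∀ x : L, x * k * x⁻¹ * k⁻¹ ∈ H₁ → x ∈ K)
    (hgood : (∃ N : Subgroup L, N.Normal ∧ H₁ < N ∧ N < K) ∨
      4 * K.index ^ 2 + 1 < H₁.relIndex K ∨ (¬ ∃ p m : ℕ, p.Prime ∧ M.relIndex K = p ^ m) ∨
      ⁅K, K⁆ ≤ M ∨ (∃ p m : ℕ, p.Prime ∧ M.relIndex K = p ^ m ∧ K.index ∣ p - 1)) :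
    Cfsg.IsCoherent (Cfsg.inducedIrrAbove K M) {1}ᶜ τ := by
  haveI : H₁.Normal := hH₁ ▸ inferInstance
  haveI : Fintype K := Fintype.ofFinite K
  have hcomm : ⁅K, K⁆ ≤ H₁ := hH₁ ▸ le_sup_left
  have hMH₁ : M ≤ H₁ := hH₁ ▸ le_sup_right
  obtain ⟨φ₀, hφ₀, -⟩ := exists_linear_above K hsolv H₁ hH₁K
  have hdeg : ∀ φ ∈ Cfsg.inducedIrrAbove K H₁, φ 1 = (K.index : ℂ) := by
    rintro φ ⟨θ, hθ, -, hker, rfl⟩
    have hle : natDeg θ ^ 2 ≤ (⊤ : Subgroup K).index := sq_natDeg_le hθ ⊤ fun d _ =>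
      norm_eq_of_central hθ fun c => hker _ (hcomm (by
        simpa [commutatorElement_def] using Subgroup.commutator_mem_commutator d.2 c.2))
    rw [Subgroup.index_top] at hle
    have h1 : natDeg θ = 1 := by
      have := natDeg_pos hθ
      nlinarith
    rw [CfsgLib.Induction.indFun_one_apply,
      natDeg_spec (CfsgLib.Characters.isCharacter_of_irr hθ), h1, Nat.cast_one, mul_one]
  have hcoh : Cfsg.IsCoherent (Cfsg.inducedIrrAbove K H₁) {1}ᶜ τ :=
    Cfsg.Agent.S1517.result _ τ R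
      (sys_sub hS (indAbove_subset_bot K H₁) ⟨φ₀, hφ₀⟩ fun φ h => indAbove_conj K H₁ h)
      fun φ h ψ h' => (hdeg φ h).trans (hdeg ψ h').symm
  have hbig : 4 * K.index ^ 2 + 1 < H₁.relIndex K → Cfsg.IsCoherent (Cfsg.inducedIrrAbove K M) {1}ᶜ τ :=
    fun h => coherent_nilpotent_descend K hsolv hS M K le_rfl hnil H₁ hMH₁ hH₁K.le h hcoh
  have habel : ⁅K, K⁆ ≤ M → Cfsg.IsCoherent (Cfsg.inducedIrrAbove K M) {1}ᶜ τ := fun h => by
    have e : H₁ = M := by rw [hH₁, sup_eq_right.mpr h]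
    exact e ▸ hcoh
  have hmid : (∃ N : Subgroup L, N.Normal ∧ H₁ < N ∧ N < K) →
      Cfsg.IsCoherent (Cfsg.inducedIrrAbove K M) {1}ᶜ τ := fun ⟨N, hN, h1, h2⟩ =>
    hbig (big_of_intermediate hH₁K.le hcomm hodd hfrob N h1 h2)
  rcases hgood with h | h | h | h | ⟨p, m, hp, hpm, hdvd⟩
  · exact hmid h
  · exact hbig h
  · exact hmid (exists_intermediate M hMK hnil hH₁ h)
  · exact habel h
  · have hne : H₁.relIndex K ≠ 1 := fun e => hH₁K.not_ge (Subgroup.relIndex_eq_one.mp e)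
    obtain ⟨k, -, hk⟩ := (Nat.dvd_prime_pow hp).mp
      (hpm ▸ Subgroup.relIndex_dvd_of_le_left K hMH₁ : H₁.relIndex K ∣ p ^ m)
    have hpd : p ∣ Nat.card L := by
      refine (dvd_pow_self p ?_).trans ((hk.symm.dvd.trans (Subgroup.relIndex_dvd_card H₁ K)).trans
        (Subgroup.card_subgroup_dvd_card K))
      rintro rfl
      exact hne (by rw [hk, pow_zero])
    rcases Nat.lt_or_ge k 2 with hlt | hge
    · refine habel (commutator_le_of_prime M hnil hMK hH₁ ?_)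
      have : k = 1 := by
        by_contra hk1
        have : k = 0 := by omega
        exact hne (by rw [hk, this, pow_zero])
      rw [hk, this, pow_one]
      exact hp
    · refine hbig ?_
      obtain ⟨a, ha⟩ := hodd.of_dvd_nat hpd
      obtain ⟨b, hb⟩ := hodd.of_dvd_nat (Subgroup.index_dvd_card K)
      have h2 : 2 * b + 1 ∣ a := by
        rw [ha, hb, Nat.add_sub_cancel] at hdvd
        exact (Nat.coprime_two_right.mpr ⟨b, rfl⟩ : Nat.Coprime (2 * b + 1) 2).dvd_of_dvd_mul_left hdvd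
      have := Nat.le_of_dvd (by have := hp.two_le; omega) h2
      rw [hk]
      refine lt_of_lt_of_le ?_ (Nat.pow_le_pow_right hp.pos hge)
      rw [ha, hb]
      nlinarith

end CfsgLib.OddChar
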