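import Cfsg.Agent.Lib.OddChar.IrrExtend
import Cfsg.Agent.Lib.OddChar.CoherenceExtend
import Cfsg.Agent.Lib.Characters.Exceptional

set_option autoImplicit false
set_option linter.style.haveILetI false
set_option linter.unusedSectionVars false

/-! Coherence of sets of irreducible characters built up by degree. -/

namespace CfsgLib.OddChar

open scoped Classical ComplexConjugate
open Finset CfsgLib.Characters

variable {N : Type*} [Group N] [Fintype N] {G : Type*} [Group G] [Fintype G]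
  {S : Set (N → ℂ)} {τ : (N → ℂ) → (G → ℂ)}

/-- irreducible characters with an isometry on the combinations vanishing at one -/
structure IrrSys (S : Set (N → ℂ)) (τ : (N → ℂ) → (G → ℂ)) : Prop where
  irr : ∀ χ ∈ S, Cfsg.IsIrrCharacter N χ
  isometry : Cfsg.IsLinearIsometryOn (Cfsg.zspanOn S {1}ᶜ) τ
  map_one : ∀ α ∈ Cfsg.zspanOn S {1}ᶜ, τ α 1 = 0

theorem IrrSys.mono (h : IrrSys S τ) {T : Set (N → ℂ)} (hT : T ⊆ S) : IrrSys T τ :=
  ⟨fun χ hχ => h.irr χ (hT hχ), isometry_mono h.isometry (zspanOn_mono hT _),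
    fun α hα => h.map_one α (zspanOn_mono hT _ hα)⟩

theorem coherent_add_irr_all (h : IrrSys S τ) (ψ : N → ℂ) (T : Finset (N → ℂ)) :
    ∀ S₀ : Finset (N → ℂ), (↑S₀ : Set (N → ℂ)) ⊆ S →
      Cfsg.IsCoherent (↑S₀ : Set (N → ℂ)) {1}ᶜ τ → ψ ∈ S₀ → (↑T : Set (N → ℂ)) ⊆ S →
      (∀ χ ∈ T, natDeg ψ ∣ natDeg χ ∧ 2 * natDeg ψ * natDeg χ < ∑ ξ ∈ S₀, natDeg ξ ^ 2) →
      Cfsg.IsCoherent (↑(S₀ ∪ T) : Set (N → ℂ)) {1}ᶜ τ := by
  induction T using Finset.induction with
  | empty => intro S₀ _ hc _ _ _; rwa [Finset.union_empty]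
  | @insert χ T hχT ih =>
    intro S₀ hS₀ hc hψ hT hcond
    by_cases hχ : χ ∈ S₀
    · have e : S₀ ∪ insert χ T = S₀ ∪ T := by
        rw [Finset.union_insert, Finset.insert_eq_self.mpr (Finset.mem_union_left _ hχ)]
      rw [e]
      exact ih S₀ hS₀ hc hψ (fun x hx => hT (Finset.mem_insert_of_mem hx))
        fun x hx => hcond x (Finset.mem_insert_of_mem hx)
    have hχS : χ ∈ S := hT (Finset.mem_insert_self _ _)
    have hsub : (↑(insert χ S₀) : Set (N → ℂ)) ⊆ S := by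
      intro x hx
      rcases Finset.mem_insert.mp hx with rfl | hx
      exacts [hχS, hS₀ hx]
    have h' := h.mono hsub
    have hc' : Cfsg.IsCoherent (↑(insert χ S₀) : Set (N → ℂ)) {1}ᶜ τ :=
      coherent_insert_irr S₀ χ (fun x hx => h.irr x (hS₀ hx)) (h.irr χ hχS) hχ natDeg
        (fun x hx => natDeg_spec (isCharacter_of_irr (h.irr x (hsub hx)))) τ h'.isometry h'.map_one
        hc ψ hψ (hcond χ (Finset.mem_insert_self _ _)).1 (hcond χ (Finset.mem_insert_self _ _)).2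
    have e : S₀ ∪ insert χ T = insert χ S₀ ∪ T := by
      rw [Finset.union_insert, Finset.insert_union]
    rw [e]
    refine ih (insert χ S₀) hsub hc' (Finset.mem_insert_of_mem hψ)
      (fun x hx => hT (Finset.mem_insert_of_mem hx)) fun x hx =>
      ⟨(hcond x (Finset.mem_insert_of_mem hx)).1,
        (hcond x (Finset.mem_insert_of_mem hx)).2.trans_le
          (Finset.sum_le_sum_of_subset (Finset.subset_insert _ _))⟩

theorem coherent_equal_irr (h : IrrSys S τ) (T : Finset (N → ℂ)) (hT : (↑T : Set (N → ℂ)) ⊆ S)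
    (h2 : 2 ≤ T.card) (hdeg : ∀ a ∈ T, ∀ b ∈ T, a 1 = b 1) :
    Cfsg.IsCoherent (↑T : Set (N → ℂ)) {1}ᶜ τ := by
  obtain ⟨a, ha, b, hb, hab⟩ := Finset.one_lt_card.mp h2
  have horth : ∀ x ∈ T, ∀ y ∈ T, x ≠ y → Cfsg.classInner x y = 0 := fun x hx y hy e =>
    classInner_irr_ne (h.irr x (hT hx)) (h.irr y (hT hy)) e
  have hone : ∀ x ∈ T, Cfsg.classInner x x = 1 := fun x hx =>
    classInner_irr_self (h.irr x (hT hx))
  have hm : ∀ x ∈ T, ∀ y ∈ T, x - y ∈ Cfsg.zspanOn (↑T : Set (N → ℂ)) {1}ᶜ := fun x hx y hy =>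
    zspanOn_compl_one.mpr ⟨zspan_sub (zspan_of_mem hx) (zspan_of_mem hy),
      by rw [Pi.sub_apply, hdeg x hx y hy, sub_self]⟩
  have hmS : ∀ x ∈ T, ∀ y ∈ T, x - y ∈ Cfsg.zspanOn S {1}ᶜ := fun x hx y hy =>
    zspanOn_mono hT _ (hm x hx y hy)
  obtain ⟨ε, hε, μ, hμ, hμe⟩ := CfsgLib.CharExceptional.exceptional_family
    (⟨a, ha⟩ : {x // x ∈ T}) (fun i => τ (i.1 - a))
    (by rw [sub_self]; exact isometry_zero h.isometry zspanOn_zero)
    (fun i => h.isometry.2.2.2 _ (hmS i.1 i.2 a ha))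
    (fun i => h.map_one _ (hmS i.1 i.2 a ha))
    (fun i hi => by
      have hne : i.1 ≠ a := fun e => hi (Subtype.ext e)
      rw [h.isometry.2.2.1 _ (hmS i.1 i.2 a ha) _ (hmS i.1 i.2 a ha), classInner_sub_left,
        classInner_sub_right, classInner_sub_right, hone _ i.2, hone a ha,
        horth _ i.2 a ha hne, horth a ha _ i.2 hne.symm]
      norm_num)
    (fun i j hi hj hij => by
      have hni : i.1 ≠ a := fun e => hi (Subtype.ext e)
      have hnj : j.1 ≠ a := fun e => hj (Subtype.ext e)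
      have hnij : i.1 ≠ j.1 := fun e => hij (Subtype.ext e)
      rw [h.isometry.2.2.1 _ (hmS i.1 i.2 a ha) _ (hmS j.1 j.2 a ha), classInner_sub_left,
        classInner_sub_right, classInner_sub_right, hone a ha,
        horth _ i.2 a ha hni, horth a ha _ j.2 hnj.symm, horth _ i.2 _ j.2 hnij]
      norm_num)
  obtain ⟨D, hD0, hD⟩ := irr_exists_degree (h.irr a (hT ha))
  let v : (N → ℂ) → (G → ℂ) := fun x => if hx : x ∈ T then ε • (μ ⟨x, hx⟩ : G → ℂ) else 0
  have hv : ∀ x (hx : x ∈ T), v x = ε • (μ ⟨x, hx⟩ : G → ℂ) := fun x hx => dif_pos hx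
  refine coherent_of_images T v horth (fun x hx => by rw [hone x hx]; exact one_ne_zero)
    (fun x hx => ?_) (fun x hx y hy => ?_) (fun _ => (D : ℤ))
    (fun x hx => by rw [hdeg x hx a ha, hD, Int.cast_natCast]) a ha
    (Int.natCast_ne_zero.mpr hD0.ne')
    (isometry_mono h.isometry (zspanOn_mono hT _)) (fun x hx => ?_)
    ⟨a - b, hm a ha b hb, sub_ne_zero.mpr hab⟩
  · rw [hv x hx]
    rcases hε with rfl | rfl
    · rw [one_smul]; exact isGeneralizedCharacter_irr _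
    · rw [neg_one_smul]; exact isGeneralizedCharacter_neg (isGeneralizedCharacter_irr _)
  · rw [hv x hx, hv y hy, classInner_smul_left, classInner_smul_right, classInner_irr]
    have hεε : ε * conj ε = 1 := by rcases hε with rfl | rfl <;> simp
    by_cases e : x = y
    · subst e
      rw [if_pos rfl, hone x hx, mul_one, hεε]
    · rw [if_neg (fun e' => e (congrArg Subtype.val (hμ e'))), horth x hx y hy e, mul_zero, mul_zero]
  · have e := hμe ⟨x, hx⟩
    dsimp only at e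
    rw [← smul_sub, ← smul_sub, h.isometry.2.1 _ (hmS x hx a ha), e, hv x hx, hv a ha, smul_sub]

/-- degrees `e p ^ a` with the divisibility property: coherence -/
theorem coherent_ppow (h : IrrSys S τ) (X : Finset (N → ℂ)) (hX : (↑X : Set (N → ℂ)) ⊆ S)
    (h2 : 2 ≤ X.card) {p e : ℕ} (hp : p.Prime) (hp3 : 3 ≤ p) (he : ¬ p ∣ e) (a : (N → ℂ) → ℕ)
    (hdeg : ∀ χ ∈ X, natDeg χ = e * p ^ a χ)
    (hdvd : ∀ χ ∈ X, p ^ (2 * a χ) ∣ e * ∑ ξ ∈ X, (p ^ a ξ) ^ 2) :
    Cfsg.IsCoherent (↑X : Set (N → ℂ)) {1}ᶜ τ := by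
  have he0 : 0 < e := Nat.pos_of_ne_zero fun h0 => he (h0 ▸ dvd_zero p)
  have hlow : ∀ χ ∈ X, p ^ (2 * a χ) ∣ ∑ ξ ∈ X.filter (fun ξ => a ξ < a χ), (p ^ a ξ) ^ 2 := by
    intro χ hχ
    have hhigh : p ^ (2 * a χ) ∣ e * ∑ ξ ∈ X.filter (fun ξ => ¬ a ξ < a χ), (p ^ a ξ) ^ 2 := by
      refine Dvd.dvd.mul_left (Finset.dvd_sum fun ξ hξ => ?_) e
      rw [← pow_mul, mul_comm 2]
      exact pow_dvd_pow p (Nat.mul_le_mul_right 2 (not_lt.mp (mem_filter.mp hξ).2))
    have hd := hdvd χ hχ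
    rw [← Finset.sum_filter_add_sum_filter_not X (fun ξ => a ξ < a χ), mul_add,
      ← Nat.dvd_add_iff_left hhigh] at hd
    exact ((hp.coprime_iff_not_dvd.mpr he).pow_left _).dvd_of_dvd_mul_left hd
  obtain ⟨ψ, hψ, hmin⟩ := Finset.exists_min_image X a (Finset.card_pos.mp (by omega))
  have hmin2 : 2 ≤ (X.filter (fun ξ => a ξ = a ψ)).card := by
    by_contra hlt
    have h1 : X.filter (fun ξ => a ξ = a ψ) = {ψ} := by
      refine Finset.eq_singleton_iff_unique_mem.mpr ⟨mem_filter.mpr ⟨hψ, rfl⟩, fun x hx => ?_⟩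
      by_contra hne
      exact hlt (Finset.one_lt_card.mpr ⟨x, hx, ψ, mem_filter.mpr ⟨hψ, rfl⟩, hne⟩)
    obtain ⟨χ, hχ, hne⟩ := Finset.exists_mem_ne h2 ψ
    obtain ⟨χ', hχ', hmin'⟩ := Finset.exists_min_image (X.erase ψ) a ⟨χ, Finset.mem_erase.mpr ⟨hne, hχ⟩⟩
    have hlt' : a ψ < a χ' := lt_of_le_of_ne (hmin χ' (Finset.mem_of_mem_erase hχ')) fun e' =>
      Finset.ne_of_mem_erase hχ'
        (mem_singleton.mp (h1 ▸ mem_filter.mpr ⟨Finset.mem_of_mem_erase hχ', e'.symm⟩))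
    have hs : X.filter (fun ξ => a ξ < a χ') = {ψ} := by
      refine Finset.eq_singleton_iff_unique_mem.mpr ⟨mem_filter.mpr ⟨hψ, hlt'⟩, fun x hx => ?_⟩
      by_contra hne'
      exact (mem_filter.mp hx).2.not_ge (hmin' x (Finset.mem_erase.mpr ⟨hne', (mem_filter.mp hx).1⟩))
    have := hlow χ' (Finset.mem_of_mem_erase hχ')
    rw [hs, Finset.sum_singleton, ← pow_mul] at this
    have := (Nat.pow_dvd_pow_iff_le_right hp.one_lt).mp this
    omega
  have hcoh : ∀ k, Cfsg.IsCoherent (↑(X.filter (fun ξ => a ξ ≤ a ψ + k)) : Set (N → ℂ)) {1}ᶜ τ := by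
    intro k
    induction k with
    | zero =>
      have e0 : X.filter (fun ξ => a ξ ≤ a ψ + 0) = X.filter (fun ξ => a ξ = a ψ) :=
        Finset.filter_congr fun x hx => ⟨fun hle => le_antisymm (by omega) (hmin x hx),
          fun e' => by omega⟩
      rw [e0]
      refine coherent_equal_irr h _ (fun x hx => hX (mem_filter.mp hx).1) hmin2 fun x hx y hy => ?_
      rw [natDeg_spec (isCharacter_of_irr (h.irr x (hX (mem_filter.mp hx).1))),
        natDeg_spec (isCharacter_of_irr (h.irr y (hX (mem_filter.mp hy).1))),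
        hdeg x (mem_filter.mp hx).1, hdeg y (mem_filter.mp hy).1, (mem_filter.mp hx).2,
        (mem_filter.mp hy).2]
    | succ k ih =>
      have hU : X.filter (fun ξ => a ξ ≤ a ψ + (k + 1)) = X.filter (fun ξ => a ξ ≤ a ψ + k) ∪
          X.filter (fun ξ => a ξ = a ψ + (k + 1)) := by
        ext x
        simp only [mem_filter, mem_union]
        by_cases hx : x ∈ X <;> simp [hx]
        omega
      rw [hU]
      refine coherent_add_irr_all h ψ _ _ (fun x hx => hX (mem_filter.mp hx).1) ih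
        (mem_filter.mpr ⟨hψ, Nat.le_add_right _ _⟩) (fun x hx => hX (mem_filter.mp hx).1)
        fun χ hχ => ?_
      obtain ⟨hχX, hk⟩ := mem_filter.mp hχ
      rw [hdeg χ hχX, hdeg ψ hψ]
      refine ⟨Nat.mul_dvd_mul_left e (pow_dvd_pow p (hmin χ hχX)), ?_⟩
      have hset : X.filter (fun ξ => a ξ ≤ a ψ + k) = X.filter (fun ξ => a ξ < a χ) :=
        Finset.filter_congr fun x _ => by rw [hk]; omega
      rw [hset]
      have hsum : ∑ ξ ∈ X.filter (fun ξ => a ξ < a χ), natDeg ξ ^ 2 =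
          e ^ 2 * ∑ ξ ∈ X.filter (fun ξ => a ξ < a χ), (p ^ a ξ) ^ 2 := by
        rw [Finset.mul_sum]
        exact Finset.sum_congr rfl fun x hx => by rw [hdeg x (mem_filter.mp hx).1, mul_pow]
      rw [hsum]
      have hpos : 0 < ∑ ξ ∈ X.filter (fun ξ => a ξ < a χ), (p ^ a ξ) ^ 2 :=
        lt_of_lt_of_le (by have := hp.pos; positivity)
          (Finset.single_le_sum (f := fun ξ => (p ^ a ξ) ^ 2) (fun _ _ => Nat.zero_le _)
            (mem_filter.mpr ⟨hψ, by omega⟩ : ψ ∈ _))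
      refine lt_of_lt_of_le ?_ (Nat.mul_le_mul_left _ (Nat.le_of_dvd hpos (hlow χ hχX)))
      have h3 : 2 * p ^ a ψ < p ^ a χ := by
        have h5 : p ^ a ψ * p ≤ p ^ a χ := by
          rw [← pow_succ]; exact Nat.pow_le_pow_right hp.pos (by omega)
        have h6 : 0 < p ^ a ψ := pow_pos hp.pos _
        nlinarith
      calc 2 * (e * p ^ a ψ) * (e * p ^ a χ) = e ^ 2 * p ^ a χ * (2 * p ^ a ψ) := by ring
        _ < e ^ 2 * p ^ a χ * p ^ a χ :=
          Nat.mul_lt_mul_of_pos_left h3 (Nat.mul_pos (pow_pos he0 2) (pow_pos hp.pos _))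
        _ = _ := by ring
  have hfin : X.filter (fun ξ => a ξ ≤ a ψ + X.sup a) = X :=
    Finset.filter_true_of_mem fun x hx => le_trans (Finset.le_sup hx) (Nat.le_add_left _ _)
  simpa [hfin] using hcoh (X.sup a)

end CfsgLib.OddChar
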