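import Mathlib

set_option autoImplicit false

/-! Grids of triples of signed literals in which collinear triples meet exactly once and other
triples meet evenly: they consist of a row part, a column part and a cell part. -/

namespace CfsgLib.OddChar

variable {α : Type*} [DecidableEq α] [InvolutiveNeg α]

/-- exactly one common literal and no opposite ones -/
def Meet (A B : Finset α) : Prop :=
  (∃ x, x ∈ A ∧ x ∈ B ∧ ∀ y ∈ A, y ∈ B → y = x) ∧ ∀ y ∈ A, -y ∉ B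

/-- common literals occur exactly when opposite ones do -/
def Bal (A B : Finset α) : Prop :=
  ((∃ x ∈ A, x ∈ B) → ∃ y ∈ A, -y ∈ B) ∧ ((∃ y ∈ A, -y ∈ B) → ∃ x ∈ A, x ∈ B)

theorem Meet.symm {A B : Finset α} (h : Meet A B) : Meet B A := by
  obtain ⟨⟨x, hx, hx', hu⟩, hn⟩ := h
  exact ⟨⟨x, hx', hx, fun y h1 h2 => hu y h2 h1⟩,
    fun y h1 h2 => hn (-y) h2 (by rwa [neg_neg])⟩

theorem Bal.symm {A B : Finset α} (h : Bal A B) : Bal B A := by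
  constructor
  · rintro ⟨x, h1, h2⟩
    obtain ⟨y, h3, h4⟩ := h.1 ⟨x, h2, h1⟩
    exact ⟨-y, h4, by rwa [neg_neg]⟩
  · rintro ⟨y, h1, h2⟩
    obtain ⟨x, h3, h4⟩ := h.2 ⟨-y, h2, by rwa [neg_neg]⟩
    exact ⟨x, h4, h3⟩

theorem Meet.eq_of_mem {A B : Finset α} (h : Meet A B) {x y : α} (hx : x ∈ A) (hx' : x ∈ B)
    (hy : y ∈ A) (hy' : y ∈ B) : x = y := by
  obtain ⟨⟨z, -, -, hu⟩, -⟩ := h
  rw [hu x hx hx', hu y hy hy']

/-- a triple with no two opposite members -/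
def Triple (A : Finset α) : Prop := A.card = 3 ∧ ∀ y ∈ A, -y ∉ A

theorem Triple.mem3 {A : Finset α} (hA : Triple A) {a b c x : α} (ha : a ∈ A) (hb : b ∈ A)
    (hc : c ∈ A) (hab : a ≠ b) (hac : a ≠ c) (hbc : b ≠ c) (hx : x ∈ A) :
    x = a ∨ x = b ∨ x = c := by
  have hsub : ({a, b, c} : Finset α) ⊆ A := by
    intro y hy
    simp only [Finset.mem_insert, Finset.mem_singleton] at hy
    rcases hy with rfl | rfl | rfl <;> assumption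
  have hcard : ({a, b, c} : Finset α).card = 3 :=
    Finset.card_eq_three.mpr ⟨a, b, c, hab, hac, hbc, rfl⟩
  have := Finset.eq_of_subset_of_card_le hsub (by rw [hcard, hA.1])
  rw [← this] at hx
  simpa using hx

theorem Triple.no_fourth {A : Finset α} (hA : Triple A) {a b c d : α} (ha : a ∈ A) (hb : b ∈ A)
    (hc : c ∈ A) (hd : d ∈ A) (hab : a ≠ b) (hac : a ≠ c) (had : a ≠ d) (hbc : b ≠ c)
    (hbd : b ≠ d) (hcd : c ≠ d) : False := by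
  rcases hA.mem3 ha hb hc hab hac hbc hd with e | e | e
  exacts [had e.symm, hbd e.symm, hcd e.symm]

theorem Triple.third {A : Finset α} (hA : Triple A) {a b : α} (ha : a ∈ A) (hb : b ∈ A)
    (hab : a ≠ b) :
    ∃ c ∈ A, c ≠ a ∧ c ≠ b ∧ ∀ x ∈ A, x = a ∨ x = b ∨ x = c := by
  obtain ⟨c, hc, hca, hcb⟩ : ∃ c ∈ A, c ≠ a ∧ c ≠ b := by
    by_contra h
    push Not at h
    have : A ⊆ ({a, b} : Finset α) := fun x hx => by
      by_cases e : x = a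
      · simp [e]
      · simp [h x hx e]
    have := (Finset.card_le_card this).trans Finset.card_le_two
    have := hA.1
    omega
  exact ⟨c, hc, hca, hcb, fun x hx => hA.mem3 ha hb hc hab hca.symm hcb.symm hx⟩

/-- no second row over a row without triple points, first orientation -/
theorem quad_aux {T₁ T₂ T₃ T₄ U : Finset α} (hU : Triple U) (t₃ : Triple T₃)
    (h12 : Meet T₁ T₂) (h13 : Meet T₁ T₃) (h14 : Meet T₁ T₄) (h23 : Meet T₂ T₃)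
    (h34 : Meet T₃ T₄)
    (hno123 : ∀ s ∈ T₁, s ∈ T₂ → s ∉ T₃) (hno134 : ∀ s ∈ T₁, s ∈ T₃ → s ∉ T₄)
    (hno234 : ∀ s ∈ T₂, s ∈ T₃ → s ∉ T₄)
    (hU1 : Meet U T₁) (b3 : Bal U T₃) (b4 : Bal U T₄)
    {x : α} (hxU : x ∈ U) (hx1 : x ∈ T₁) (hx2 : x ∈ T₂)
    {q : α} (hq2 : q ∈ T₂) (hq3 : q ∈ T₃) (hqU : -q ∈ U) : False := by
  obtain ⟨⟨w, hw1, hw3, -⟩, -⟩ := id h13
  obtain ⟨⟨p, hp3, hp4, -⟩, -⟩ := id h34
  have hwq : w ≠ q := fun e => hno123 w hw1 (e ▸ hq2) hw3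
  have hwp : w ≠ p := fun e => hno134 w hw1 hw3 (e ▸ hp4)
  have hqp : q ≠ p := fun e => hno234 q hq2 hq3 (e ▸ hp4)
  obtain ⟨u, huU, hu3⟩ := b3.2 ⟨-q, hqU, by rwa [neg_neg]⟩
  rcases t₃.mem3 hw3 hq3 hp3 hwq hwp hqp hu3 with rfl | rfl | rfl
  · exact hno123 x hx1 hx2 ((hU1.eq_of_mem hxU hx1 huU hw1) ▸ hu3)
  · exact hU.2 u huU hqU
  · have hxu : x ≠ u := fun e => hno123 x hx1 hx2 (e ▸ hu3)
    have hxq : x ≠ -q := fun e => h12.2 x hx1 (by rw [e, neg_neg]; exact hq2)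
    have huq : u ≠ -q := fun e => h23.2 q hq2 (e ▸ hu3)
    obtain ⟨v, hvU, hv4⟩ := b4.1 ⟨u, huU, hp4⟩
    rcases hU.mem3 hxU huU hqU hxu hxq huq hvU with rfl | rfl | rfl
    · exact h14.2 v hx1 hv4
    · exact h34.2 v hu3 hv4
    · rw [neg_neg] at hv4
      exact hno234 q hq2 hq3 hv4

/-- no second row over a row without triple points -/
theorem quad_false {T₁ T₂ T₃ T₄ U : Finset α} (hU : Triple U) (t₂ : Triple T₂) (t₃ : Triple T₃)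
    (t₄ : Triple T₄) (h12 : Meet T₁ T₂) (h13 : Meet T₁ T₃) (h14 : Meet T₁ T₄) (h23 : Meet T₂ T₃)
    (h24 : Meet T₂ T₄) (h34 : Meet T₃ T₄)
    (hno123 : ∀ s ∈ T₁, s ∈ T₂ → s ∉ T₃) (hno124 : ∀ s ∈ T₁, s ∈ T₂ → s ∉ T₄)
    (hno134 : ∀ s ∈ T₁, s ∈ T₃ → s ∉ T₄) (hno234 : ∀ s ∈ T₂, s ∈ T₃ → s ∉ T₄)
    (hU1 : Meet U T₁) (b2 : Bal U T₂) (b3 : Bal U T₃) (b4 : Bal U T₄)
    {x : α} (hxU : x ∈ U) (hx1 : x ∈ T₁) (hx2 : x ∈ T₂) : False := by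
  obtain ⟨⟨q, hq2, hq3, -⟩, -⟩ := id h23
  obtain ⟨⟨r, hr2, hr4, -⟩, -⟩ := id h24
  have hxq : x ≠ q := fun e => hno123 x hx1 hx2 (e ▸ hq3)
  have hxr : x ≠ r := fun e => hno124 x hx1 hx2 (e ▸ hr4)
  have hqr : q ≠ r := fun e => hno234 q hq2 hq3 (e ▸ hr4)
  obtain ⟨y, hyU, hy2⟩ := b2.1 ⟨x, hxU, hx2⟩
  rcases t₂.mem3 hx2 hq2 hr2 hxq hxr hqr hy2 with e | e | e
  · exact hU.2 y hyU (e ▸ hxU)
  · exact quad_aux hU t₃ h12 h13 h14 h23 h34 hno123 hno134 hno234 hU1 b3 b4 hxU hx1 hx2 hq2 hq3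
      (by rw [← e, neg_neg]; exact hyU)
  · exact quad_aux hU t₄ h12 h14 h13 h24 h34.symm hno124 (fun s a b c => hno134 s a c b)
      (fun s a b c => hno234 s a c b) hU1 b4 b3 hxU hx1 hx2 hr2 hr4
      (by rw [← e, neg_neg]; exact hyU)

/-- a line through the centre `a` of a star -/
structure Leg (T T₄ : Finset α) (a b c : α) : Prop where
  triple : Triple T
  ma : a ∈ T
  mb : b ∈ T
  mc : c ∈ T
  cases3 : ∀ x ∈ T, x = a ∨ x = b ∨ x = c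
  mb₄ : b ∈ T₄
  na : a ∉ T₄
  nc : c ∉ T₄
  ab : a ≠ b
  ac : a ≠ c
  bc : b ≠ c
  meet₄ : Meet T T₄

/-- three lines through `a` and a transversal -/
structure Star (Ti Tj Tk T₄ : Finset α) (a bi bj bk ci cj ck : α) : Prop where
  li : Leg Ti T₄ a bi ci
  lj : Leg Tj T₄ a bj cj
  lk : Leg Tk T₄ a bk ck
  mij : Meet Ti Tj
  mik : Meet Ti Tk
  mjk : Meet Tj Tk
  t4 : Triple T₄
  bij : bi ≠ bj
  bik : bi ≠ bk
  bjk : bj ≠ bk

theorem Star.swap {Ti Tj Tk T₄ : Finset α} {a bi bj bk ci cj ck : α}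
    (s : Star Ti Tj Tk T₄ a bi bj bk ci cj ck) : Star Ti Tk Tj T₄ a bi bk bj ci ck cj :=
  ⟨s.li, s.lk, s.lj, s.mik, s.mij, s.mjk.symm, s.t4, s.bik, s.bij, s.bjk.symm⟩

theorem Star.rotate {Ti Tj Tk T₄ : Finset α} {a bi bj bk ci cj ck : α}
    (s : Star Ti Tj Tk T₄ a bi bj bk ci cj ck) : Star Tk Ti Tj T₄ a bk bi bj ck ci cj :=
  ⟨s.lk, s.li, s.lj, s.mik.symm, s.mjk.symm, s.mij, s.t4, s.bik.symm, s.bjk.symm, s.bij⟩

theorem Star.sep {Ti Tj Tk T₄ : Finset α} {a bi bj bk ci cj ck : α}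
    (s : Star Ti Tj Tk T₄ a bi bj bk ci cj ck) : bi ∉ Tj ∧ ci ∉ Tj ∧ -bi ∉ Tj ∧ -ci ∉ Tj :=
  ⟨fun h => s.li.ab (s.mij.eq_of_mem s.li.ma s.lj.ma s.li.mb h),
    fun h => s.li.ac (s.mij.eq_of_mem s.li.ma s.lj.ma s.li.mc h),
    fun h => s.mij.2 bi s.li.mb h, fun h => s.mij.2 ci s.li.mc h⟩

theorem Star.t4_cases {Ti Tj Tk T₄ : Finset α} {a bi bj bk ci cj ck : α}
    (s : Star Ti Tj Tk T₄ a bi bj bk ci cj ck) {x : α} (hx : x ∈ T₄) :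
    x = bi ∨ x = bj ∨ x = bk :=
  s.t4.mem3 s.li.mb₄ s.lj.mb₄ s.lk.mb₄ s.bij s.bik s.bjk hx

/-- the cell over the transversal avoids the other two lines -/
theorem cell4 {Ti Tj Tk T₄ U : Finset α} {a bi bj bk ci cj ck : α}
    (s : Star Ti Tj Tk T₄ a bi bj bk ci cj ck) (hU : Triple U) (h4 : Meet U T₄)
    (bbi : Bal U Ti) (bbj : Bal U Tj) (bbk : Bal U Tk) (hb : bi ∈ U) :
    -ci ∈ U ∧ ∀ e ∈ U, e ∉ Tj ∧ -e ∉ Tj := by
  obtain ⟨y, hyU, hyT⟩ := bbi.1 ⟨bi, hb, s.li.mb⟩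
  have hci : -ci ∈ U := by
    rcases s.li.cases3 _ hyT with e | e | e
    · exfalso
      have hy : y = -a := by rw [← e, neg_neg]
      obtain ⟨uj, huj, hujT⟩ := bbj.2 ⟨y, hyU, by rw [e]; exact s.lj.ma⟩
      obtain ⟨uk, huk, hukT⟩ := bbk.2 ⟨y, hyU, by rw [e]; exact s.lk.ma⟩
      have hj : uj = cj := by
        rcases s.lj.cases3 uj hujT with r | r | r
        · exact absurd (by rw [e, ← r]; exact huj) (hU.2 y hyU)
        · exact absurd (h4.eq_of_mem hb s.li.mb₄ huj (r ▸ s.lj.mb₄)) (fun q => s.bij (q.trans r))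
        · exact r
      have hk : uk = ck := by
        rcases s.lk.cases3 uk hukT with r | r | r
        · exact absurd (by rw [e, ← r]; exact huk) (hU.2 y hyU)
        · exact absurd (h4.eq_of_mem hb s.li.mb₄ huk (r ▸ s.lk.mb₄)) (fun q => s.bik (q.trans r))
        · exact r
      refine hU.no_fourth hb hyU huj huk ?_ ?_ ?_ ?_ ?_ ?_
      · exact fun q => s.li.meet₄.2 a s.li.ma (by rw [← hy, ← q]; exact s.li.mb₄)
      · exact fun q => s.sep.1 (q ▸ hujT)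
      · exact fun q => s.swap.sep.1 (q ▸ hukT)
      · exact fun q => s.lj.triple.2 a s.lj.ma (by rw [← hy, q]; exact hujT)
      · exact fun q => s.lk.triple.2 a s.lk.ma (by rw [← hy, q]; exact hukT)
      · exact fun q => s.lj.ac (s.mjk.eq_of_mem s.lj.ma s.lk.ma s.lj.mc (hj ▸ q ▸ hukT))
    · exact absurd (by rw [e]; exact hb) (hU.2 y hyU)
    · rw [← e, neg_neg]; exact hyU
  refine ⟨hci, ?_⟩
  obtain ⟨z, hz, hzb, hzc, hcases⟩ := hU.third hb hci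
    (fun q => s.li.triple.2 ci s.li.mc (q ▸ s.li.mb))
  obtain ⟨nb, nc, nnb, nnc⟩ := s.sep
  intro e he
  constructor
  · intro hT
    obtain ⟨v, hv, hvT⟩ := bbj.1 ⟨e, he, hT⟩
    rcases hcases v hv with rfl | rfl | rfl
    · exact nnb hvT
    · rw [neg_neg] at hvT; exact nc hvT
    · rcases hcases e he with rfl | rfl | rfl
      · exact nb hT
      · exact nnc hT
      · exact s.lj.triple.2 _ hT hvT
  · intro hT
    obtain ⟨v, hv, hvT⟩ := bbj.2 ⟨e, he, hT⟩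
    rcases hcases v hv with rfl | rfl | rfl
    · exact nb hvT
    · exact nnc hvT
    · rcases hcases e he with rfl | rfl | rfl
      · exact nnb hT
      · rw [neg_neg] at hT; exact nc hT
      · exact s.lj.triple.2 _ hvT hT

/-- a cell through the centre -/
theorem cell_centre {Ti Tj Tk T₄ U : Finset α} {a bi bj bk ci cj ck : α}
    (s : Star Ti Tj Tk T₄ a bi bj bk ci cj ck) (hU : Triple U) (hi : Meet U Ti)
    (bbj : Bal U Tj) (bbk : Bal U Tk) (bb4 : Bal U T₄) (ha : a ∈ U) :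
    -cj ∈ U ∧ -ck ∈ U ∧ -cj ≠ -ck ∧ a ≠ -cj ∧ a ≠ -ck := by
  have main : ∀ {Tj Tk : Finset α} {bj bk cj ck : α}, Star Ti Tj Tk T₄ a bi bj bk ci cj ck →
      Bal U Tj → Bal U Tk → -cj ∈ U := by
    intro Tj Tk bj bk cj ck s bbj bbk
    obtain ⟨y, hyU, hyT⟩ := bbj.1 ⟨a, ha, s.lj.ma⟩
    rcases s.lj.cases3 _ hyT with e | e | e
    · exact absurd (by rw [e]; exact ha) (hU.2 y hyU)
    · exfalso
      have hy : y = -bj := by rw [← e, neg_neg]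
      obtain ⟨u, hu, huT⟩ := bb4.2 ⟨y, hyU, by rw [e]; exact s.lj.mb₄⟩
      rcases s.t4_cases huT with r | r | r
      · exact s.li.ab (hi.eq_of_mem ha s.li.ma hu (r ▸ s.li.mb) |>.trans r)
      · exact hU.2 y hyU (by rw [e, ← r]; exact hu)
      · subst r
        obtain ⟨v, hv, hvT⟩ := bbk.1 ⟨a, ha, s.lk.ma⟩
        have h1 : a ≠ y := fun q => s.lj.triple.2 bj s.lj.mb (by rw [← hy, ← q]; exact s.lj.ma)
        have h2 : a ≠ u := s.lk.ab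
        have h3 : y ≠ u := fun q => s.mjk.2 bj s.lj.mb (by rw [← hy, q]; exact s.lk.mb)
        rcases hU.mem3 ha hyU hu h1 h2 h3 hv with rfl | rfl | rfl
        · exact s.lk.triple.2 _ s.lk.ma hvT
        · rw [e] at hvT
          exact s.lj.ab (s.mjk.eq_of_mem s.lj.ma s.lk.ma s.lj.mb hvT)
        · exact s.lk.triple.2 _ s.lk.mb hvT
    · rw [← e, neg_neg]; exact hyU
  refine ⟨main s bbj bbk, main s.swap bbk bbj, ?_, ?_, ?_⟩
  · exact fun q => s.lj.ac (s.mjk.eq_of_mem s.lj.ma s.lk.ma s.lj.mc ((neg_inj.mp q) ▸ s.lk.mc))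
  · exact fun q => s.lj.triple.2 cj s.lj.mc (q ▸ s.lj.ma)
  · exact fun q => s.lk.triple.2 ck s.lk.mc (q ▸ s.lk.ma)

/-- a cell through the transversal point of its line -/
theorem cell_b {Ti Tj Tk T₄ U : Finset α} {a bi bj bk ci cj ck : α}
    (s : Star Ti Tj Tk T₄ a bi bj bk ci cj ck) (hU : Triple U) (hi : Meet U Ti)
    (bbj : Bal U Tj) (bbk : Bal U Tk) (bb4 : Bal U T₄) (hb : bi ∈ U) :
    (-bj ∈ U ∧ cj ∈ U) ∨ (-bk ∈ U ∧ ck ∈ U) := by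
  have main : ∀ {Tj Tk : Finset α} {bj bk cj ck : α}, Star Ti Tj Tk T₄ a bi bj bk ci cj ck →
      Bal U Tj → -bj ∈ U → cj ∈ U := by
    intro Tj Tk bj bk cj ck s bbj hn
    obtain ⟨u, hu, huT⟩ := bbj.2 ⟨-bj, hn, by rw [neg_neg]; exact s.lj.mb⟩
    rcases s.lj.cases3 u huT with r | r | r
    · exact absurd (hi.eq_of_mem hb s.li.mb hu (r ▸ s.li.ma)) (fun q => s.li.ab (q.trans r).symm)
    · exact absurd hn (hU.2 bj (r ▸ hu))
    · exact r ▸ hu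
  obtain ⟨y, hyU, hyT⟩ := bb4.1 ⟨bi, hb, s.li.mb₄⟩
  rcases s.t4_cases hyT with e | e | e
  · exact absurd (by rw [e]; exact hb) (hU.2 y hyU)
  · have hn : -bj ∈ U := by rw [← e, neg_neg]; exact hyU
    exact Or.inl ⟨hn, main s bbj hn⟩
  · have hn : -bk ∈ U := by rw [← e, neg_neg]; exact hyU
    exact Or.inr ⟨hn, main s.swap bbk hn⟩

/-- the third cell cannot exist -/
theorem cell_last {T₁ T₂ T₃ T₄ U₁ U₃ : Finset α} {a b₁ b₂ b₃ c₁ c₂ c₃ : α}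
    (s : Star T₁ T₂ T₃ T₄ a b₁ b₂ b₃ c₁ c₂ c₃) (hU₁ : Triple U₁) (hU₃ : Triple U₃)
    (h13 : Meet U₁ U₃) (h33 : Meet U₃ T₃) (q1 : Bal U₃ T₁) (q2 : Bal U₃ T₂) (q4 : Bal U₃ T₄)
    (hb : b₁ ∈ U₁) (hn : -b₂ ∈ U₁) (hc : c₂ ∈ U₁) : False := by
  have d1 : b₁ ≠ -b₂ := fun q => s.t4.2 b₂ s.lj.mb₄ (q ▸ s.li.mb₄)
  have d2 : b₁ ≠ c₂ := fun q => s.lj.nc (q ▸ s.li.mb₄)
  have d3 : -b₂ ≠ c₂ := fun q => s.lj.triple.2 b₂ s.lj.mb (q ▸ s.lj.mc)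
  obtain ⟨⟨x, hxU, hxT, -⟩, -⟩ := id h33
  rcases s.lk.cases3 x hxT with rfl | rfl | rfl
  · obtain ⟨-, h, -, -, -⟩ := cell_centre s.rotate hU₃ h33 q1 q2 q4 hxU
    exact h13.2 c₂ hc h
  · rcases cell_b s.rotate hU₃ h33 q1 q2 q4 hxU with ⟨h, -⟩ | ⟨h, h'⟩
    · exact h13.2 b₁ hb h
    · exact d3 (h13.eq_of_mem hn h hc h')
  · obtain ⟨⟨e, he1, he3, -⟩, -⟩ := id h13
    rcases hU₁.mem3 hb hn hc d1 d2 d3 he1 with rfl | rfl | rfl
    · obtain ⟨v, hv, hvT⟩ := q1.1 ⟨e, he3, s.li.mb⟩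
      obtain ⟨v', hv', hvT'⟩ := q4.1 ⟨e, he3, s.li.mb₄⟩
      have hxe : x ≠ e := fun q => s.lk.nc (q ▸ s.li.mb₄)
      obtain ⟨z, hz, hzx, hze, hcases⟩ := hU₃.third hxU he3 hxe
      have hvz : v = z := by
        rcases hcases v hv with rfl | rfl | rfl
        · exact absurd hvT (fun q => s.mik.symm.2 v s.lk.mc q)
        · exact absurd hvT (fun q => s.li.triple.2 v s.li.mb q)
        · rfl
      have hvz' : v' = z := by
        rcases hcases v' hv' with rfl | rfl | rfl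
        · exact absurd hvT' (fun q => s.lk.meet₄.2 v' s.lk.mc q)
        · exact absurd hvT' (fun q => s.t4.2 v' s.li.mb₄ q)
        · rfl
      rcases s.t4_cases hvT' with r | r | r
      · exact hU₃.2 v' hv' (r ▸ he3)
      · exact s.sep.1 (by
          have : b₂ ∈ T₁ := by rw [← r, hvz', ← hvz]; exact hvT
          exact absurd (s.mij.eq_of_mem s.li.ma s.lj.ma this s.lj.mb) s.lj.ab)
      · have : b₃ ∈ T₁ := by rw [← r, hvz', ← hvz]; exact hvT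
        exact s.lk.ab (s.mik.eq_of_mem s.li.ma s.lk.ma this s.lk.mb)
    · obtain ⟨u, hu, huT⟩ := q2.2 ⟨-b₂, he3, by rw [neg_neg]; exact s.lj.mb⟩
      rcases s.lj.cases3 u huT with r | r | r
      · exact s.lk.ac (h33.eq_of_mem hu (r ▸ s.lk.ma) hxU s.lk.mc |> r.symm.trans)
      · exact hU₃.2 u hu (r ▸ he3)
      · exact d3 (h13.eq_of_mem hn he3 hc (r ▸ hu))
    · obtain ⟨v, hv, hvT⟩ := q2.1 ⟨e, he3, s.lj.mc⟩
      rcases s.lj.cases3 _ hvT with r | r | r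
      · exact h33.2 v hv (r ▸ s.lk.ma)
      · exact d3 (h13.eq_of_mem hn (by rw [← r, neg_neg]; exact hv) hc he3)
      · exact hU₃.2 v hv (by rw [r]; exact he3)

theorem star_false {T₁ T₂ T₃ T₄ U₁ U₂ U₃ U₄ : Finset α} {a b₁ b₂ b₃ c₁ c₂ c₃ : α}
    (s : Star T₁ T₂ T₃ T₄ a b₁ b₂ b₃ c₁ c₂ c₃)
    (u₁ : Triple U₁) (u₂ : Triple U₂) (u₃ : Triple U₃) (u₄ : Triple U₄)
    (h12 : Meet U₁ U₂) (h13 : Meet U₁ U₃) (h14 : Meet U₁ U₄)
    (c11 : Meet U₁ T₁) (c22 : Meet U₂ T₂) (c33 : Meet U₃ T₃) (c44 : Meet U₄ T₄)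
    (o12 : Bal U₁ T₂) (o13 : Bal U₁ T₃) (o14 : Bal U₁ T₄)
    (o21 : Bal U₂ T₁) (o23 : Bal U₂ T₃) (o24 : Bal U₂ T₄)
    (o31 : Bal U₃ T₁) (o32 : Bal U₃ T₂) (o34 : Bal U₃ T₄)
    (o41 : Bal U₄ T₁) (o42 : Bal U₄ T₂) (o43 : Bal U₄ T₃) (hb : b₁ ∈ U₄) : False := by
  obtain ⟨hc1, hd2⟩ := cell4 s u₄ c44 o41 o42 o43 hb
  obtain ⟨-, hd3⟩ := cell4 s.swap u₄ c44 o41 o43 o42 hb
  obtain ⟨⟨x, hxU, hxT, -⟩, -⟩ := id c11
  rcases s.li.cases3 x hxT with rfl | rfl | rfl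
  · obtain ⟨h2, h3, d1, d2, d3⟩ := cell_centre s u₁ c11 o12 o13 o14 hxU
    obtain ⟨⟨e, he1, he4, -⟩, -⟩ := id h14
    rcases u₁.mem3 hxU h2 h3 d2 d3 d1 he1 with rfl | rfl | rfl
    · exact (hd2 e he4).1 s.lj.ma
    · exact (hd2 _ he4).2 (by rw [neg_neg]; exact s.lj.mc)
    · exact (hd3 _ he4).2 (by rw [neg_neg]; exact s.lk.mc)
  · rcases cell_b s u₁ c11 o12 o13 o14 hxU with ⟨hn, hc⟩ | ⟨hn, hc⟩
    · exact cell_last s u₁ u₃ h13 c33 o31 o32 o34 hxU hn hc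
    · exact cell_last s.swap u₁ u₂ h12 c22 o21 o23 o24 hxU hn hc
  · exact h14.2 x hxU hc1

/-- two rows of length four: the first row has a common literal -/
theorem row_common_aux {T₁ T₂ T₃ T₄ U₁ U₂ U₃ U₄ : Finset α}
    (t₁ : Triple T₁) (t₂ : Triple T₂) (t₃ : Triple T₃) (t₄ : Triple T₄)
    (u₁ : Triple U₁) (u₂ : Triple U₂) (u₃ : Triple U₃) (u₄ : Triple U₄)
    (r12 : Meet T₁ T₂) (r13 : Meet T₁ T₃) (r14 : Meet T₁ T₄) (r23 : Meet T₂ T₃)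
    (r24 : Meet T₂ T₄) (r34 : Meet T₃ T₄)
    (h12 : Meet U₁ U₂) (h13 : Meet U₁ U₃) (h14 : Meet U₁ U₄) (h23 : Meet U₂ U₃)
    (h24 : Meet U₂ U₄) (h34 : Meet U₃ U₄)
    (c11 : Meet U₁ T₁) (c22 : Meet U₂ T₂) (c33 : Meet U₃ T₃) (c44 : Meet U₄ T₄)
    (o12 : Bal U₁ T₂) (o13 : Bal U₁ T₃) (o14 : Bal U₁ T₄)
    (o21 : Bal U₂ T₁) (o23 : Bal U₂ T₃) (o24 : Bal U₂ T₄)
    (o31 : Bal U₃ T₁) (o32 : Bal U₃ T₂) (o34 : Bal U₃ T₄)
    (o41 : Bal U₄ T₁) (o42 : Bal U₄ T₂) (o43 : Bal U₄ T₃)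
    {a : α} (a1 : a ∈ T₁) (a2 : a ∈ T₂) (a3 : a ∈ T₃) : a ∈ T₄ := by
  by_contra a4
  obtain ⟨⟨b₁, p1, p1', -⟩, -⟩ := id r14
  obtain ⟨⟨b₂, p2, p2', -⟩, -⟩ := id r24
  obtain ⟨⟨b₃, p3, p3', -⟩, -⟩ := id r34
  have e1 : a ≠ b₁ := fun e => a4 (e ▸ p1')
  have e2 : a ≠ b₂ := fun e => a4 (e ▸ p2')
  have e3 : a ≠ b₃ := fun e => a4 (e ▸ p3')
  obtain ⟨c₁, m1, n1, n1', s1⟩ := t₁.third a1 p1 e1
  obtain ⟨c₂, m2, n2, n2', s2⟩ := t₂.third a2 p2 e2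
  obtain ⟨c₃, m3, n3, n3', s3⟩ := t₃.third a3 p3 e3
  have L1 : Leg T₁ T₄ a b₁ c₁ := ⟨t₁, a1, p1, m1, s1, p1', a4,
    fun h => n1' (r14.eq_of_mem m1 h p1 p1'), e1, n1.symm, n1'.symm, r14⟩
  have L2 : Leg T₂ T₄ a b₂ c₂ := ⟨t₂, a2, p2, m2, s2, p2', a4,
    fun h => n2' (r24.eq_of_mem m2 h p2 p2'), e2, n2.symm, n2'.symm, r24⟩
  have L3 : Leg T₃ T₄ a b₃ c₃ := ⟨t₃, a3, p3, m3, s3, p3', a4,
    fun h => n3' (r34.eq_of_mem m3 h p3 p3'), e3, n3.symm, n3'.symm, r34⟩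
  have s : Star T₁ T₂ T₃ T₄ a b₁ b₂ b₃ c₁ c₂ c₃ := ⟨L1, L2, L3, r12, r13, r23, t₄,
    fun h => e1 (r12.eq_of_mem a1 a2 p1 (h ▸ p2)), fun h => e1 (r13.eq_of_mem a1 a3 p1 (h ▸ p3)),
    fun h => e2 (r23.eq_of_mem a2 a3 p2 (h ▸ p3))⟩
  obtain ⟨⟨x, hxU, hxT, -⟩, -⟩ := id c44
  rcases s.t4_cases hxT with rfl | rfl | rfl
  · exact star_false s u₁ u₂ u₃ u₄ h12 h13 h14 c11 c22 c33 c44 o12 o13 o14 o21 o23 o24 o31 o32 o34
      o41 o42 o43 hxU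
  · exact star_false s.rotate.rotate u₂ u₃ u₁ u₄ h23 h12.symm h24 c22 c33 c11 c44 o23 o21 o24
      o32 o31 o34 o12 o13 o14 o42 o43 o41 hxU
  · exact star_false s.rotate u₃ u₁ u₂ u₄ h13.symm h23.symm h34 c33 c11 c22 c44 o31 o32 o34
      o13 o12 o14 o23 o21 o24 o43 o41 o42 hxU

theorem row_common {T U : Fin 4 → Finset α} (tT : ∀ j, Triple (T j)) (tU : ∀ j, Triple (U j))
    (rT : ∀ j k, j ≠ k → Meet (T j) (T k)) (rU : ∀ j k, j ≠ k → Meet (U j) (U k))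
    (col : ∀ j, Meet (U j) (T j)) (off : ∀ j k, j ≠ k → Bal (U j) (T k)) :
    ∃ a, ∀ j, a ∈ T j := by
  have aux : ∀ σ : Equiv.Perm (Fin 4), ∀ a, a ∈ T (σ 0) → a ∈ T (σ 1) → a ∈ T (σ 2) →
      a ∈ T (σ 3) := by
    intro σ a
    have n : ∀ {j k : Fin 4}, j ≠ k → σ j ≠ σ k := fun h e => h (σ.injective e)
    exact row_common_aux (tT _) (tT _) (tT _) (tT _) (tU (σ 0)) (tU (σ 1)) (tU (σ 2)) (tU (σ 3))
      (rT _ _ (n (by decide))) (rT _ _ (n (by decide))) (rT _ _ (n (by decide)))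
      (rT _ _ (n (by decide))) (rT _ _ (n (by decide))) (rT _ _ (n (by decide)))
      (rU _ _ (n (by decide))) (rU _ _ (n (by decide))) (rU _ _ (n (by decide)))
      (rU _ _ (n (by decide))) (rU _ _ (n (by decide))) (rU _ _ (n (by decide)))
      (col _) (col _) (col _) (col _)
      (off _ _ (n (by decide))) (off _ _ (n (by decide))) (off _ _ (n (by decide)))
      (off _ _ (n (by decide))) (off _ _ (n (by decide))) (off _ _ (n (by decide)))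
      (off _ _ (n (by decide))) (off _ _ (n (by decide))) (off _ _ (n (by decide)))
      (off _ _ (n (by decide))) (off _ _ (n (by decide))) (off _ _ (n (by decide)))
  have all4 : ∀ (σ : Equiv.Perm (Fin 4)) (a : α), a ∈ T (σ 0) → a ∈ T (σ 1) → a ∈ T (σ 2) →
      ∀ j, a ∈ T j := by
    intro σ a h0 h1 h2 j
    obtain ⟨i, rfl⟩ := σ.surjective j
    fin_cases i
    exacts [h0, h1, h2, aux σ a h0 h1 h2]
  by_cases h012 : ∃ a, a ∈ T 0 ∧ a ∈ T 1 ∧ a ∈ T 2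
  · obtain ⟨a, h0, h1, h2⟩ := h012
    exact ⟨a, all4 1 a h0 h1 h2⟩
  by_cases h013 : ∃ a, a ∈ T 0 ∧ a ∈ T 1 ∧ a ∈ T 3
  · obtain ⟨a, h0, h1, h3⟩ := h013
    exact ⟨a, all4 (Equiv.swap 2 3) a (by simpa [Equiv.swap_apply_def] using h0)
      (by simpa [Equiv.swap_apply_def] using h1) (by simpa using h3)⟩
  by_cases h023 : ∃ a, a ∈ T 0 ∧ a ∈ T 2 ∧ a ∈ T 3
  · obtain ⟨a, h0, h2, h3⟩ := h023
    exact ⟨a, all4 (Equiv.swap 1 3) a (by simpa [Equiv.swap_apply_def] using h0)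
      (by simpa using h3) (by simpa [Equiv.swap_apply_def] using h2)⟩
  by_cases h123 : ∃ a, a ∈ T 1 ∧ a ∈ T 2 ∧ a ∈ T 3
  · obtain ⟨a, h1, h2, h3⟩ := h123
    exact ⟨a, all4 (Equiv.swap 0 3) a (by simpa using h3)
      (by simpa [Equiv.swap_apply_def] using h1) (by simpa [Equiv.swap_apply_def] using h2)⟩
  exfalso
  push Not at h012 h013 h023 h123
  have r : ∀ j k : Fin 4, j ≠ k → Meet (T j) (T k) := rT
  obtain ⟨⟨x, hxU, hxT, -⟩, -⟩ := id (col 0)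
  have n12 : ∀ s ∈ T 0, s ∈ T 2 → s ∉ T 1 := fun s a b c => h012 s a c b
  have n13 : ∀ s ∈ T 0, s ∈ T 3 → s ∉ T 1 := fun s a b c => h013 s a c b
  have n23 : ∀ s ∈ T 0, s ∈ T 3 → s ∉ T 2 := fun s a b c => h023 s a c b
  obtain ⟨⟨y₁, y10, y11, -⟩, -⟩ := id (r 0 1 (by decide))
  obtain ⟨⟨y₂, y20, y22, -⟩, -⟩ := id (r 0 2 (by decide))
  obtain ⟨⟨y₃, y30, y33, -⟩, -⟩ := id (r 0 3 (by decide))
  rcases (tT 0).mem3 y10 y20 y30 (fun e => h012 y₁ y10 y11 (e ▸ y22))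
    (fun e => h013 y₁ y10 y11 (e ▸ y33)) (fun e => h023 y₂ y20 y22 (e ▸ y33)) hxT with
    rfl | rfl | rfl
  · exact quad_false (tU 0) (tT 1) (tT 2) (tT 3) (r 0 1 (by decide)) (r 0 2 (by decide))
      (r 0 3 (by decide)) (r 1 2 (by decide)) (r 1 3 (by decide)) (r 2 3 (by decide))
      h012 h013 h023 h123 (col 0) (off 0 1 (by decide)) (off 0 2 (by decide))
      (off 0 3 (by decide)) hxU hxT y11
  · exact quad_false (tU 0) (tT 2) (tT 1) (tT 3) (r 0 2 (by decide)) (r 0 1 (by decide))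
      (r 0 3 (by decide)) (r 2 1 (by decide)) (r 2 3 (by decide)) (r 1 3 (by decide))
      n12 h023 h013 (fun s a b c => h123 s b a c) (col 0) (off 0 2 (by decide))
      (off 0 1 (by decide)) (off 0 3 (by decide)) hxU hxT y22
  · exact quad_false (tU 0) (tT 3) (tT 1) (tT 2) (r 0 3 (by decide)) (r 0 1 (by decide))
      (r 0 2 (by decide)) (r 3 1 (by decide)) (r 3 2 (by decide)) (r 1 2 (by decide))
      n13 n23 h012 (fun s a b c => h123 s b c a) (col 0) (off 0 3 (by decide))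
      (off 0 1 (by decide)) (off 0 2 (by decide)) hxU hxT y33

/-- the hypotheses on a grid -/
structure IsGrid {I J : Type*} (S : I → J → Finset α) : Prop where
  triple : ∀ i j, Triple (S i j)
  row : ∀ i j k, j ≠ k → Meet (S i j) (S i k)
  col : ∀ i i' j, i ≠ i' → Meet (S i j) (S i' j)
  off : ∀ i i' j k, i ≠ i' → j ≠ k → Bal (S i j) (S i' k)

theorem IsGrid.flip {I J : Type*} {S : I → J → Finset α} (h : IsGrid S) :
    IsGrid (fun j i => S i j) :=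
  ⟨fun j i => h.triple i j, fun j i i' e => h.col i i' j e, fun j k i e => h.row i j k e,
    fun j k i i' e e' => h.off i i' j k e' e⟩

theorem exists_row_literal {I J : Type*} [Fintype J] [DecidableEq J] [Nontrivial I]
    {S : I → J → Finset α} (h : IsGrid S) (hJ : 4 ≤ Fintype.card J) (i : I) :
    ∃ a, ∀ j, a ∈ S i j := by
  obtain ⟨i', hi'⟩ := exists_ne i
  have four : ∀ e : Fin 4 ↪ J, ∃ a, ∀ t, a ∈ S i (e t) := fun e =>
    row_common (T := fun t => S i (e t)) (U := fun t => S i' (e t)) (fun t => h.triple _ _)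
      (fun t => h.triple _ _) (fun j k hjk => h.row _ _ _ (e.injective.ne hjk))
      (fun j k hjk => h.row _ _ _ (e.injective.ne hjk)) (fun j => h.col _ _ _ hi')
      (fun j k hjk => h.off _ _ _ _ hi' (e.injective.ne hjk))
  obtain ⟨e₀⟩ : Nonempty (Fin 4 ↪ J) :=
    Function.Embedding.nonempty_of_card_le (by rwa [Fintype.card_fin])
  obtain ⟨a, ha⟩ := four e₀
  refine ⟨a, fun j => ?_⟩
  by_cases hj : ∃ t, e₀ t = j
  · obtain ⟨t, rfl⟩ := hj; exact ha t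
  push Not at hj
  let e₁ : Fin 4 ↪ J := e₀.setValue 3 j
  have h0 : e₁ 0 = e₀ 0 :=
    Function.Embedding.setValue_eq_of_ne (by decide) (hj 0)
  have h1 : e₁ 1 = e₀ 1 :=
    Function.Embedding.setValue_eq_of_ne (by decide) (hj 1)
  have h3 : e₁ 3 = j := Function.Embedding.setValue_eq _ _ _
  obtain ⟨b, hb⟩ := four e₁
  have hab : a = b := (h.row i (e₀ 0) (e₀ 1) (e₀.injective.ne (by decide))).eq_of_mem (ha 0) (ha 1)
    (h0 ▸ hb 0) (h1 ▸ hb 1)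
  rw [hab, ← h3]
  exact hb 3

end CfsgLib.OddChar
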