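import Cfsg.Agent.Lib.OddChar.Grid

set_option autoImplicit false
set_option linter.style.haveILetI false

/-! Decomposition of a grid of signed triples into row, column and cell parts. -/

namespace CfsgLib.OddChar

variable {α : Type*} [DecidableEq α] [InvolutiveNeg α]

/-- different up to sign -/
def Sep (a b : α) : Prop := a ≠ b ∧ a ≠ -b

omit [DecidableEq α] in
theorem Sep.symm {a b : α} (h : Sep a b) : Sep b a :=
  ⟨h.1.symm, fun e => h.2 (by rw [e, neg_neg])⟩

omit [DecidableEq α] in
theorem Triple.sep {A : Finset α} (hA : Triple A) {a b : α} (ha : a ∈ A) (hb : b ∈ A)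
    (h : a ≠ b) : Sep a b :=
  ⟨h, fun e => hA.2 b hb (e ▸ ha)⟩

theorem Meet.sep {A B : Finset α} (h : Meet A B) {a b c : α} (ha : a ∈ A) (hb : b ∈ B)
    (hc : c ∈ A) (hc' : c ∈ B) (hac : a ≠ c) : Sep a b :=
  ⟨fun e => hac (h.eq_of_mem ha (e ▸ hb) hc hc'),
    fun e => h.2 a ha (by rw [e, neg_neg]; exact hb)⟩

variable {I J : Type*}

theorem IsGrid.literal_not_mem [Fintype J] [DecidableEq J] {S : I → J → Finset α} (h : IsGrid S)
    (hJ : 4 ≤ Fintype.card J) {i i' : I} (hne : i ≠ i') {x : α} (hx : ∀ j, x ∈ S i j) (j : J) :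
    x ∉ S i' j ∧ -x ∉ S i' j := by
  refine ⟨fun hx' => ?_, fun hn => (h.col i i' j hne).2 x (hx j) hn⟩
  have key : ∀ k ∈ (Finset.univ : Finset J).erase j,
      ∃ y ∈ (S i' j).erase x, -y ∈ S i k := by
    intro k hk
    obtain ⟨y, hy, hy'⟩ :=
      (h.off i' i j k hne.symm (Finset.ne_of_mem_erase hk).symm).1 ⟨x, hx', hx k⟩
    exact ⟨y, Finset.mem_erase.mpr ⟨fun e => (h.triple i k).2 x (hx k) (e ▸ hy'), hy⟩, hy'⟩
  choose f hf hf' using key
  have hcard : ((S i' j).erase x).card < ((Finset.univ : Finset J).erase j).attach.card := by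
    rw [Finset.card_attach, Finset.card_erase_of_mem hx', Finset.card_erase_of_mem (Finset.mem_univ _),
      (h.triple i' j).1, Finset.card_univ]
    omega
  obtain ⟨⟨k, hk⟩, -, ⟨k', hk'⟩, -, hkk, he⟩ :=
    Finset.exists_ne_map_eq_of_card_lt_of_maps_to hcard
      (f := fun k => f k.1 k.2) (fun k _ => hf k.1 k.2)
  have hne' : k ≠ k' := fun e => hkk (Subtype.ext e)
  have he' : f k hk = f k' hk' := he
  have hm : -f k hk = x :=
    (h.row i k k' hne').eq_of_mem (hf' k hk) (by rw [he']; exact hf' k' hk') (hx k) (hx k')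
  exact (h.triple i' j).2 x hx' (by
    rw [← hm, neg_neg]; exact Finset.mem_of_mem_erase (hf k hk))

/-- a grid consists of a row part, a column part and a cell part, all different up to sign -/
theorem exists_grid_decomp_aux [Fintype I] [Fintype J] [DecidableEq I] [DecidableEq J]
    {S : I → J → Finset α} (h : IsGrid S) (hJ : 4 ≤ Fintype.card J)
    (hI : Fintype.card I = 2 ∨ 4 ≤ Fintype.card I) :
    ∃ F : Option I → Option J → α,
      (∀ i j, S i j = {F (some i) none, F none (some j), F (some i) (some j)}) ∧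
      ∀ p q : Option I × Option J, p ≠ (none, none) → q ≠ (none, none) → p ≠ q →
        Sep (F p.1 p.2) (F q.1 q.2) := by
  haveI : Nontrivial I := Fintype.one_lt_card_iff_nontrivial.mp (by omega)
  haveI : Nonempty J := Fintype.card_pos_iff.mp (by omega)
  choose X hX using fun i => exists_row_literal h hJ i
  have hcol : ∀ j, ∃ y, ∀ i, y ∈ S i j := by
    intro j
    rcases hI with h2 | h4
    · obtain ⟨a, b, hab, huniv⟩ := Finset.card_eq_two.mp (Finset.card_univ.trans h2)
      obtain ⟨⟨y, hya, hyb, -⟩, -⟩ := h.col a b j hab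
      refine ⟨y, fun i => ?_⟩
      have : i ∈ ({a, b} : Finset I) := huniv ▸ Finset.mem_univ i
      simp only [Finset.mem_insert, Finset.mem_singleton] at this
      rcases this with rfl | rfl <;> assumption
    · haveI : Nontrivial J := Fintype.one_lt_card_iff_nontrivial.mp (by omega)
      exact exists_row_literal h.flip h4 j
  choose Y hY using hcol
  have nX : ∀ i i', i ≠ i' → ∀ j, X i ∉ S i' j ∧ -X i ∉ S i' j :=
    fun i i' e => h.literal_not_mem hJ e (hX i)
  have hXY : ∀ i j, X i ≠ Y j := by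
    intro i j e
    obtain ⟨i', hi'⟩ := exists_ne i
    exact (nX i i' hi'.symm j).1 (e ▸ hY j i')
  have hth := fun i j => (h.triple i j).third (hX i j) (hY j i) (hXY i j)
  choose Z hZ hZX hZY hcases using hth
  have hS : ∀ i j, S i j = {X i, Y j, Z i j} := by
    intro i j
    ext x
    simp only [Finset.mem_insert, Finset.mem_singleton]
    refine ⟨hcases i j x, ?_⟩
    rintro (rfl | rfl | rfl)
    exacts [hX i j, hY j i, hZ i j]
  have j₀ : J := Classical.arbitrary J
  have i₀ : I := Classical.arbitrary I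
  have sXX : ∀ i i', i ≠ i' → Sep (X i) (X i') := fun i i' e =>
    ⟨fun he => (nX i i' e j₀).1 (he ▸ hX i' j₀),
      fun he => (nX i i' e j₀).2 (by rw [he, neg_neg]; exact hX i' j₀)⟩
  have sXY : ∀ i j, Sep (X i) (Y j) := fun i j => (h.triple i j).sep (hX i j) (hY j i) (hXY i j)
  have sYY : ∀ j k, j ≠ k → Sep (Y j) (Y k) := fun j k e =>
    (h.row i₀ j k e).sep (hY j i₀) (hY k i₀) (hX i₀ j) (hX i₀ k) (hXY i₀ j).symm
  have sXZ : ∀ i' i j, Sep (X i') (Z i j) := by
    intro i' i j
    by_cases e : i' = i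
    · subst e
      exact (h.triple i' j).sep (hX i' j) (hZ i' j) (hZX i' j).symm
    · exact ⟨fun he => (nX i' i e j).1 (he ▸ hZ i j),
        fun he => (nX i' i e j).2 (by rw [he, neg_neg]; exact hZ i j)⟩
  have sYZ : ∀ k i j, Sep (Y k) (Z i j) := by
    intro k i j
    by_cases e : j = k
    · subst e
      exact (h.triple i j).sep (hY j i) (hZ i j) (hZY i j).symm
    · exact Sep.symm ((h.row i j k e).sep (hZ i j) (hY k i) (hX i j) (hX i k) (hZX i j))
  have sZZ : ∀ i j i' k, (i, j) ≠ (i', k) → Sep (Z i j) (Z i' k) := by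
    intro i j i' k e
    by_cases ei : i = i'
    · subst ei
      have ej : j ≠ k := fun ee => e (by rw [ee])
      exact (h.row i j k ej).sep (hZ i j) (hZ i k) (hX i j) (hX i k) (hZX i j)
    by_cases ej : j = k
    · subst ej
      exact (h.col i i' j ei).sep (hZ i j) (hZ i' j) (hY j i) (hY j i') (hZY i j)
    have none' : ∀ u ∈ S i j, ∀ v ∈ S i' k, (u = Z i j → v ≠ Z i' k) → Sep u v := by
      intro u hu v hv huv
      rcases hcases i j u hu with rfl | rfl | rfl <;> rcases hcases i' k v hv with rfl | rfl | rfl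
      · exact sXX i i' ei
      · exact sXY i k
      · exact sXZ i i' k
      · exact (sXY i' j).symm
      · exact sYY j k ej
      · exact sYZ j i' k
      · exact (sXZ i' i j).symm
      · exact (sYZ k i j).symm
      · exact absurd rfl (huv rfl)
    have hb := h.off i i' j k ei ej
    constructor
    · intro he
      obtain ⟨y, hy, hy'⟩ := hb.1 ⟨Z i j, hZ i j, he ▸ hZ i' k⟩
      exact (none' y hy (-y) hy' fun e1 e2 => (h.triple i j).2 _ (hZ i j)
        (by rw [← e1, e2, ← he]; exact hZ i j)).2 (neg_neg y).symm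
    · intro he
      obtain ⟨x, hx, hx'⟩ := hb.2 ⟨Z i j, hZ i j, by rw [he, neg_neg]; exact hZ i' k⟩
      exact (none' x hx x hx' fun e1 e2 => (h.triple i j).2 _ (hZ i j)
        (by rw [he, neg_neg, ← e2, e1]; exact hZ i j)).1 rfl
  refine ⟨fun a b => match a, b with
    | some i, none => X i
    | none, some j => Y j
    | some i, some j => Z i j
    | none, none => X i₀, hS, ?_⟩
  rintro ⟨_ | i, _ | j⟩ ⟨_ | i', _ | k⟩ hp hq hpq
  all_goals first
    | exact absurd rfl hp
    | exact absurd rfl hq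
    | skip
  all_goals simp only []
  · exact sYY j k fun e => hpq (by rw [e])
  · exact (sXY i' j).symm
  · exact sYZ j i' k
  · exact sXY i k
  · exact sXX i i' fun e => hpq (by rw [e])
  · exact sXZ i i' k
  · exact (sYZ k i j).symm
  · exact (sXZ i' i j).symm
  · exact sZZ i j i' k fun e => hpq (by
      obtain ⟨e₁, e₂⟩ := Prod.ext_iff.mp e
      subst e₁ e₂
      rfl)

/-- a grid consists of a row part, a column part and a cell part, all different up to sign -/
theorem exists_grid_decomp [Fintype I] [Fintype J] [DecidableEq I] [DecidableEq J]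
    {S : I → J → Finset α} (h : IsGrid S) (hI : Fintype.card I = 2 ∨ 4 ≤ Fintype.card I)
    (hJ : Fintype.card J = 2 ∨ 4 ≤ Fintype.card J)
    (hIJ : 4 ≤ Fintype.card I ∨ 4 ≤ Fintype.card J) :
    ∃ F : Option I → Option J → α,
      (∀ i j, S i j = {F (some i) none, F none (some j), F (some i) (some j)}) ∧
      ∀ p q : Option I × Option J, p ≠ (none, none) → q ≠ (none, none) → p ≠ q →
        Sep (F p.1 p.2) (F q.1 q.2) := by
  rcases hIJ with h4 | h4
  · obtain ⟨F, hF, hs⟩ := exists_grid_decomp_aux h.flip h4 hJ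
    refine ⟨fun a b => F b a, fun i j => ?_, fun p q hp hq hpq => ?_⟩
    · rw [hF j i]
      exact Finset.insert_comm _ _ _
    · exact hs (p.2, p.1) (q.2, q.1) (fun e => hp (Prod.ext (Prod.ext_iff.mp e).2 (Prod.ext_iff.mp e).1))
        (fun e => hq (Prod.ext (Prod.ext_iff.mp e).2 (Prod.ext_iff.mp e).1))
        (fun e => hpq (Prod.ext (Prod.ext_iff.mp e).2 (Prod.ext_iff.mp e).1))
  · exact exists_grid_decomp_aux h h4 hI

end CfsgLib.OddChar
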