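import Cfsg.Agent.Lib.OddChar.Coherence
import Cfsg.Agent.Lib.Characters.Clifford
import Cfsg.Agent.Lib.Characters.FrobKernelChar
import Cfsg.Agent.Lib.Characters.Values
import Cfsg.Agent.Lib.Characters.Extension

set_option autoImplicit false
set_option linter.style.haveILetI false
set_option linter.unusedSectionVars false

/-! Sets of characters induced from a normal subgroup: degrees, norms and degree bounds. -/

namespace CfsgLib.OddChar

open scoped Classical ComplexConjugate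
open Finset CfsgLib.Characters CfsgLib.Clifford

universe u

variable {L : Type u} [Group L] {K : Subgroup L}

/-- the degree as a natural number -/
noncomputable def natDeg {X : Type*} [One X] (φ : X → ℂ) : ℕ := ⌊(φ 1).re⌋₊

/-- the squared norm as a natural number -/
noncomputable def natNorm {X : Type*} [Group X] [Fintype X] (φ : X → ℂ) : ℕ :=
  ⌊(Cfsg.classInner φ φ).re⌋₊

theorem natDeg_spec {X : Type*} [Group X] {φ : X → ℂ} (h : Cfsg.IsCharacter X φ) :
    φ 1 = (natDeg φ : ℂ) := by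
  obtain ⟨n, hn⟩ := exists_degree h
  simp [natDeg, hn]

theorem natDeg_pos {X : Type*} [Group X] [Finite X] {φ : X → ℂ} (h : Cfsg.IsIrrCharacter X φ) :
    0 < natDeg φ := by
  obtain ⟨n, hn0, hn⟩ := irr_exists_degree h
  simpa [natDeg, hn] using hn0

variable [Fintype L]

theorem natNorm_spec {φ : L → ℂ} (h : Cfsg.IsCharacter L φ) :
    Cfsg.classInner φ φ = (natNorm φ : ℂ) := by
  obtain ⟨n, hn⟩ := classInner_char_nat h h
  simp [natNorm, hn]

theorem indFun_conjChar (hK : K.Normal) (θ : K → ℂ) (g : L) :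
    Cfsg.indFun K (conjChar hK θ g) = Cfsg.indFun K θ := by
  funext x
  rw [CfsgLib.Induction.indFun_apply, CfsgLib.Induction.indFun_apply,
    ← Equiv.sum_comp (Equiv.mulRight g⁻¹) (fun y => Cfsg.extendByZero K θ (y⁻¹ * x * y))]
  congr 1
  refine Finset.sum_congr rfl fun y _ => ?_
  have e : (Equiv.mulRight g⁻¹ y)⁻¹ * x * Equiv.mulRight g⁻¹ y = g * (y⁻¹ * x * y) * g⁻¹ := by
    simp only [Equiv.coe_mulRight]
    group
  rw [e]
  by_cases hm : y⁻¹ * x * y ∈ K
  · rw [CfsgLib.Induction.extendByZero_mem _ _ hm,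
      CfsgLib.Induction.extendByZero_mem _ _ (hK.conj_mem _ hm g)]
    rfl
  · have hm' : g * (y⁻¹ * x * y) * g⁻¹ ∉ K := fun hh => hm (by
      have := hK.conj_mem _ hh g⁻¹
      simpa [mul_assoc] using this)
    rw [CfsgLib.Induction.extendByZero_notMem _ _ hm,
      CfsgLib.Induction.extendByZero_notMem _ _ hm']

variable [Fintype K]

theorem exists_conjChar_of_indFun_inner (hK : K.Normal) {θ η : K → ℂ}
    (hθ : Cfsg.IsIrrCharacter K θ) (hη : Cfsg.IsIrrCharacter K η)
    (h : Cfsg.classInner (Cfsg.indFun K θ) (Cfsg.indFun K η) ≠ 0) :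
    ∃ x : L, conjChar hK η x = θ := by
  by_contra hne
  push Not at hne
  refine h ?_
  rw [classInner_indFun_indFun hK (isClassFunction_of_isCharacter (isCharacter_of_irr hθ)),
    Finset.sum_eq_zero fun x _ => classInner_irr_ne hθ (isIrrCharacter_conjChar hK hη x)
      (fun e => hne x e.symm), mul_zero]

theorem indFun_inner_eq_zero (hK : K.Normal) {θ η : K → ℂ}
    (hθ : Cfsg.IsIrrCharacter K θ) (hη : Cfsg.IsIrrCharacter K η)
    (h : Cfsg.indFun K θ ≠ Cfsg.indFun K η) :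
    Cfsg.classInner (Cfsg.indFun K θ) (Cfsg.indFun K η) = 0 := by
  by_contra h0
  obtain ⟨x, hx⟩ := exists_conjChar_of_indFun_inner hK hθ hη h0
  exact h (by rw [← hx, indFun_conjChar])

theorem conjChar_of_indFun_eq (hK : K.Normal) {θ η : K → ℂ}
    (hθ : Cfsg.IsIrrCharacter K θ) (hη : Cfsg.IsIrrCharacter K η)
    (h : Cfsg.indFun K θ = Cfsg.indFun K η) : ∃ x : L, conjChar hK η x = θ := by
  refine exists_conjChar_of_indFun_inner hK hθ hη ?_
  rw [← h]
  intro h0
  have h1 := congrFun (eq_zero_of_classInner_self h0) 1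
  rw [CfsgLib.Induction.indFun_one_apply] at h1
  obtain ⟨m, hm0, hm⟩ := irr_exists_degree hθ
  simp [hm, hm0.ne', Subgroup.index_ne_zero_of_finite] at h1

theorem natDeg_indFun {θ : K → ℂ} (hθ : Cfsg.IsCharacter K θ) :
    natDeg (Cfsg.indFun K θ) = K.index * natDeg θ := by
  have h1 := natDeg_spec (CfsgLib.Induction.isCharacter_indFun K hθ)
  rw [CfsgLib.Induction.indFun_one_apply, natDeg_spec hθ] at h1
  exact_mod_cast h1.symm

/-- `d²/n` summed over the distinct induced characters of a closed set of characters -/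
theorem sum_sq_div_norm (hK : K.Normal) (Θ : Finset (Cfsg.IrrCharacter K))
    (hΘ : ∀ θ ∈ Θ, ∀ η : Cfsg.IrrCharacter K,
      Cfsg.indFun K (η : K → ℂ) = Cfsg.indFun K (θ : K → ℂ) → η ∈ Θ) :
    ∑ φ ∈ Θ.image (fun θ : Cfsg.IrrCharacter K => Cfsg.indFun K (θ : K → ℂ)), ((natDeg φ : ℝ) ^ 2 / (natNorm φ : ℝ)) =
      (K.index : ℝ) * ∑ θ ∈ Θ, (natDeg (θ : K → ℂ) : ℝ) ^ 2 := by
  rw [← Finset.sum_fiberwise_of_maps_to (g := fun θ : Cfsg.IrrCharacter K =>
    Cfsg.indFun K (θ : K → ℂ)) (t := Θ.image (fun θ : Cfsg.IrrCharacter K => Cfsg.indFun K (θ : K → ℂ)))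
    (fun θ hθ => Finset.mem_image_of_mem _ hθ), Finset.mul_sum]
  refine Finset.sum_congr rfl fun φ hφ => ?_
  obtain ⟨θ₀, hθ₀, rfl⟩ := Finset.mem_image.mp hφ
  set φ := Cfsg.indFun K (θ₀ : K → ℂ) with hφdef
  set F := Θ.filter (fun θ : Cfsg.IrrCharacter K => Cfsg.indFun K (θ : K → ℂ) = φ) with hF
  have hcl := CfsgLib.Induction.isClassFunction_indFun K (θ₀ : K → ℂ)
  have hch : Cfsg.IsCharacter L φ := CfsgLib.Induction.isCharacter_indFun K (irr_isCharacter θ₀)
  have hdeg : ∀ θ ∈ F, natDeg (θ : K → ℂ) = natDeg (θ₀ : K → ℂ) := fun θ hθ => by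
    have := congrArg natDeg (mem_filter.mp hθ).2
    rw [hφdef, natDeg_indFun (irr_isCharacter θ), natDeg_indFun (irr_isCharacter θ₀)] at this
    exact mul_left_cancel₀ Subgroup.index_ne_zero_of_finite this
  have hres : (fun k : K => φ k) = ∑ θ ∈ F, (natNorm φ : ℂ) • (θ : K → ℂ) := by
    conv_lhs => rw [classFunction_eq_sum (G := K) (φ := fun k : K => φ k)
      (isClassFunction_of_isCharacter (isCharacter_subtype hch K))]
    refine (Finset.sum_subset (Finset.subset_univ F) fun θ _ hθ => ?_).symm.trans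
      (Finset.sum_congr rfl fun θ hθ => ?_)
    · rw [← CfsgLib.Induction.classInner_indFun_right K _ hcl, indFun_inner_eq_zero hK θ₀.2 θ.2
        (fun e => hθ (mem_filter.mpr ⟨hΘ θ₀ hθ₀ θ e.symm, e.symm⟩)), zero_smul]
    · rw [← CfsgLib.Induction.classInner_indFun_right K _ hcl, (mem_filter.mp hθ).2,
        natNorm_spec hch]
  have h1 := congrFun hres 1
  simp only [Finset.sum_apply, Pi.smul_apply, smul_eq_mul, OneMemClass.coe_one] at h1
  rw [Finset.sum_congr rfl fun θ hθ => by rw [natDeg_spec (irr_isCharacter θ), hdeg θ hθ],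
    natDeg_spec hch, hφdef, natDeg_indFun (irr_isCharacter θ₀), Finset.sum_const, nsmul_eq_mul] at h1
  have h2 : K.index * natDeg (θ₀ : K → ℂ) = F.card * (natNorm φ * natDeg (θ₀ : K → ℂ)) := by
    exact_mod_cast h1
  have hd0 := natDeg_pos θ₀.2
  have h3 : K.index = F.card * natNorm φ :=
    Nat.eq_of_mul_eq_mul_right hd0 (by rw [h2, mul_assoc])
  rw [Finset.sum_congr rfl fun θ hθ => by rw [hdeg θ hθ], Finset.sum_const, nsmul_eq_mul, hφdef,
    natDeg_indFun (irr_isCharacter θ₀), ← hφdef]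
  have hn0 : (natNorm φ : ℝ) ≠ 0 := by
    intro h0
    rw [Nat.cast_eq_zero] at h0
    rw [h0, mul_zero] at h3
    exact Subgroup.index_ne_zero_of_finite h3
  rw [div_eq_iff hn0, h3]
  push_cast
  ring

/-- non-principal irreducible characters trivial on `A` -/
noncomputable def thetaAbove (K A : Subgroup L) [Fintype K] : Finset (Cfsg.IrrCharacter K) :=
  univ.filter fun θ : Cfsg.IrrCharacter K => (θ : K → ℂ) ≠ (fun _ => 1) ∧
    ∀ a : K, (a : L) ∈ A → (θ : K → ℂ) a = (θ : K → ℂ) 1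

theorem mem_thetaAbove {A : Subgroup L} {θ : Cfsg.IrrCharacter K} :
    θ ∈ thetaAbove K A ↔ (θ : K → ℂ) ≠ (fun _ => 1) ∧
      ∀ a : K, (a : L) ∈ A → (θ : K → ℂ) a = (θ : K → ℂ) 1 := by
  simp [thetaAbove]

/-- the finite set of functions induced from them -/
noncomputable def indAboveFinset (K A : Subgroup L) [Fintype K] : Finset (L → ℂ) :=
  (thetaAbove K A).image fun θ : Cfsg.IrrCharacter K => Cfsg.indFun K (θ : K → ℂ)

theorem coe_indAboveFinset (A : Subgroup L) :
    (↑(indAboveFinset K A) : Set (L → ℂ)) = Cfsg.inducedIrrAbove K A := by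
  ext φ
  simp only [indAboveFinset, Finset.coe_image, Set.mem_image, Finset.mem_coe, mem_thetaAbove]
  constructor
  · rintro ⟨θ, ⟨h1, h2⟩, rfl⟩
    exact ⟨θ, θ.2, h1, h2, rfl⟩
  · rintro ⟨θ, h0, h1, h2, rfl⟩
    exact ⟨⟨θ, h0⟩, ⟨h1, h2⟩, rfl⟩

theorem thetaAbove_closed (hK : K.Normal) (A : Subgroup L) [hA : A.Normal]
    (θ : Cfsg.IrrCharacter K) (hθ : θ ∈ thetaAbove K A) (η : Cfsg.IrrCharacter K)
    (e : Cfsg.indFun K (η : K → ℂ) = Cfsg.indFun K (θ : K → ℂ)) : η ∈ thetaAbove K A := by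
  obtain ⟨x, hx⟩ := conjChar_of_indFun_eq hK η.2 θ.2 e
  obtain ⟨h1, h2⟩ := mem_thetaAbove.mp hθ
  refine mem_thetaAbove.mpr ⟨fun e1 => h1 ?_, fun a ha => ?_⟩
  · have : conjChar hK (η : K → ℂ) x⁻¹ = θ := by
      rw [← hx, conjChar_mul, mul_inv_cancel, conjChar_one]
    rw [← this, e1]
    rfl
  · rw [← hx, conjChar_apply_one]
    exact h2 _ (hA.conj_mem _ ha x)

theorem sum_sq_thetaAbove (hK : K.Normal) (A : Subgroup L) [hA : A.Normal] :
    ∑ θ ∈ thetaAbove K A, (natDeg (θ : K → ℂ) : ℝ) ^ 2 = (A.relIndex K : ℝ) - 1 := by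
  set A' := A.subgroupOf K with hA'
  have e : thetaAbove K A = ((CfsgLib.FrobKernelChar.relSet A')ᶜ).erase (principalIrr K) := by
    ext θ
    rw [mem_thetaAbove, Finset.mem_erase, Finset.mem_compl, CfsgLib.FrobKernelChar.mem_relSet]
    refine and_congr ⟨fun h e => h (congrArg Subtype.val e), fun h e => h (Subtype.ext e)⟩
      ⟨fun h ⟨k, hk, hne⟩ => hne (h k (Subgroup.mem_subgroupOf.mp hk)),
        fun h a ha => by_contra fun hne => h ⟨a, Subgroup.mem_subgroupOf.mpr ha, hne⟩⟩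
  have hp : principalIrr K ∈ (CfsgLib.FrobKernelChar.relSet A')ᶜ := by
    rw [Finset.mem_compl, CfsgLib.FrobKernelChar.mem_relSet]
    rintro ⟨k, -, hne⟩
    exact hne rfl
  have h := CfsgLib.FrobKernelChar.sum_sq_irrelevant (K := A')
  rw [← Finset.add_sum_erase _ _ hp, ← e] at h
  have h1 : ((principalIrr K : Cfsg.IrrCharacter K) : K → ℂ) 1 = 1 := rfl
  rw [h1, one_mul, Finset.sum_congr rfl fun θ (_ : θ ∈ thetaAbove K A) => by
    rw [natDeg_spec (irr_isCharacter θ)]] at h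
  have h2 : 1 + ∑ θ ∈ thetaAbove K A, natDeg (θ : K → ℂ) * natDeg (θ : K → ℂ) = A.relIndex K := by
    exact_mod_cast h
  rw [← h2]
  push_cast
  rw [add_sub_cancel_left]
  exact Finset.sum_congr rfl fun θ _ => sq _

theorem sum_indAbove (hK : K.Normal) (A : Subgroup L) [A.Normal] :
    ∑ φ ∈ indAboveFinset K A, ((natDeg φ : ℝ) ^ 2 / (natNorm φ : ℝ)) =
      (K.index : ℝ) * ((A.relIndex K : ℝ) - 1) := by
  rw [indAboveFinset, sum_sq_div_norm hK _ (thetaAbove_closed hK A), sum_sq_thetaAbove hK A]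

omit [Fintype L] [Fintype K] in
/-- irreducible degree bound from a subgroup acting by scalars -/
theorem sq_natDeg_le {X : Type*} [Group X] [Finite X] {θ : X → ℂ} (hθ : Cfsg.IsIrrCharacter X θ)
    (D : Subgroup X) (hD : ∀ d ∈ D, ‖θ d‖ = ‖θ 1‖) : natDeg θ ^ 2 ≤ D.index := by
  haveI := Fintype.ofFinite X
  have h := classInner_irr_self hθ
  rw [Cfsg.classInner] at h
  have hsum : ∑ x : X, ‖θ x‖ ^ 2 = (Nat.card X : ℝ) := by
    have h' : ∑ x : X, θ x * conj (θ x) = (Nat.card X : ℂ) := by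
      have hc : (Nat.card X : ℂ) ≠ 0 := Nat.cast_ne_zero.mpr Nat.card_pos.ne'
      calc ∑ x : X, θ x * conj (θ x) = (Nat.card X : ℂ) *
            ((Nat.card X : ℂ)⁻¹ * ∑ x : X, θ x * conj (θ x)) := by rw [mul_inv_cancel_left₀ hc]
        _ = _ := by rw [h, mul_one]
    have h'' := congrArg Complex.re h'
    rw [Complex.re_sum, Complex.natCast_re] at h''
    rw [← h'']
    refine Finset.sum_congr rfl fun x _ => ?_
    rw [Complex.mul_conj, Complex.ofReal_re, Complex.normSq_eq_norm_sq]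
  have hle : ∑ x ∈ univ.filter (· ∈ D), ‖θ x‖ ^ 2 ≤ ∑ x : X, ‖θ x‖ ^ 2 :=
    Finset.sum_le_sum_of_subset_of_nonneg (filter_subset _ _) fun _ _ _ => sq_nonneg _
  rw [hsum, Finset.sum_congr rfl (fun x hx => by
    rw [hD x (mem_filter.mp hx).2, natDeg_spec (isCharacter_of_irr hθ), Complex.norm_natCast]),
    Finset.sum_const, nsmul_eq_mul] at hle
  have hc : (univ.filter (· ∈ D)).card = Nat.card D := by
    rw [Nat.card_eq_fintype_card, Fintype.card_subtype]
  rw [hc] at hle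
  have h4 : Nat.card D * natDeg θ ^ 2 ≤ Nat.card X := by exact_mod_cast hle
  rw [← D.card_mul_index] at h4
  exact Nat.le_of_mul_le_mul_left h4 Nat.card_pos

omit [Fintype L] [Fintype K] in
/-- elements commuting with `X` modulo the kernel act as scalars -/
theorem norm_eq_of_central {X : Type*} [Group X] [Finite X] {θ : X → ℂ}
    (hθ : Cfsg.IsIrrCharacter X θ) {d : X} (hd : ∀ c : X, θ (d * c * d⁻¹ * c⁻¹) = θ 1) :
    ‖θ d‖ = ‖θ 1‖ := by
  obtain ⟨n, ρ, hρ, rfl⟩ := hθ
  haveI := hρ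
  obtain ⟨c₀, hc₀⟩ := CfsgLib.CharExtension.exists_scalar_of_commute ρ (ρ d) (fun c => by
    have h1 : ρ (d * c * d⁻¹ * c⁻¹) = LinearMap.id :=
      (CfsgLib.Characters.char_eq_degree_iff ρ _).mp (by rw [hd c, Representation.char_one])
    have : ρ (d * c) = ρ (c * d) := by
      calc ρ (d * c) = ρ (d * c * d⁻¹ * c⁻¹ * (c * d)) := by group
        _ = _ := by rw [map_mul, h1]; rfl
    rwa [map_mul, map_mul] at this)
  rw [(CfsgLib.Characters.norm_char_eq_iff_scalar ρ d).mpr ⟨c₀, ?_⟩, Representation.char_one,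
    Complex.norm_natCast]
  rw [hc₀, Algebra.algebraMap_eq_smul_one]
  rfl

omit [Fintype L] [Fintype K] in
/-- a constituent of a character is trivial where the character is -/
theorem constituent_eq_one {X : Type*} [Group X] [Finite X] [Fintype X] {χ : X → ℂ}
    (hχ : Cfsg.IsCharacter X χ) {ψ : Cfsg.IrrCharacter X}
    (hψ : Cfsg.classInner χ (ψ : X → ℂ) ≠ 0) {g : X} (hg : χ g = χ 1) :
    (ψ : X → ℂ) g = (ψ : X → ℂ) 1 := by
  obtain ⟨m, hm, hsum⟩ := exists_mult hχ
  have hbound : ∀ φ : Cfsg.IrrCharacter X, ((φ : X → ℂ) g).re ≤ ((φ : X → ℂ) 1).re := fun φ => by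
    have h := norm_le_degree_of_isCharacter (irr_isCharacter φ) g
    rw [natDeg_spec (irr_isCharacter φ), Complex.norm_natCast] at h
    rw [natDeg_spec (irr_isCharacter φ), Complex.natCast_re]
    exact (Complex.re_le_norm _).trans h
  have hre : ∑ φ : Cfsg.IrrCharacter X, (m φ : ℝ) * ((φ : X → ℂ) g).re =
      ∑ φ : Cfsg.IrrCharacter X, (m φ : ℝ) * ((φ : X → ℂ) 1).re := by
    have h := congrArg Complex.re ((congrFun hsum g).symm.trans (hg.trans (congrFun hsum 1)))
    simpa [Complex.re_sum] using h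
  have hψm : m ψ ≠ 0 := fun h0 => hψ (by rw [hm, h0, Nat.cast_zero])
  have heq := (Finset.sum_eq_sum_iff_of_le fun φ _ =>
    mul_le_mul_of_nonneg_left (hbound φ) (Nat.cast_nonneg _)).mp hre ψ (mem_univ ψ)
  have hre' : ((ψ : X → ℂ) g).re = (natDeg (ψ : X → ℂ) : ℝ) := by
    rw [mul_left_cancel₀ (Nat.cast_ne_zero.mpr hψm) heq, natDeg_spec (irr_isCharacter ψ),
      Complex.natCast_re]
  have hn := norm_le_degree_of_isCharacter (irr_isCharacter ψ) g
  rw [natDeg_spec (irr_isCharacter ψ), Complex.norm_natCast] at hn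
  rw [natDeg_spec (irr_isCharacter ψ)]
  have hsq : ((ψ : X → ℂ) g).re ^ 2 + ((ψ : X → ℂ) g).im ^ 2 ≤ (natDeg (ψ : X → ℂ) : ℝ) ^ 2 := by
    have := pow_le_pow_left₀ (norm_nonneg _) hn 2
    rw [← Complex.normSq_eq_norm_sq, Complex.normSq_apply] at this
    linarith [sq (((ψ : X → ℂ) g).re), sq (((ψ : X → ℂ) g).im)]
  rw [hre'] at hsq
  have him : ((ψ : X → ℂ) g).im = 0 :=
    pow_eq_zero_iff two_ne_zero |>.mp (le_antisymm (by linarith) (sq_nonneg _))
  exact Complex.ext (by rw [hre', Complex.natCast_re]) (by rw [him, Complex.natCast_im])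

omit [Fintype L] [Fintype K] in
/-- degree bound through a subgroup with a central section in the kernel -/
theorem sq_natDeg_le_section {X : Type*} [Group X] [Finite X] {θ : X → ℂ}
    (hθ : Cfsg.IsIrrCharacter X θ) (C D : Subgroup X)
    (hcent : ∀ d ∈ D, ∀ c ∈ C, θ (d * c * d⁻¹ * c⁻¹) = θ 1) :
    natDeg θ ^ 2 ≤ C.index ^ 2 * D.relIndex C := by
  haveI := Fintype.ofFinite X
  haveI := Fintype.ofFinite C
  have hθc := isCharacter_of_irr hθ
  have hres := isCharacter_subtype hθc C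
  have h0 : (fun c : C => θ c) ≠ 0 := fun e => by
    have := congrFun e 1
    obtain ⟨m, hm0, hm⟩ := irr_exists_degree hθ
    simp [hm, hm0.ne'] at this
  obtain ⟨φ, hφ⟩ := exists_constituent hres h0
  have hb : natDeg (φ : C → ℂ) ^ 2 ≤ D.relIndex C := by
    refine sq_natDeg_le φ.2 (D.subgroupOf C) fun d hd => ?_
    refine norm_eq_of_central φ.2 fun c => ?_
    exact constituent_eq_one hres hφ
      (by simpa using hcent d (Subgroup.mem_subgroupOf.mp hd) c c.2)
  have hle : natDeg θ ≤ C.index * natDeg (φ : C → ℂ) := by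
    set P := Cfsg.indFun C (φ : C → ℂ) with hP
    have hPc : Cfsg.IsCharacter X P := CfsgLib.Induction.isCharacter_indFun C (irr_isCharacter φ)
    obtain ⟨m, hm, hsum⟩ := exists_mult hPc
    have hne : m ⟨θ, hθ⟩ ≠ 0 := fun e => hφ (by
      have hh := hm ⟨θ, hθ⟩
      rw [hP, CfsgLib.Induction.classInner_indFun C _ (isClassFunction_of_isCharacter hθc), e,
        Nat.cast_zero] at hh
      rw [classInner_conj_symm (φ : C → ℂ), hh, map_zero])
    have h1 := congrFun hsum 1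
    simp only [Finset.sum_apply, Pi.smul_apply, smul_eq_mul] at h1
    rw [natDeg_spec hPc, hP, natDeg_indFun (irr_isCharacter φ),
      Finset.sum_congr rfl fun ψ _ => by rw [natDeg_spec (irr_isCharacter ψ)]] at h1
    have h2 : C.index * natDeg (φ : C → ℂ) =
        ∑ ψ : Cfsg.IrrCharacter X, m ψ * natDeg (ψ : X → ℂ) := by exact_mod_cast h1
    rw [h2]
    refine le_trans ?_ (Finset.single_le_sum (fun ψ _ => Nat.zero_le _) (mem_univ ⟨θ, hθ⟩))
    exact Nat.le_mul_of_pos_left _ (Nat.pos_of_ne_zero hne)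
  calc natDeg θ ^ 2 ≤ (C.index * natDeg (φ : C → ℂ)) ^ 2 := Nat.pow_le_pow_left hle 2
    _ = C.index ^ 2 * natDeg (φ : C → ℂ) ^ 2 := mul_pow _ _ _
    _ ≤ _ := Nat.mul_le_mul_left _ hb

end CfsgLib.OddChar
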