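import Cfsg.Agent.Lib.OddChar.Coherence
import Cfsg.Agent.Lib.OddChar.Signed

set_option autoImplicit false

/-! Adding one irreducible character to a coherent set, for an arbitrary group. -/

namespace CfsgLib.OddChar

theorem coherent_insert_irr {G : Type*} [Group G] [Fintype G] {N : Type*} [Group N] [Fintype N] (S₀ : Finset (N → ℂ)) (χ : N → ℂ) (hirr : ∀ ξ ∈ S₀, Cfsg.IsIrrCharacter N ξ) (hχ : Cfsg.IsIrrCharacter N χ) (hχS : χ ∉ S₀) (d : (N → ℂ) → ℕ) (hd : ∀ ξ ∈ insert χ S₀, ξ 1 = (d ξ : ℂ)) (τ : (N → ℂ) → (G → ℂ)) (hτ : Cfsg.IsLinearIsometryOn (Cfsg.zspanOn (↑(insert χ S₀) : Set (N → ℂ)) {1}ᶜ) τ) (hτ1 : ∀ α ∈ Cfsg.zspanOn (↑(insert χ S₀) : Set (N → ℂ)) {1}ᶜ, τ α 1 = 0) (hcoh : Cfsg.IsCoherent (↑S₀ : Set (N → ℂ)) {1}ᶜ τ) (ψ : N → ℂ) (hψ : ψ ∈ S₀) (hdvd : d ψ ∣ d χ) (hlt : 2 * d ψ * d χ < ∑ ξ ∈ S₀, d ξ ^ 2) : Cfsg.IsCoherent (↑(insert χ S₀) : Set (N → ℂ)) {1}ᶜ τ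 := by
  classical
  set U := insert χ S₀ with hU
  have hirrU : ∀ ξ ∈ U, Cfsg.IsIrrCharacter N ξ := fun ξ hξ => by
    rcases Finset.mem_insert.mp hξ with rfl | h
    exacts [hχ, hirr ξ h]
  have hSU : ∀ ξ ∈ S₀, ξ ∈ U := fun ξ h => Finset.mem_insert_of_mem h
  have hχU : χ ∈ U := Finset.mem_insert_self χ S₀
  have horth : ∀ a ∈ U, ∀ b ∈ U, a ≠ b → Cfsg.classInner a b = 0 := fun a ha b hb h =>
    CfsgLib.Characters.classInner_irr_ne (hirrU a ha) (hirrU b hb) h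
  have hone : ∀ a ∈ U, Cfsg.classInner a a = 1 := fun a ha =>
    CfsgLib.Characters.classInner_irr_self (hirrU a ha)
  have hd0 : ∀ a ∈ U, d a ≠ 0 := fun a ha e => by
    obtain ⟨k, hk, hk'⟩ := CfsgLib.Characters.irr_exists_degree (hirrU a ha)
    rw [hd a ha, e, Nat.cast_zero] at hk'
    exact hk.ne' (by exact_mod_cast hk'.symm)
  obtain ⟨⟨ν, hνm, hν0⟩, τ₁, hτ₁, hext⟩ := hcoh
  have hz : ∀ φ ∈ S₀, φ ∈ Cfsg.zspan (↑S₀ : Set (N → ℂ)) := fun φ h =>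
    CfsgLib.OddChar.zspan_of_mem (Finset.mem_coe.mpr h)
  have hsubset : (↑S₀ : Set (N → ℂ)) ⊆ ↑U := fun x hx => hSU x hx
  obtain ⟨a, ha⟩ := hdvd
  set γ₀ := χ - (a : ℤ) • ψ with hγ₀
  have hψU := hSU ψ hψ
  have hχne : ∀ φ ∈ S₀, χ ≠ φ := fun φ h e => hχS (e ▸ h)
  have hγ₀m : γ₀ ∈ Cfsg.zspanOn (↑U : Set (N → ℂ)) {1}ᶜ :=
    CfsgLib.OddChar.zspanOn_compl_one.mpr ⟨CfsgLib.OddChar.zspan_sub
      (CfsgLib.OddChar.zspan_of_mem hχU)
      (CfsgLib.OddChar.zspan_zsmul _ (CfsgLib.OddChar.zspan_of_mem hψU)), by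
      simp [hγ₀, hd χ hχU, hd ψ hψU, ha, mul_comm]⟩
  set β := τ γ₀ with hβ
  have hββ : Cfsg.classInner β β = ((1 + (a : ℤ) ^ 2 : ℤ) : ℂ) := by
    rw [hβ, hτ.2.2.1 _ hγ₀m _ hγ₀m, hγ₀, CfsgLib.Characters.classInner_sub_left,
      CfsgLib.Characters.classInner_sub_right, CfsgLib.Characters.classInner_sub_right,
      CfsgLib.OddChar.classInner_zsmul_left, CfsgLib.OddChar.classInner_zsmul_left,
      CfsgLib.OddChar.classInner_zsmul_right, CfsgLib.OddChar.classInner_zsmul_right,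
      hone χ hχU, hone ψ hψU, horth χ hχU ψ hψU (hχne ψ hψ),
      horth ψ hψU χ hχU (hχne ψ hψ).symm]
    push_cast; ring
  have hτn : ∀ φ ∈ S₀, Cfsg.classInner (τ₁ φ) (τ₁ φ) = 1 := fun φ h => by
    rw [hτ₁.2.2.1 φ (hz φ h) φ (hz φ h), hone φ (hSU φ h)]
  have hτo : ∀ φ ∈ S₀, ∀ ξ ∈ S₀, φ ≠ ξ → Cfsg.classInner (τ₁ φ) (τ₁ ξ) = 0 := fun φ h ξ k e => by
    rw [hτ₁.2.2.1 φ (hz φ h) ξ (hz ξ k), horth φ (hSU φ h) ξ (hSU ξ k) e]
  have hcoef : ∀ φ, ∃ c : ℤ, φ ∈ S₀ → Cfsg.classInner β (τ₁ φ) = c := by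
    intro φ
    by_cases h : φ ∈ S₀
    · obtain ⟨c, hc⟩ := CfsgLib.Characters.classInner_generalized_int (hτ.2.2.2 _ hγ₀m)
        (hτ₁.2.2.2 φ (hz φ h))
      exact ⟨c, fun _ => hc⟩
    · exact ⟨0, fun h' => absurd h' h⟩
  choose c hc using hcoef
  set z : ℤ := c ψ + a with hzdef
  have hm : ∀ φ ∈ S₀, (d ψ : ℤ) • φ - (d φ : ℤ) • ψ ∈ Cfsg.zspanOn (↑S₀ : Set (N → ℂ)) {1}ᶜ :=
    fun φ h => CfsgLib.OddChar.zspanOn_compl_one.mpr ⟨CfsgLib.OddChar.zspan_sub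
      (CfsgLib.OddChar.zspan_zsmul _ (hz φ h)) (CfsgLib.OddChar.zspan_zsmul _ (hz ψ hψ)), by
      simp [hd φ (hSU φ h), hd ψ hψU, mul_comm]⟩
  have hτm : ∀ φ ∈ S₀, τ ((d ψ : ℤ) • φ - (d φ : ℤ) • ψ) =
      (d ψ : ℤ) • τ₁ φ - (d φ : ℤ) • τ₁ ψ := fun φ h => by
    rw [← hext _ (hm φ h), CfsgLib.OddChar.isometry_sub hτ₁
      (CfsgLib.OddChar.zspan_zsmul _ (hz φ h)) (CfsgLib.OddChar.zspan_zsmul _ (hz ψ hψ))
      (hm φ h).1, hτ₁.2.1 _ (hz φ h), hτ₁.2.1 _ (hz ψ hψ)]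
  have hrel : ∀ φ ∈ S₀, (d ψ : ℤ) * c φ =
      (d φ : ℤ) * z - (a : ℤ) * d ψ * (if φ = ψ then 1 else 0) := by
    intro φ h
    have hh := hτ.2.2.1 _ hγ₀m _ (CfsgLib.OddChar.zspanOn_mono hsubset _ (hm φ h))
    rw [hτm φ h, ← hβ, CfsgLib.Characters.classInner_sub_right,
      CfsgLib.OddChar.classInner_zsmul_right, CfsgLib.OddChar.classInner_zsmul_right, hc φ h,
      hc ψ hψ, hγ₀, CfsgLib.Characters.classInner_sub_left,
      CfsgLib.Characters.classInner_sub_right, CfsgLib.Characters.classInner_sub_right,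
      CfsgLib.OddChar.classInner_zsmul_left, CfsgLib.OddChar.classInner_zsmul_left,
      CfsgLib.OddChar.classInner_zsmul_right, CfsgLib.OddChar.classInner_zsmul_right,
      CfsgLib.OddChar.classInner_zsmul_right, CfsgLib.OddChar.classInner_zsmul_right,
      horth χ hχU φ (hSU φ h) (hχne φ h), horth χ hχU ψ hψU (hχne ψ hψ), hone ψ hψU] at hh
    by_cases e : φ = ψ
    · subst e; rw [if_pos rfl, hzdef]; ring
    · rw [if_neg e]
      rw [horth ψ hψU φ (hSU φ h) (Ne.symm e)] at hh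
      push_cast at hh
      have : (((d ψ : ℤ) * c φ : ℤ) : ℂ) = (((d φ : ℤ) * z - (a : ℤ) * d ψ * 0 : ℤ) : ℂ) := by
        rw [hzdef]; push_cast; linear_combination hh
      exact_mod_cast this
  have hinj : Set.InjOn τ₁ (↑S₀ : Set (N → ℂ)) := by
    intro φ h ξ k e
    by_contra hne
    have := hτo φ h ξ k hne
    rw [e, hτn ξ k] at this
    exact one_ne_zero this
  set E := S₀.image τ₁ with hE
  have hEo : ∀ x ∈ E, ∀ y ∈ E, x ≠ y → Cfsg.classInner x y = 0 := by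
    intro x hx y hy hxy
    obtain ⟨φ, hφ, rfl⟩ := Finset.mem_image.mp hx
    obtain ⟨ξ, hξ, rfl⟩ := Finset.mem_image.mp hy
    exact hτo φ hφ ξ hξ fun e => hxy (e ▸ rfl)
  have hEn : ∀ x ∈ E, Cfsg.classInner x x ≠ 0 := by
    intro x hx
    obtain ⟨φ, hφ, rfl⟩ := Finset.mem_image.mp hx
    rw [hτn φ hφ]; exact one_ne_zero
  set Q := ∑ φ ∈ S₀, c φ ^ 2 with hQ
  have hsumE : ∑ x ∈ E, Cfsg.classInner β x * (starRingEnd ℂ) (Cfsg.classInner β x) /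
      Cfsg.classInner x x = (Q : ℂ) := by
    rw [hE, Finset.sum_image hinj, hQ, Int.cast_sum]
    refine Finset.sum_congr rfl fun φ hφ => ?_
    rw [hτn φ hφ, hc φ hφ, map_intCast, div_one]
    push_cast; ring
  set W := CfsgLib.OddChar.orthProj E β with hW
  have hres : Cfsg.classInner (β - W) (β - W) = ((1 + (a : ℤ) ^ 2 - Q : ℤ) : ℂ) := by
    rw [hW, CfsgLib.OddChar.orthProj_pythagoras hEo hEn, hsumE, hββ]
    push_cast; ring
  set T := ∑ φ ∈ S₀, (d φ : ℤ) ^ 2 with hT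
  have hQT : (d ψ : ℤ) ^ 2 * Q = z ^ 2 * T - 2 * a * z * (d ψ : ℤ) ^ 2 +
      (a : ℤ) ^ 2 * (d ψ : ℤ) ^ 2 := by
    have e : ∀ φ ∈ S₀, (d ψ : ℤ) ^ 2 * c φ ^ 2 = z ^ 2 * (d φ : ℤ) ^ 2 +
        (if φ = ψ then -2 * a * z * (d ψ : ℤ) ^ 2 + (a : ℤ) ^ 2 * (d ψ : ℤ) ^ 2 else 0) := by
      intro φ hφ
      rw [← mul_pow, hrel φ hφ]
      split_ifs with e
      · subst e; ring
      · ring
    rw [hQ, Finset.mul_sum, Finset.sum_congr rfl e, Finset.sum_add_distrib, ← Finset.mul_sum,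
      Finset.sum_ite_eq', if_pos hψ]
    ring
  have hres0 : 0 ≤ 1 + (a : ℤ) ^ 2 - Q := by
    have h := CfsgLib.OddChar.classInner_self_re_nonneg (β - W)
    rw [hres, Complex.intCast_re] at h
    exact_mod_cast h
  have hdψ : (0 : ℤ) < d ψ := by exact_mod_cast Nat.pos_of_ne_zero (hd0 ψ hψU)
  have hTlt : 2 * (a : ℤ) * (d ψ : ℤ) ^ 2 < T := by
    have h' : ((2 * d ψ * d χ : ℕ) : ℤ) < ((∑ ξ ∈ S₀, d ξ ^ 2 : ℕ) : ℤ) := by exact_mod_cast hlt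
    rw [ha] at h'
    push_cast at h'
    rw [hT]; linarith [h', show (2 : ℤ) * d ψ * (d ψ * a) = 2 * a * (d ψ : ℤ) ^ 2 by ring]
  have hWeq : W = ∑ φ ∈ S₀, c φ • τ₁ φ := by
    rw [hW, CfsgLib.OddChar.orthProj, hE, Finset.sum_image hinj]
    refine Finset.sum_congr rfl fun φ hφ => ?_
    rw [hτn φ hφ, hc φ hφ, div_one, CfsgLib.OddChar.zsmul_eq_smul]
  have hz0 : z = 0 := by
    by_contra hz0
    have hz2 : 1 ≤ z ^ 2 := by nlinarith [Int.one_le_abs hz0, sq_abs z, abs_nonneg z]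
    have hzz : z ≤ z ^ 2 := Int.le_self_sq z
    have haz : (a : ℤ) * z ≤ (a : ℤ) * z ^ 2 := by gcongr
    have h1 : z ^ 2 * (2 * (a : ℤ) * (d ψ : ℤ) ^ 2) < z ^ 2 * T :=
      mul_lt_mul_of_pos_left hTlt (by linarith)
    have hQlo : (a : ℤ) ^ 2 < Q := by nlinarith [h1, hQT, haz, hdψ, mul_pos hdψ hdψ]
    have hQeq : 1 + (a : ℤ) ^ 2 - Q = 0 := by omega
    have hβW : β = W := sub_eq_zero.mp
      (CfsgLib.OddChar.eq_zero_of_classInner_self (by rw [hres, hQeq, Int.cast_zero]))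
    have hdeg1 : ∀ φ ∈ S₀, (d ψ : ℂ) * τ₁ φ 1 = (d φ : ℂ) * τ₁ ψ 1 := by
      intro φ h
      have hh := hτ1 _ (CfsgLib.OddChar.zspanOn_mono hsubset _ (hm φ h))
      rw [hτm φ h] at hh
      simp only [CfsgLib.OddChar.zsmul_eq_smul, Int.cast_natCast, Pi.sub_apply, Pi.smul_apply,
        smul_eq_mul] at hh
      linear_combination hh
    have hβ1 : β 1 = 0 := hτ1 _ hγ₀m
    rw [hβW, hWeq] at hβ1
    simp only [CfsgLib.OddChar.zsmul_eq_smul, Finset.sum_apply, Pi.smul_apply, smul_eq_mul] at hβ1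
    have h2 : ((∑ φ ∈ S₀, (d ψ : ℤ) * c φ * d φ : ℤ) : ℂ) * τ₁ ψ 1 = 0 := by
      rw [Int.cast_sum, Finset.sum_mul]
      calc _ = ∑ φ ∈ S₀, (d ψ : ℂ) ^ 2 * ((c φ : ℂ) * τ₁ φ 1) := by
            refine Finset.sum_congr rfl fun φ h => ?_
            push_cast
            linear_combination -(d ψ : ℂ) * (c φ : ℂ) * hdeg1 φ h
        _ = 0 := by rw [← Finset.mul_sum, hβ1, mul_zero]
    have hne1 : τ₁ ψ 1 ≠ 0 := (CfsgLib.OddChar.isSigned_of_norm_one (hτ₁.2.2.2 ψ (hz ψ hψ))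
      (hτn ψ hψ)).apply_one_ne_zero
    have h3 : ∑ φ ∈ S₀, (d ψ : ℤ) * c φ * d φ = 0 := by
      exact_mod_cast (mul_eq_zero.mp h2).resolve_right hne1
    have e : ∀ φ ∈ S₀, (d ψ : ℤ) * c φ * d φ =
        z * (d φ : ℤ) ^ 2 + (if φ = ψ then -(a : ℤ) * (d ψ : ℤ) ^ 2 else 0) := by
      intro φ h
      rw [hrel φ h]
      split_ifs with e
      · subst e; ring
      · ring
    rw [Finset.sum_congr rfl e, Finset.sum_add_distrib, ← Finset.mul_sum, Finset.sum_ite_eq',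
      if_pos hψ, ← hT] at h3
    have h4 : (1 + (a : ℤ) * z) * (d ψ : ℤ) ^ 2 = 0 := by
      have : Q = 1 + (a : ℤ) ^ 2 := by omega
      rw [this] at hQT
      linear_combination hQT + z * h3
    have h5 : (a : ℤ) * z = -1 := by
      have := (mul_eq_zero.mp h4).resolve_right (pow_ne_zero _ hdψ.ne'); linarith
    have h6 : z < 0 := by
      by_contra hc0
      have := mul_nonneg (Nat.cast_nonneg (α := ℤ) a) (not_lt.mp hc0)
      linarith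
    nlinarith [mul_neg_of_neg_of_pos h6
      (lt_of_le_of_lt (by positivity : (0:ℤ) ≤ 2 * (a : ℤ) * (d ψ : ℤ) ^ 2) hTlt),
      mul_nonneg (Nat.cast_nonneg (α := ℤ) a) (sq_nonneg (d ψ : ℤ))]
  have hcψ : ∀ φ ∈ S₀, c φ = -(a : ℤ) * (if φ = ψ then 1 else 0) := by
    intro φ h
    have h0 := hrel φ h
    rw [hz0] at h0
    exact mul_left_cancel₀ hdψ.ne' (by linear_combination h0)
  have hQa : Q = (a : ℤ) ^ 2 := by
    rw [hz0] at hQT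
    exact mul_left_cancel₀ (pow_ne_zero 2 hdψ.ne') (by linear_combination hQT)
  have hW2 : W = (-(a : ℤ)) • τ₁ ψ := by
    rw [hWeq, Finset.sum_eq_single ψ]
    · rw [hcψ ψ hψ, if_pos rfl, mul_one]
    · intro φ h hne; rw [hcψ φ h, if_neg hne, mul_zero, zero_smul]
    · exact fun h => absurd hψ h
  set Y := β - W with hY
  have hYτ : ∀ φ ∈ S₀, Cfsg.classInner Y (τ₁ φ) = 0 := fun φ h => by
    rw [hY, CfsgLib.Characters.classInner_sub_left, hW,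
      CfsgLib.OddChar.classInner_orthProj hEo hEn β (Finset.mem_image_of_mem τ₁ h), sub_self]
  set v : (N → ℂ) → (G → ℂ) := fun φ => if φ = χ then Y else τ₁ φ with hv
  have vχ : v χ = Y := by simp [hv]
  have vS : ∀ φ ∈ S₀, v φ = τ₁ φ := fun φ h => by simp [hv, (hχne φ h).symm]
  refine CfsgLib.OddChar.coherent_of_images U v horth
    (fun φ h => by rw [hone φ h]; exact one_ne_zero) ?_ ?_ (fun φ => (d φ : ℤ))
    (fun φ h => by rw [hd φ h, Int.cast_natCast]) ψ hψU hdψ.ne' hτ ?_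
    ⟨ν, CfsgLib.OddChar.zspanOn_mono hsubset _ hνm, hν0⟩
  · intro φ h
    rcases Finset.mem_insert.mp h with rfl | k
    · rw [vχ, hY, hW2]
      exact CfsgLib.Characters.isGeneralizedCharacter_sub (hτ.2.2.2 _ hγ₀m)
        (CfsgLib.Characters.isGeneralizedCharacter_zsmul (hτ₁.2.2.2 ψ (hz ψ hψ)) _)
    · rw [vS φ k]; exact hτ₁.2.2.2 φ (hz φ k)
  · intro φ h ξ h'
    rcases Finset.mem_insert.mp h with rfl | k <;> rcases Finset.mem_insert.mp h' with rfl | k'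
    · rw [vχ, hY, hres, hQa, hone _ hχU]; simp
    · rw [vχ, vS _ k', hYτ _ k', horth _ hχU _ (hSU _ k') (hχne _ k')]
    · rw [vS _ k, vχ, CfsgLib.Characters.classInner_conj_symm, hYτ _ k, map_zero,
        horth _ (hSU _ k) _ hχU (hχne _ k).symm]
    · rw [vS _ k, vS _ k', hτ₁.2.2.1 _ (hz _ k) _ (hz _ k')]
  · intro φ h
    rcases Finset.mem_insert.mp h with rfl | k
    · have e : (d ψ : ℤ) • φ - (d φ : ℤ) • ψ = (d ψ : ℤ) • γ₀ := by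
        rw [hγ₀, ha, smul_sub, smul_smul]; push_cast; rfl
      rw [vχ, vS ψ hψ, e, hτ.2.1 _ hγ₀m, ← hβ, hY, hW2, ha]
      push_cast
      module
    · rw [vS φ k, vS ψ hψ]; exact hτm φ k

end CfsgLib.OddChar
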