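import Cfsg.Agent.Lib.OddChar.FrobeniusQuot
import Cfsg.Agent.Lib.Characters.Values
import Cfsg.Agent.Lib.Characters.Generalized
import Cfsg.Prelude.Def_OddOrderLocal

set_option autoImplicit false
set_option linter.style.haveILetI false
set_option linter.unusedSectionVars false

/-! The congruence for a character constant on a central TI section of a Sylow subgroup. -/

namespace CfsgLib.OddChar

open scoped Classical ComplexConjugate
open Finset CfsgLib.Characters

/-- a sum of an invariant function over a free action is divisible by the order of the group -/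
theorem sum_free_invariant {P X : Type*} [Group P] [Fintype P] [Fintype X] [MulAction P X]
    (hfree : ∀ x : X, MulAction.stabilizer P x = ⊥) (f : X → ℂ) (hinv : ∀ (u : P) x, f (u • x) = f x)
    (hint : ∀ x, IsIntegral ℤ (f x)) :
    ∃ c : ℂ, IsIntegral ℤ c ∧ ∑ x, f x = (Nat.card P : ℂ) * c := by
  haveI : Fintype (Quotient (MulAction.orbitRel P X)) := Fintype.ofFinite _
  refine ⟨∑ q : Quotient (MulAction.orbitRel P X), f q.out, IsIntegral.sum _ fun q _ => hint _, ?_⟩
  let e := MulAction.selfEquivOrbitsQuotientProd (G := P) hfree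
  have he : ∀ x, f x = f (e x).1.out := fun x => by
    have h1 : (e x).1 = Quotient.mk'' x := by
      simp [e, MulAction.selfEquivOrbitsQuotientProd, MulAction.selfEquivOrbitsQuotientProd',
        MulAction.selfEquivSigmaOrbitsQuotientStabilizer', MulAction.selfEquivSigmaOrbits']
      rfl
    rw [h1]
    obtain ⟨u, hu⟩ : (Quotient.mk'' x : Quotient (MulAction.orbitRel P X)).out ∈ MulAction.orbit P x :=
      MulAction.orbitRel_apply.mp (Quotient.exact' (Quotient.out_eq' _))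
    rw [← hu]
    exact (hinv u x).symm
  rw [Finset.sum_congr rfl fun x _ => he x,
    Equiv.sum_comp e (fun y : Quotient (MulAction.orbitRel P X) × P => f y.1.out),
    Fintype.sum_prod_type, Finset.mul_sum]
  refine Finset.sum_congr rfl fun q _ => ?_
  show ∑ _y : P, f q.out = _
  rw [Finset.sum_const, Finset.card_univ, nsmul_eq_mul, Nat.card_eq_fintype_card]

variable {G : Type*} [Group G] [Fintype G] {p : ℕ} [Fact p.Prime] {P : Sylow p G}

theorem class_product_eq {ψ : G → ℂ} (hψ : Cfsg.IsIrrCharacter G ψ) {z z' : G}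
    (hcard : Nat.card {x : G // IsConj z x} = Nat.card {x : G // IsConj z' x}) (hval : ψ z = ψ z') :
    ∑ x ∈ univ.filter (IsConj z ·), ∑ y ∈ univ.filter (IsConj z ·), ψ (x * y) =
      ∑ x ∈ univ.filter (IsConj z ·), ∑ y ∈ univ.filter (IsConj z' ·), ψ (x * y) := by
  obtain ⟨n, ρ, hρ, rfl⟩ := hψ
  haveI := hρ
  have key : ∀ (w x : G), ∑ y ∈ univ.filter (IsConj w ·), ρ.character (x * y) =
      ((Nat.card {y : G // IsConj w y} : ℂ) * ρ.character w /
        (Module.finrank ℂ (Fin n → ℂ) : ℂ)) * ρ.character x := by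
    intro w x
    have h1 : ∑ y ∈ univ.filter (IsConj w ·), ρ.character (x * y) =
        LinearMap.trace ℂ (Fin n → ℂ) (ρ x * funEnd ρ (fun y => if IsConj w y then 1 else 0)) := by
      rw [funEnd, Finset.mul_sum, map_sum, Finset.sum_filter]
      refine Finset.sum_congr rfl fun y _ => ?_
      split_ifs with h
      · rw [one_smul, ← map_mul]; rfl
      · rw [zero_smul, mul_zero, map_zero]
    rw [h1, funEnd_classSum, mul_smul_comm, mul_one, map_smul, smul_eq_mul]
    rfl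
  refine Finset.sum_congr rfl fun x _ => ?_
  rw [key z x, key z' x, hcard, hval]

theorem mem_normalizer_of_TI (hTI : Cfsg.IsTISubset ((P : Subgroup G) : Set G)) {c u : G}
    (hu : u ∈ (P : Subgroup G)) (hu1 : u ≠ 1) (hc : c * u * c⁻¹ ∈ (P : Subgroup G)) :
    c ∈ Subgroup.normalizer ((P : Subgroup G) : Set G) :=
  by_contra fun h => hu1 (hTI c h u hu hc)

theorem mem_sylow_of_normalizing {u : G} (hu : u ∈ Subgroup.normalizer ((P : Subgroup G) : Set G))
    (hp : ∃ k, orderOf u = p ^ k) : u ∈ (P : Subgroup G) := by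
  obtain ⟨k, hk⟩ := hp
  have h1 : IsPGroup p (Subgroup.zpowers u) := IsPGroup.of_card (by rw [Nat.card_zpowers, hk])
  have h2 := IsPGroup.to_sup_of_normal_right' h1 P.isPGroup'
    ((Subgroup.zpowers_le).mpr hu)
  have h3 := P.is_maximal' h2 le_sup_right
  exact h3 ▸ Subgroup.mem_sup_left (Subgroup.mem_zpowers u)

/-- outside `Z`, conjugates of elements of `Z` are centralised by no non-identity element of `P` -/
theorem free_of_notMem (hTI : Cfsg.IsTISubset ((P : Subgroup G) : Set G)) {Z : Subgroup G}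
    (hZP : Z ≤ (P : Subgroup G))
    (hZn : ∀ x ∈ Subgroup.normalizer ((P : Subgroup G) : Set G), ∀ z ∈ Z, x * z * x⁻¹ ∈ Z)
    {z₀ x u : G} (hz₀ : z₀ ∈ Z) (hz1 : z₀ ≠ 1) (hx : IsConj z₀ x) (hxZ : x ∉ Z)
    (hu : u ∈ (P : Subgroup G)) (hux : u * x * u⁻¹ = x) : u = 1 := by
  obtain ⟨g, rfl⟩ := isConj_iff.mp hx
  by_contra hu1
  have hc : (g⁻¹ * u * g) * z₀ * (g⁻¹ * u * g)⁻¹ = z₀ := by
    calc _ = g⁻¹ * (u * (g * z₀ * g⁻¹) * u⁻¹) * g := by group
      _ = z₀ := by rw [hux]; group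
  have hN := mem_normalizer_of_TI hTI (hZP hz₀) hz1 (by rw [hc]; exact hZP hz₀)
  obtain ⟨k, hk⟩ := (IsPGroup.iff_orderOf.mp P.isPGroup') ⟨u, hu⟩
  have hord : orderOf (g⁻¹ * u * g) = p ^ k := by
    rw [show g⁻¹ * u * g = MulAut.conj g⁻¹ u by simp, MulEquiv.orderOf_eq, ← hk,
      Subgroup.orderOf_mk]
  have hP := mem_sylow_of_normalizing hN ⟨k, hord⟩
  have hg := mem_normalizer_of_TI hTI hu hu1 (c := g⁻¹) (by simpa using hP)
  exact hxZ (hZn g (by simpa using (Subgroup.normalizer _).inv_mem hg) z₀ hz₀)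

theorem ti_congruence (hTI : Cfsg.IsTISubset ((P : Subgroup G) : Set G))
    (hodd : Odd (Nat.card (Subgroup.normalizer ((P : Subgroup G) : Set G)))) (Z : Subgroup G)
    (hZP : Z ≤ (P : Subgroup G))
    (hZn : ∀ x ∈ Subgroup.normalizer ((P : Subgroup G) : Set G), ∀ z ∈ Z, x * z * x⁻¹ ∈ Z)
    (hZc : ∀ z ∈ Z, ∀ y ∈ (P : Subgroup G), z * y = y * z) {ψ : G → ℂ}
    (hψ : Cfsg.IsIrrCharacter G ψ) (hconst : ∀ z ∈ Z, ∀ z' ∈ Z, z ≠ 1 → z' ≠ 1 → ψ z = ψ z')
    {z : G} (hz : z ∈ Z) (hz1 : z ≠ 1) :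
    ∃ n d : ℤ, ψ z = n ∧ ψ 1 = d ∧ (Nat.card (P : Subgroup G) : ℤ) ∣ d - n := by
  set N := Subgroup.normalizer ((P : Subgroup G) : Set G) with hN
  obtain ⟨d, hd0, hd⟩ := irr_exists_degree hψ
  have hψc := isCharacter_of_irr hψ
  -- rationality
  haveI : Fintype Z := Fintype.ofFinite Z
  have hres : Cfsg.IsGeneralizedCharacter Z (fun w : Z => ψ w) :=
    isGeneralizedCharacter_of_isCharacter (CfsgLib.Clifford.isCharacter_subtype hψc Z)
  obtain ⟨m, hm⟩ := classInner_generalized_int hres isGeneralizedCharacter_one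
  have hZcard : (Nat.card Z : ℂ) ≠ 0 := Nat.cast_ne_zero.mpr Nat.card_pos.ne'
  have hsumZ : (d : ℂ) + ((Nat.card Z : ℂ) - 1) * ψ z = (Nat.card Z : ℂ) * m := by
    rw [← hm, Cfsg.classInner, mul_inv_cancel_left₀ hZcard,
      ← Finset.add_sum_erase _ _ (mem_univ (1 : Z))]
    simp only [Pi.one_apply, map_one, mul_one, OneMemClass.coe_one, hd]
    congr 1
    rw [Finset.sum_congr rfl (g := fun _ : Z => ψ z)
      (fun w hw => hconst w w.2 z hz (fun e => Finset.ne_of_mem_erase hw (Subtype.ext e)) hz1),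
      Finset.sum_const, Finset.card_erase_of_mem (mem_univ _), Finset.card_univ, nsmul_eq_mul,
      Nat.card_eq_fintype_card, Nat.cast_sub Fintype.card_pos, Nat.cast_one]
  have hZ1 : 1 < Nat.card Z := (Subgroup.one_lt_card_iff_ne_bot Z).mpr fun e =>
    hz1 (Subgroup.mem_bot.mp (e ▸ hz))
  have hz1c : (Nat.card Z : ℂ) - 1 ≠ 0 := by
    rw [sub_ne_zero]; exact_mod_cast hZ1.ne'
  have hrat : ψ z = ((((Nat.card Z : ℚ) * m - d) / ((Nat.card Z : ℚ) - 1) : ℚ) : ℂ) := by
    push_cast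
    rw [eq_div_iff hz1c]
    linear_combination hsumZ
  obtain ⟨n, hn⟩ := exists_int_of_isIntegral_rat (hrat ▸ isIntegral_of_isCharacter hψc z)
  have hn' : ψ z = (n : ℂ) := by rw [hrat, ← hn]; simp
  -- the local classes
  have hnr : ¬ IsConj z z⁻¹ := by
    intro h
    obtain ⟨x, hx⟩ := isConj_iff.mp h
    have hxN : x ∈ N := mem_normalizer_of_TI hTI (hZP hz) hz1
      (by rw [hx]; exact (P : Subgroup G).inv_mem (hZP hz))
    obtain ⟨t, ht⟩ := hodd.of_dvd_nat (N.orderOf_dvd_natCard hxN)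
    have h2 : Commute (x ^ 2) z := by
      show x ^ 2 * z = z * x ^ 2
      have : x * z = z⁻¹ * x := mul_inv_eq_iff_eq_mul.mp hx
      have h3 : x * z⁻¹ = z * x := by
        have := congrArg (fun a => z * a * z⁻¹) this
        simp only [mul_inv_cancel_left] at this
        rw [mul_assoc, mul_assoc, mul_inv_cancel, mul_one] at this
        exact this.symm
      rw [sq, mul_assoc, this, ← mul_assoc, h3, mul_assoc]
    have h4 : Commute x z := by
      have := h2.pow_left (t + 1)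
      rw [← pow_mul, show 2 * (t + 1) = orderOf x + 1 by omega, pow_succ, pow_orderOf_eq_one,
        one_mul] at this
      exact this
    rw [h4.eq, mul_inv_cancel_right] at hx
    have hz2 : z ^ 2 = 1 := by rw [sq]; exact eq_inv_iff_mul_eq_one.mp hx
    have : orderOf z ∣ 2 := orderOf_dvd_of_pow_eq_one hz2
    rcases (Nat.dvd_prime Nat.prime_two).mp this with h | h
    · exact hz1 (orderOf_eq_one_iff.mp h)
    · have hzN : z ∈ N := Subgroup.le_normalizer (hZP hz)
      have := hodd.of_dvd_nat (N.orderOf_dvd_natCard hzN)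
      rw [h] at this
      exact absurd this (by decide)
  set C := univ.filter (IsConj z ·) with hC
  set D := univ.filter (IsConj z⁻¹ ·) with hD
  have hinvD : ∀ x : G, x ∈ D ↔ x⁻¹ ∈ C := by
    intro x
    simp only [hC, hD, mem_filter, mem_univ, true_and]
    constructor <;> intro h <;> obtain ⟨g, hg⟩ := isConj_iff.mp h <;>
      refine isConj_iff.mpr ⟨g, ?_⟩
    · rw [← hg]; group
    · rw [← inv_inv x, ← hg]; group
  set S := C.filter (· ∈ Z) with hS
  have hscard : S.card ∣ (P : Subgroup G).relIndex N := by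
    have hzN : z ∈ N := Subgroup.le_normalizer (hZP hz)
    have e1 : S.card = Nat.card {y : N // IsConj (⟨z, hzN⟩ : N) y} := by
      rw [Nat.card_eq_fintype_card, Fintype.card_subtype]
      refine (Finset.card_bij (fun (y : N) _ => (y : G)) (fun y hy => ?_) (fun a _ b _ e => Subtype.ext e)
        fun x hx => ?_).symm
      · obtain ⟨g, hg⟩ := isConj_iff.mp (mem_filter.mp hy).2
        have hg' : (g : G) * z * (g : G)⁻¹ = y := congrArg Subtype.val hg
        refine mem_filter.mpr ⟨mem_filter.mpr ⟨mem_univ _, isConj_iff.mpr ⟨g, hg'⟩⟩, ?_⟩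
        rw [← hg']
        exact hZn g g.2 z hz
      · obtain ⟨hxC, hxZ⟩ := mem_filter.mp hx
        obtain ⟨g, hg⟩ := isConj_iff.mp (mem_filter.mp hxC).2
        have hgN : g ∈ N := mem_normalizer_of_TI hTI (hZP hz) hz1 (by rw [hg]; exact hZP hxZ)
        exact ⟨⟨x, Subgroup.le_normalizer (hZP hxZ)⟩,
          mem_filter.mpr ⟨mem_univ _, isConj_iff.mpr ⟨⟨g, hgN⟩, Subtype.ext hg⟩⟩, rfl⟩
    rw [e1, card_conj_eq_index]
    refine Subgroup.index_dvd_of_le fun u hu => ?_
    rw [Subgroup.mem_centralizer_singleton_iff]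
    exact Subtype.ext (hZc z hz u (Subgroup.mem_subgroupOf.mp hu)).symm
  have hsp : ¬ p ∣ S.card := fun h => P.not_dvd_index ((h.trans hscard).trans
    (Subgroup.relIndex_dvd_index_of_le Subgroup.le_normalizer))
  -- sums
  have hmemC : ∀ {x : G} (u : G), x ∈ C → u * x * u⁻¹ ∈ C := fun {x} u hx =>
    mem_filter.mpr ⟨mem_univ _, (mem_filter.mp hx).2.trans (isConj_iff.mpr ⟨u, rfl⟩)⟩
  have hmemD : ∀ {x : G} (u : G), x ∈ D → u * x * u⁻¹ ∈ D := fun {x} u hx =>
    mem_filter.mpr ⟨mem_univ _, (mem_filter.mp hx).2.trans (isConj_iff.mpr ⟨u, rfl⟩)⟩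
  have hconjZ : ∀ {x u : G}, u ∈ (P : Subgroup G) → x ∈ Z → u * x * u⁻¹ = x := fun {x u} hu hx => by
    rw [← hZc x hx u hu, mul_inv_cancel_right]
  have key : ∀ (T : Finset G) (z₀ : G), z₀ ∈ Z → z₀ ≠ 1 → (∀ y ∈ T, IsConj z₀ y) →
      (∀ {y : G} (u : G), y ∈ T → u * y * u⁻¹ ∈ T) →
      ∃ c : ℂ, IsIntegral ℤ c ∧ ∑ x ∈ C, ∑ y ∈ T, ψ (x * y) =
        (∑ x ∈ S, ∑ y ∈ T.filter (· ∈ Z), ψ (x * y)) + (Nat.card (P : Subgroup G) : ℂ) * c := by
    intro T z₀ hz₀ hz₀1 hT hTc
    let F : Finset (G × G) := (C ×ˢ T).filter (fun q => ¬ (q.1 ∈ Z ∧ q.2 ∈ Z))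
    have hFc : ∀ (u : (P : Subgroup G)) (q : G × G), q ∈ F →
        ((u : G) * q.1 * (u : G)⁻¹, (u : G) * q.2 * (u : G)⁻¹) ∈ F := by
      intro u q hq
      obtain ⟨hq1, hq2⟩ := mem_filter.mp hq
      refine mem_filter.mpr ⟨mem_product.mpr ⟨hmemC _ (mem_product.mp hq1).1,
        hTc _ (mem_product.mp hq1).2⟩, fun h => hq2 ?_⟩
      have back : ∀ {w : G}, (u : G) * w * (u : G)⁻¹ ∈ Z → w ∈ Z := fun {w} hw => by
        have := hconjZ ((P : Subgroup G).inv_mem u.2) hw
        simp only [inv_inv] at this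
        have e : w = (u : G) * w * (u : G)⁻¹ := by
          conv_lhs => rw [show w = (u : G)⁻¹ * ((u : G) * w * (u : G)⁻¹) * u by group]
          exact this
        rw [e]; exact hw
      exact ⟨back h.1, back h.2⟩
    letI act : MulAction (P : Subgroup G) F :=
      { smul := fun u q => ⟨_, hFc u q.1 q.2⟩
        one_smul := fun q => Subtype.ext (Prod.ext (by show (1 : G) * _ * (1 : G)⁻¹ = _; simp)
          (by show (1 : G) * _ * (1 : G)⁻¹ = _; simp))
        mul_smul := fun u v q => Subtype.ext (Prod.ext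
          (by show ((u : G) * v) * _ * ((u : G) * v)⁻¹ = (u : G) * ((v : G) * _ * (v : G)⁻¹) * (u : G)⁻¹; group)
          (by show ((u : G) * v) * _ * ((u : G) * v)⁻¹ = (u : G) * ((v : G) * _ * (v : G)⁻¹) * (u : G)⁻¹; group)) }
    haveI : Fintype (P : Subgroup G) := Fintype.ofFinite _
    have hfr : ∀ q : F, MulAction.stabilizer (P : Subgroup G) q = ⊥ := by
      intro q
      refine (Subgroup.eq_bot_iff_forall _).mpr fun u hu => Subtype.ext ?_
      have e := congrArg Subtype.val (MulAction.mem_stabilizer_iff.mp hu)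
      obtain ⟨hq1, hq2⟩ := mem_filter.mp q.2
      rcases not_and_or.mp hq2 with h | h
      · exact free_of_notMem hTI hZP hZn hz hz1 (mem_filter.mp (mem_product.mp hq1).1).2 h u.2
          (congrArg Prod.fst e)
      · exact free_of_notMem hTI hZP hZn hz₀ hz₀1 (hT _ (mem_product.mp hq1).2) h u.2
          (congrArg Prod.snd e)
    have hiv : ∀ (u : (P : Subgroup G)) (q : F), ψ ((u • q).1.1 * (u • q).1.2) = ψ (q.1.1 * q.1.2) := by
      intro u q
      show ψ ((u : G) * q.1.1 * (u : G)⁻¹ * ((u : G) * q.1.2 * (u : G)⁻¹)) = _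
      rw [show (u : G) * q.1.1 * (u : G)⁻¹ * ((u : G) * q.1.2 * (u : G)⁻¹) =
        (u : G) * (q.1.1 * q.1.2) * (u : G)⁻¹ by group]
      exact isClassFunction_of_isCharacter hψc _ _
    obtain ⟨c, hc, hsum⟩ := sum_free_invariant hfr (fun q : F => ψ (q.1.1 * q.1.2)) hiv
      fun q => isIntegral_of_isCharacter hψc _
    refine ⟨c, hc, ?_⟩
    rw [← hsum, Finset.sum_coe_sort F (fun q => ψ (q.1 * q.2)), ← Finset.sum_product',
        ← Finset.sum_filter_add_sum_filter_not (C ×ˢ T) (fun q => q.1 ∈ Z ∧ q.2 ∈ Z),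
        Finset.filter_product, Finset.sum_product' (f := fun x y => ψ (x * y))]
  obtain ⟨c₁, hc₁, e₁⟩ := key C z hz hz1 (fun y hy => (mem_filter.mp hy).2) hmemC
  obtain ⟨c₂, hc₂, e₂⟩ := key D z⁻¹ (Z.inv_mem hz) (by simpa using hz1)
    (fun y hy => (mem_filter.mp hy).2) hmemD
  have hcardCD : Nat.card {x : G // IsConj z x} = Nat.card {x : G // IsConj z⁻¹ x} :=
    Nat.card_congr ((Equiv.inv G).subtypeEquiv fun x => by
      have h := hinvD x⁻¹
      simp only [hC, hD, mem_filter, mem_univ, true_and, inv_inv] at h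
      exact h.symm)
  have hAB := class_product_eq hψ hcardCD (hconst z hz z⁻¹ (Z.inv_mem hz) hz1 (by simpa using hz1))
  rw [e₁, e₂] at hAB
  have hval : ∀ x ∈ S, ∀ y ∈ Z, x * y ≠ 1 → ψ (x * y) = ψ z := fun x hx y hy h =>
    hconst _ (Z.mul_mem (mem_filter.mp hx).2 hy) z hz h hz1
  have hA : ∑ x ∈ S, ∑ y ∈ C.filter (· ∈ Z), ψ (x * y) = ((S.card : ℂ) * S.card) * ψ z := by
    rw [Finset.sum_congr rfl fun x hx => Finset.sum_congr rfl fun y hy =>
      hval x hx y (mem_filter.mp hy).2 fun h => hnr ?_]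
    · simp only [Finset.sum_const, nsmul_eq_mul, ← hS]; ring
    · have e : y = x⁻¹ := eq_inv_of_mul_eq_one_right h
      have hx' := (mem_filter.mp (mem_filter.mp hx).1).2
      have hy' := (mem_filter.mp (mem_filter.mp hy).1).2
      rw [e] at hy'
      obtain ⟨g, hg⟩ := isConj_iff.mp hx'
      exact hy'.trans (isConj_iff.mpr ⟨g⁻¹, by rw [← hg]; group⟩)
  have hB : ∑ x ∈ S, ∑ y ∈ D.filter (· ∈ Z), ψ (x * y) =
      (S.card : ℂ) * ψ 1 + ((S.card : ℂ) * S.card - S.card) * ψ z := by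
    have himg : D.filter (· ∈ Z) = S.image (·⁻¹) := by
      ext y
      simp only [mem_filter, Finset.mem_image, hS, hinvD y]
      exact ⟨fun h => ⟨y⁻¹, ⟨h.1, Z.inv_mem h.2⟩, inv_inv y⟩, by
        rintro ⟨w, ⟨h1, h2⟩, rfl⟩; exact ⟨by rwa [inv_inv], Z.inv_mem h2⟩⟩
    rw [himg]
    have hx : ∀ x ∈ S, ∑ y ∈ S.image (·⁻¹), ψ (x * y) = ψ 1 + ((S.card : ℂ) - 1) * ψ z := by
      intro x hx
      rw [Finset.sum_image fun a _ b _ e => inv_injective e, ← Finset.add_sum_erase _ _ hx,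
        mul_inv_cancel, Finset.sum_congr rfl fun w hw => hval x hx w⁻¹
          (Z.inv_mem (mem_filter.mp (Finset.mem_of_mem_erase hw)).2) fun e =>
            Finset.ne_of_mem_erase hw (mul_inv_eq_one.mp e).symm,
        Finset.sum_const, Finset.card_erase_of_mem hx, nsmul_eq_mul,
        Nat.cast_sub (Finset.card_pos.mpr ⟨x, hx⟩), Nat.cast_one]
    rw [Finset.sum_congr rfl hx, Finset.sum_const, nsmul_eq_mul]
    ring
  rw [hA, hB, hn', hd] at hAB
  have hq : (((S.card : ℚ) * ((d : ℚ) - n)) / (Nat.card (P : Subgroup G) : ℚ) : ℚ) = (c₁ - c₂ : ℂ) := by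
    have hP0 : (Nat.card (P : Subgroup G) : ℂ) ≠ 0 := Nat.cast_ne_zero.mpr Nat.card_pos.ne'
    push_cast
    rw [div_eq_iff hP0]
    linear_combination -hAB
  obtain ⟨k, hk⟩ := exists_int_of_isIntegral_rat (hq ▸ hc₁.sub hc₂)
  have hk' : ((Nat.card (P : Subgroup G) : ℤ) : ℤ) * k = (S.card : ℤ) * ((d : ℤ) - n) := by
    have hP0 : (Nat.card (P : Subgroup G) : ℚ) ≠ 0 := Nat.cast_ne_zero.mpr Nat.card_pos.ne'
    rw [eq_div_iff hP0] at hk
    have : (((Nat.card (P : Subgroup G) : ℤ) * k : ℤ) : ℚ) = (((S.card : ℤ) * ((d : ℤ) - n) : ℤ) : ℚ) := by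
      push_cast; linear_combination hk
    exact_mod_cast this
  refine ⟨n, d, hn', by rw [hd, Int.cast_natCast], ?_⟩
  obtain ⟨e, he⟩ := P.isPGroup'.exists_card_eq
  have hcop : IsCoprime (Nat.card (P : Subgroup G) : ℤ) (S.card : ℤ) := by
    rw [Int.isCoprime_iff_nat_coprime]
    simp only [Int.natAbs_natCast, he]
    exact ((Nat.Prime.coprime_iff_not_dvd Fact.out).mpr hsp).pow_left e
  exact hcop.dvd_of_dvd_mul_left ⟨k, hk'.symm⟩

end CfsgLib.OddChar
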