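import Cfsg.Agent.Lib.OddChar.Signed

set_option autoImplicit false

/-! Two orthogonal weighted pairs of signed irreducibles with zero degree are disjoint. -/

namespace CfsgLib.OddChar

open scoped Classical ComplexConjugate
open CfsgLib.Characters

variable {X : Type*} [Group X] [Fintype X]

theorem IsSigned.eq_smul {α β : X → ℂ} (ha : IsSigned α) (hb : IsSigned β)
    (h : Cfsg.classInner α β ≠ 0) :
    α = Cfsg.classInner α β • β ∧
      (Cfsg.classInner α β = 1 ∨ Cfsg.classInner α β = -1) := by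
  rcases ha.cases hb with e | e | e
  · rw [e, hb.norm_one, one_smul]; exact ⟨rfl, Or.inl rfl⟩
  · rw [e, classInner_neg_left, hb.norm_one, neg_smul, one_smul]; exact ⟨rfl, Or.inr rfl⟩
  · exact absurd e h

theorem weighted_pairs_aux {α β γ δ : X → ℂ} (hα : IsSigned α) (hβ : IsSigned β) (hγ : IsSigned γ)
    (hδ : IsSigned δ) {u t w v : ℝ} (hu : u ≠ 0) (hw : w ≠ 0)
    (hab : Cfsg.classInner α β = 0) (hcd : Cfsg.classInner γ δ = 0)
    (hmix : (u : ℂ) * w * Cfsg.classInner α γ - (u : ℂ) * v * Cfsg.classInner α δ -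
      (t : ℂ) * w * Cfsg.classInner β γ + (t : ℂ) * v * Cfsg.classInner β δ = 0)
    (h1 : (u : ℂ) * α 1 = (t : ℂ) * β 1) (h2 : (w : ℂ) * γ 1 = (v : ℂ) * δ 1) :
    Cfsg.classInner α γ = 0 := by
  by_contra h
  obtain ⟨hαe, hε⟩ := hα.eq_smul hγ h
  set ε := Cfsg.classInner α γ with hεdef
  have hε0 : ε ≠ 0 := h
  have hba : Cfsg.classInner β α = 0 := by rw [classInner_conj_symm, hab, map_zero]
  have had : Cfsg.classInner α δ = 0 := by rw [hαe, classInner_smul_left, hcd, mul_zero]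
  have hbg : Cfsg.classInner β γ = 0 := by
    rw [hαe, classInner_smul_right] at hba
    exact (mul_eq_zero.mp hba).resolve_left (by simpa using hε0)
  rw [had, hbg] at hmix
  have hb : Cfsg.classInner β δ ≠ 0 := by
    intro e
    rw [e] at hmix
    have : (u : ℂ) * w * ε = 0 := by linear_combination hmix
    simp [hu, hw, hε0] at this
  obtain ⟨hβe, -⟩ := hβ.eq_smul hδ hb
  set η := Cfsg.classInner β δ
  rw [hαe, hβe] at h1
  simp only [Pi.smul_apply, smul_eq_mul] at h1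
  have key : ((v ^ 2 + w ^ 2 : ℝ) : ℂ) * ((u : ℂ) * ε * γ 1) = 0 := by
    push_cast
    linear_combination (v : ℂ) ^ 2 * h1 + (v : ℂ) * δ 1 * hmix + (w : ℂ) * (u : ℂ) * ε * h2
  have hpos : (v ^ 2 + w ^ 2 : ℝ) ≠ 0 := by positivity
  rcases mul_eq_zero.mp key with e | e
  · exact hpos (Complex.ofReal_eq_zero.mp e)
  · simp [hu, hε0, hγ.apply_one_ne_zero] at e

theorem weighted_pairs {α β γ δ : X → ℂ} (hα : IsSigned α) (hβ : IsSigned β) (hγ : IsSigned γ)
    (hδ : IsSigned δ) {u t w v : ℝ} (hu : u ≠ 0) (ht : t ≠ 0) (hw : w ≠ 0) (hv : v ≠ 0)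
    (hab : Cfsg.classInner α β = 0) (hcd : Cfsg.classInner γ δ = 0)
    (hmix : Cfsg.classInner ((u : ℂ) • α - (t : ℂ) • β) ((w : ℂ) • γ - (v : ℂ) • δ) = 0)
    (h1 : (u : ℂ) * α 1 = (t : ℂ) * β 1) (h2 : (w : ℂ) * γ 1 = (v : ℂ) * δ 1) :
    Cfsg.classInner α γ = 0 ∧ Cfsg.classInner α δ = 0 ∧ Cfsg.classInner β γ = 0 ∧
      Cfsg.classInner β δ = 0 := by
  simp only [classInner_sub_left, classInner_sub_right, classInner_smul_left, classInner_smul_right,
    Complex.conj_ofReal] at hmix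
  have hba : Cfsg.classInner β α = 0 := by rw [classInner_conj_symm, hab, map_zero]
  have hdc : Cfsg.classInner δ γ = 0 := by rw [classInner_conj_symm, hcd, map_zero]
  refine ⟨weighted_pairs_aux hα hβ hγ hδ hu hw hab hcd ?_ h1 h2,
    weighted_pairs_aux hα hβ hδ hγ hu hv hab hdc ?_ h1 h2.symm,
    weighted_pairs_aux hβ hα hγ hδ ht hw hba hcd ?_ h1.symm h2,
    weighted_pairs_aux hβ hα hδ hγ ht hv hba hdc ?_ h1.symm h2.symm⟩
  · linear_combination hmix
  · linear_combination -hmix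
  · linear_combination -hmix
  · linear_combination hmix

end CfsgLib.OddChar
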