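import Cfsg.Agent.Lib.OddChar.FeitFrobenius
import Cfsg.Agent.Lib.OddChar.TICongruence
import Cfsg.Agent.S1531

set_option autoImplicit false
set_option linter.style.haveILetI false
set_option linter.unusedSectionVars false

/-! Sibley's coherence theorem for a non-abelian TI Sylow subgroup of odd order. -/

namespace CfsgLib.OddChar

open scoped Classical ComplexConjugate commutatorElement
open Finset CfsgLib.Characters CfsgLib.Clifford

section Adjust

variable {N : Type*} [Group N] [Fintype N] {G : Type*} [Group G] [Fintype G]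

theorem norm_sub_orth {ι : Type*} [DecidableEq ι] (U : Finset ι) (v : ι → G → ℂ) (a : ι → ℤ) (Δ : G → ℂ)
    (hv : ∀ i ∈ U, ∀ j ∈ U, Cfsg.classInner (v i) (v j) = if i = j then 1 else 0)
    (ha : ∀ i ∈ U, Cfsg.classInner Δ (v i) = a i) :
    Cfsg.classInner (Δ - ∑ i ∈ U, a i • v i) (Δ - ∑ i ∈ U, a i • v i) =
      Cfsg.classInner Δ Δ - ((∑ i ∈ U, a i ^ 2 : ℤ) : ℂ) := by
  have h1 : Cfsg.classInner Δ (∑ i ∈ U, a i • v i) = ((∑ i ∈ U, a i ^ 2 : ℤ) : ℂ) := by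
    rw [classInner_sum_right, Int.cast_sum]
    refine Finset.sum_congr rfl fun i hi => ?_
    rw [classInner_zsmul_right, ha i hi, Int.cast_pow, sq]
  have h2 : Cfsg.classInner (∑ i ∈ U, a i • v i) (∑ i ∈ U, a i • v i) =
      ((∑ i ∈ U, a i ^ 2 : ℤ) : ℂ) := by
    rw [classInner_sum_left, Int.cast_sum]
    refine Finset.sum_congr rfl fun i hi => ?_
    rw [classInner_zsmul_left, classInner_sum_right,
      Finset.sum_congr rfl fun j hj => by rw [classInner_zsmul_right, hv i hi j hj],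
      Finset.sum_eq_single i (fun j _ hj => by rw [if_neg hj.symm, mul_zero])
        (fun h => absurd hi h), if_pos rfl, mul_one, Int.cast_pow, sq]
  have h3 : Cfsg.classInner (∑ i ∈ U, a i • v i) Δ = ((∑ i ∈ U, a i ^ 2 : ℤ) : ℂ) := by
    rw [classInner_conj_symm, h1, map_intCast]
  rw [classInner_sub_left, classInner_sub_right, classInner_sub_right, h1, h2, h3]
  ring

theorem exists_swap {a b : N → ℂ} (ha : Cfsg.IsIrrCharacter N a) (hb : Cfsg.IsIrrCharacter N b)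
    (hab : a ≠ b) (hdeg : a 1 = b 1) {X : Set (N → ℂ)} (hX : X = {a, b})
    {ρ : (N → ℂ) → (G → ℂ)} (hρ : Cfsg.IsLinearIsometryOn (Cfsg.zspan X) ρ) :
    ∃ ρ' : (N → ℂ) → (G → ℂ), Cfsg.IsLinearIsometryOn (Cfsg.zspan X) ρ' ∧
      (∀ θ ∈ Cfsg.zspanOn X {1}ᶜ, ρ' θ = ρ θ) ∧ ρ' a = -ρ b ∧ ρ' b = -ρ a := by
  subst hX
  let s : (N → ℂ) → (N → ℂ) := fun f => Cfsg.classInner f a • b + Cfsg.classInner f b • a
  have haa := classInner_irr_self ha
  have hbb := classInner_irr_self hb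
  have hab0 := classInner_irr_ne ha hb hab
  have hba0 := classInner_irr_ne hb ha hab.symm
  have hrep : ∀ f ∈ Cfsg.zspan ({a, b} : Set (N → ℂ)), ∃ i j : ℤ, f = i • a + j • b :=
    fun f hf => by
      obtain ⟨i, j, h⟩ := Submodule.mem_span_pair.mp hf
      exact ⟨i, j, h.symm⟩
  have hma : a ∈ Cfsg.zspan ({a, b} : Set (N → ℂ)) := zspan_of_mem (Set.mem_insert a _)
  have hmb : b ∈ Cfsg.zspan ({a, b} : Set (N → ℂ)) := zspan_of_mem (Set.mem_insert_of_mem a rfl)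
  have hs : ∀ i j : ℤ, s (i • a + j • b) = i • b + j • a := by
    intro i j
    simp only [s, classInner_add_left, classInner_zsmul_left, haa, hbb, hab0, hba0, mul_one,
      mul_zero, add_zero, zero_add]
    simp only [zsmul_eq_smul]
  have hmem : ∀ i j : ℤ, i • b + j • a ∈ Cfsg.zspan ({a, b} : Set (N → ℂ)) := fun i j =>
    Submodule.add_mem _ (zspan_zsmul i hmb) (zspan_zsmul j hma)
  refine ⟨fun f => -ρ (s f), ⟨fun f hf g hg => ?_, fun f hf n => ?_, fun f hf g hg => ?_,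
    fun f hf => ?_⟩, fun f hf => ?_, ?_, ?_⟩
  · obtain ⟨i, j, rfl⟩ := hrep f hf
    obtain ⟨k, l, rfl⟩ := hrep g hg
    show -ρ (s _) = -ρ (s _) + -ρ (s _)
    rw [hs, hs, show i • a + j • b + (k • a + l • b) = (i + k) • a + (j + l) • b by module, hs,
      show (i + k) • b + (j + l) • a = i • b + j • a + (k • b + l • a) by module,
      hρ.1 _ (hmem i j) _ (hmem k l), neg_add]
  · obtain ⟨i, j, rfl⟩ := hrep f hf
    show -ρ (s _) = n • -ρ (s _)
    rw [hs, show n • (i • a + j • b) = (n * i) • a + (n * j) • b by module, hs,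
      show (n * i) • b + (n * j) • a = n • (i • b + j • a) by module,
      hρ.2.1 _ (hmem i j) n, smul_neg]
  · obtain ⟨i, j, rfl⟩ := hrep f hf
    obtain ⟨k, l, rfl⟩ := hrep g hg
    show Cfsg.classInner (-ρ (s _)) (-ρ (s _)) = _
    rw [hs, hs, classInner_neg_left, classInner_neg_right, neg_neg,
      hρ.2.2.1 _ (hmem i j) _ (hmem k l)]
    simp only [classInner_add_left, classInner_add_right, classInner_zsmul_left,
      classInner_zsmul_right, haa, hbb, hab0, hba0]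
  · obtain ⟨i, j, rfl⟩ := hrep f hf
    show Cfsg.IsGeneralizedCharacter G (-ρ (s _))
    rw [hs]
    exact isGeneralizedCharacter_neg (hρ.2.2.2 _ (hmem i j))
  · obtain ⟨hf, hf1⟩ := zspanOn_compl_one.mp hf
    obtain ⟨i, j, rfl⟩ := hrep f hf
    obtain ⟨d, hd0, hd⟩ := irr_exists_degree ha
    have h0 : ((i : ℂ) + j) * d = 0 := by
      have := hf1
      simp only [Pi.add_apply, zsmul_eq_smul, Pi.smul_apply, smul_eq_mul, ← hdeg, hd] at this
      rw [add_mul]; exact this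
    have hij : j = -i := by
      have := (mul_eq_zero.mp h0).resolve_right (Nat.cast_ne_zero.mpr hd0.ne')
      have h' : i + j = 0 := by exact_mod_cast this
      linarith
    subst hij
    show -ρ (s _) = ρ _
    rw [hs, show i • b + (-i) • a = (-1 : ℤ) • (i • a + (-i) • b) by module, hρ.2.1 _ hf]
    module
  · have h := hs 1 0
    simp only [one_smul, zero_smul, add_zero] at h
    show -ρ (s a) = _
    rw [h]
  · have h := hs 0 1
    simp only [one_smul, zero_smul, zero_add] at h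
    show -ρ (s b) = _
    rw [h]

/-- the image of `χ₀ - m η₀` is, after adjusting the two extensions, the expected one -/
theorem glue_adjust {X Y : Finset (N → ℂ)} (hirrX : ∀ χ ∈ X, Cfsg.IsIrrCharacter N χ)
    (hirrY : ∀ η ∈ Y, Cfsg.IsIrrCharacter N η) (hX2 : 2 ≤ X.card) (hY2 : 2 ≤ Y.card)
    {σ τ : (N → ℂ) → (G → ℂ)} (hσ : Cfsg.IsLinearIsometryOn (Cfsg.zspan (↑X : Set (N → ℂ))) σ)
    (hτ : Cfsg.IsLinearIsometryOn (Cfsg.zspan (↑Y : Set (N → ℂ))) τ)
    (hcross : ∀ χ ∈ X, ∀ η ∈ Y, Cfsg.classInner (σ χ) (τ η) = 0)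
    {χ₀ η₀ : N → ℂ} (hχ₀ : χ₀ ∈ X) (hη₀ : η₀ ∈ Y) (hYdeg : ∀ η ∈ Y, η 1 = η₀ 1)
    (md : (N → ℂ) → ℕ) (hmd0 : md χ₀ = 1) (hmd1 : ∀ χ ∈ X, 1 ≤ md χ)
    (hXdeg : ∀ χ ∈ X, χ 1 = (md χ : ℂ) * χ₀ 1) (m : ℕ) (hm : 0 < m) {Δ : G → ℂ}
    (hΔ : Cfsg.classInner Δ Δ = 1 + (m : ℂ) ^ 2) (c b : ℤ)
    (hΔσ : ∀ χ ∈ X, Cfsg.classInner Δ (σ χ) = (((if χ = χ₀ then 1 else 0) + c * md χ : ℤ) : ℂ))
    (hΔτ : ∀ η ∈ Y, Cfsg.classInner Δ (τ η) = (((m : ℤ) * (b - if η = η₀ then 1 else 0) : ℤ) : ℂ)) :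
    ∃ σ' τ' : (N → ℂ) → (G → ℂ), Cfsg.IsLinearIsometryOn (Cfsg.zspan (↑X : Set (N → ℂ))) σ' ∧
      (∀ θ ∈ Cfsg.zspanOn (↑X : Set (N → ℂ)) {1}ᶜ, σ' θ = σ θ) ∧
      Cfsg.IsLinearIsometryOn (Cfsg.zspan (↑Y : Set (N → ℂ))) τ' ∧
      (∀ θ ∈ Cfsg.zspanOn (↑Y : Set (N → ℂ)) {1}ᶜ, τ' θ = τ θ) ∧
      Δ = σ' χ₀ - (m : ℤ) • τ' η₀ := by
  set M : ℤ := ∑ χ ∈ X, (md χ : ℤ) ^ 2 with hM
  set k : ℤ := (Y.card : ℤ) with hk
  let a : (N → ℂ) ⊕ (N → ℂ) → ℤ := Sum.elim (fun χ => (if χ = χ₀ then 1 else 0) + c * md χ)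
    (fun η => (m : ℤ) * (b - if η = η₀ then 1 else 0))
  have hv : ∀ i ∈ X.disjSum Y, ∀ j ∈ X.disjSum Y,
      Cfsg.classInner (Sum.elim σ τ i) (Sum.elim σ τ j) = if i = j then 1 else 0 := by
    intro i hi j hj
    rcases i with x | x <;> rcases j with y | y <;>
      simp only [Finset.inl_mem_disjSum, Finset.inr_mem_disjSum] at hi hj <;>
      simp only [Sum.elim_inl, Sum.elim_inr, Sum.inl.injEq, Sum.inr.injEq, reduceCtorEq, if_false]
    · rw [hσ.2.2.1 x (zspan_of_mem hi) y (zspan_of_mem hj)]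
      split_ifs with e
      · subst e; exact classInner_irr_self (hirrX x hi)
      · exact classInner_irr_ne (hirrX x hi) (hirrX y hj) e
    · exact hcross x hi y hj
    · rw [classInner_conj_symm, hcross y hj x hi, map_zero]
    · rw [hτ.2.2.1 x (zspan_of_mem hi) y (zspan_of_mem hj)]
      split_ifs with e
      · subst e; exact classInner_irr_self (hirrY x hi)
      · exact classInner_irr_ne (hirrY x hi) (hirrY y hj) e
  have ha : ∀ i ∈ X.disjSum Y, Cfsg.classInner Δ (Sum.elim σ τ i) = a i := by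
    intro i hi
    rcases i with x | x <;> simp only [Finset.inl_mem_disjSum, Finset.inr_mem_disjSum] at hi
    · exact hΔσ x hi
    · exact hΔτ x hi
  have hn := norm_sub_orth _ (Sum.elim σ τ) a Δ hv ha
  have hsumX : ∑ χ ∈ X, ((if χ = χ₀ then 1 else 0) + c * (md χ : ℤ)) ^ 2 = 1 + 2 * c + c ^ 2 * M := by
    have e : ∀ χ ∈ X, ((if χ = χ₀ then 1 else 0) + c * (md χ : ℤ)) ^ 2 =
        (if χ = χ₀ then 1 + 2 * c else 0) + c ^ 2 * (md χ : ℤ) ^ 2 := by
      intro χ _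
      split_ifs with h
      · rw [h, hmd0]; push_cast; ring
      · ring
    rw [Finset.sum_congr rfl e, Finset.sum_add_distrib, Finset.sum_ite_eq', if_pos hχ₀,
      ← Finset.mul_sum]
  have hsumY : ∑ η ∈ Y, ((m : ℤ) * (b - if η = η₀ then 1 else 0)) ^ 2 =
      (m : ℤ) ^ 2 * (k * b ^ 2 - 2 * b + 1) := by
    have e : ∀ η ∈ Y, ((m : ℤ) * (b - if η = η₀ then 1 else 0)) ^ 2 =
        (m : ℤ) ^ 2 * (b ^ 2 + if η = η₀ then 1 - 2 * b else 0) := by
      intro η _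
      split_ifs <;> ring
    rw [Finset.sum_congr rfl e, ← Finset.mul_sum, Finset.sum_add_distrib, Finset.sum_const,
      Finset.sum_ite_eq', if_pos hη₀, nsmul_eq_mul]
    ring
  rw [Finset.sum_disjSum, Finset.sum_disjSum] at hn
  change _ = _ - ((∑ χ ∈ X, ((if χ = χ₀ then 1 else 0) + c * (md χ : ℤ)) ^ 2 +
    ∑ η ∈ Y, ((m : ℤ) * (b - if η = η₀ then 1 else 0)) ^ 2 : ℤ) : ℂ) at hn
  rw [hsumX, hsumY, hΔ] at hn
  set R := Δ - (∑ χ ∈ X, a (Sum.inl χ) • σ χ + ∑ η ∈ Y, a (Sum.inr η) • τ η) with hR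
  have hn' : Cfsg.classInner R R =
      ((-((c ^ 2 * M + 2 * c) + (m : ℤ) ^ 2 * (k * b ^ 2 - 2 * b)) : ℤ) : ℂ) := by
    rw [hR]
    refine hn.trans ?_
    push_cast; ring
  have hcM : 2 * (X.card : ℤ) ≤ 2 * M := by
    rw [hM, Finset.card_eq_sum_ones, Nat.cast_sum]
    refine mul_le_mul_of_nonneg_left (Finset.sum_le_sum fun χ hχ => ?_) (by norm_num)
    have := hmd1 χ hχ
    push_cast; nlinarith
  have hM2 : 2 ≤ M := by
    have : (2 : ℤ) ≤ X.card := by exact_mod_cast hX2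
    linarith
  have hk2 : 2 ≤ k := by rw [hk]; exact_mod_cast hY2
  have hc0 : 0 ≤ c * (c + 1) := by
    rcases le_or_gt 0 c with h | h
    · positivity
    · nlinarith
  have hb0 : 0 ≤ b * (b - 1) := by
    rcases le_or_gt b 0 with h | h
    · nlinarith
    · nlinarith
  have hA : 0 ≤ c ^ 2 * M + 2 * c := by nlinarith [mul_le_mul_of_nonneg_left hM2 (sq_nonneg c)]
  have hB : 0 ≤ k * b ^ 2 - 2 * b := by nlinarith [mul_le_mul_of_nonneg_left hk2 (sq_nonneg b)]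
  have hre := classInner_self_re_nonneg R
  rw [hn', Complex.intCast_re] at hre
  have hre' : 0 ≤ -((c ^ 2 * M + 2 * c) + (m : ℤ) ^ 2 * (k * b ^ 2 - 2 * b)) := by exact_mod_cast hre
  have hm2 : (0 : ℤ) < (m : ℤ) ^ 2 := by positivity
  have hmB := mul_nonneg hm2.le hB
  have hA0 : c ^ 2 * M + 2 * c = 0 := by linarith
  have hB0 : k * b ^ 2 - 2 * b = 0 := by
    have : (m : ℤ) ^ 2 * (k * b ^ 2 - 2 * b) = 0 := by linarith
    exact (mul_eq_zero.mp this).resolve_left hm2.ne'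
  have hR0 : R = 0 := eq_zero_of_classInner_self (by rw [hn', hA0, hB0]; simp)
  have hΔeq : Δ = ∑ χ ∈ X, a (Sum.inl χ) • σ χ + ∑ η ∈ Y, a (Sum.inr η) • τ η := sub_eq_zero.mp hR0
  have hXcase : ∃ σ' : (N → ℂ) → (G → ℂ), Cfsg.IsLinearIsometryOn (Cfsg.zspan (↑X : Set (N → ℂ))) σ' ∧
      (∀ θ ∈ Cfsg.zspanOn (↑X : Set (N → ℂ)) {1}ᶜ, σ' θ = σ θ) ∧
      ∑ χ ∈ X, a (Sum.inl χ) • σ χ = σ' χ₀ := by
    by_cases hc : c = 0
    · refine ⟨σ, hσ, fun _ _ => rfl, ?_⟩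
      rw [Finset.sum_eq_single χ₀] <;> simp [a, hc, hχ₀]
      exact fun χ _ hne h => absurd h hne
    · have hc1 : c = -1 ∧ M = 2 := by
        have h : c * (c * M + 2) = 0 := by linear_combination hA0
        have h' := (mul_eq_zero.mp h).resolve_left hc
        have hcn : c < 0 := by nlinarith
        have hc' : c = -1 := by
          by_contra hne
          have : c ≤ -2 := by omega
          nlinarith
        exact ⟨hc', by rw [hc'] at h'; linarith⟩
      obtain ⟨χ₁, hχ₁, hne⟩ := Finset.exists_mem_ne hX2 χ₀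
      have hXeq : X = {χ₀, χ₁} := by
        refine (Finset.eq_of_subset_of_card_le (by simp [Finset.insert_subset_iff, hχ₀, hχ₁]) ?_).symm
        rw [Finset.card_pair hne.symm]
        have : (X.card : ℤ) ≤ 2 := by linarith [hc1.2]
        exact_mod_cast this
      have hmd : md χ₁ = 1 := by
        have hM' : (md χ₀ : ℤ) ^ 2 + (md χ₁ : ℤ) ^ 2 = 2 := by
          rw [← hc1.2, hM, hXeq, Finset.sum_pair hne.symm]
        rw [hmd0] at hM'
        have : (md χ₁ : ℤ) ^ 2 = 1 := by push_cast at hM'; linarith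
        have h2 : md χ₁ ^ 2 = 1 := by exact_mod_cast this
        nlinarith [hmd1 χ₁ hχ₁]
      obtain ⟨σ', h1, h2, h3, -⟩ := exists_swap (hirrX χ₀ hχ₀) (hirrX χ₁ hχ₁) hne.symm
        (by rw [hXdeg χ₁ hχ₁, hmd, Nat.cast_one, one_mul]) (X := (↑X : Set (N → ℂ)))
        (by rw [hXeq, Finset.coe_pair]) hσ
      refine ⟨σ', h1, h2, ?_⟩
      rw [hXeq, Finset.sum_pair hne.symm, h3]
      simp [a, hc1.1, hmd0, hmd, hne]
  have hYcase : ∃ τ' : (N → ℂ) → (G → ℂ), Cfsg.IsLinearIsometryOn (Cfsg.zspan (↑Y : Set (N → ℂ))) τ' ∧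
      (∀ θ ∈ Cfsg.zspanOn (↑Y : Set (N → ℂ)) {1}ᶜ, τ' θ = τ θ) ∧
      ∑ η ∈ Y, a (Sum.inr η) • τ η = -((m : ℤ) • τ' η₀) := by
    by_cases hb : b = 0
    · refine ⟨τ, hτ, fun _ _ => rfl, ?_⟩
      rw [Finset.sum_eq_single η₀] <;> simp [a, hb, hη₀]
      exact fun η _ hne h => absurd h hne
    · have hb1 : b = 1 ∧ k = 2 := by
        have h : b * (k * b - 2) = 0 := by linear_combination hB0
        have h' := (mul_eq_zero.mp h).resolve_left hb
        have hbp : 0 < b := by nlinarith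
        have hb' : b = 1 := by
          by_contra hne
          have : 2 ≤ b := by omega
          nlinarith
        exact ⟨hb', by rw [hb'] at h'; linarith⟩
      obtain ⟨η₁, hη₁, hne⟩ := Finset.exists_mem_ne hY2 η₀
      have hYeq : Y = {η₀, η₁} := by
        refine (Finset.eq_of_subset_of_card_le (by simp [Finset.insert_subset_iff, hη₀, hη₁]) ?_).symm
        rw [Finset.card_pair hne.symm]
        have : (Y.card : ℤ) ≤ 2 := by linarith [hb1.2]
        exact_mod_cast this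
      obtain ⟨τ', h1, h2, h3, -⟩ := exists_swap (hirrY η₀ hη₀) (hirrY η₁ hη₁) hne.symm
        (hYdeg η₁ hη₁).symm (X := (↑Y : Set (N → ℂ))) (by rw [hYeq, Finset.coe_pair]) hτ
      refine ⟨τ', h1, h2, ?_⟩
      rw [hYeq, Finset.sum_pair hne.symm, h3]
      simp [a, hb1.1, hne]
  obtain ⟨σ', s1, s2, s3⟩ := hXcase
  obtain ⟨τ', t1, t2, t3⟩ := hYcase
  exact ⟨σ', τ', s1, s2, t1, t2, by rw [hΔeq, s3, t3, sub_eq_add_neg]⟩

end Adjust

section Main

variable {N : Type*} [Group N] [Fintype N]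

/-- the restriction to a central part of a function orthogonal to the differences in `X` -/
theorem value_relation (Z : Subgroup N) [Z.Normal] {φ : N → ℂ} (hφ : Cfsg.IsClassFunction N φ)
    (D a' : ℂ)
    (hcoef : ∀ χ : Cfsg.IrrCharacter N, (∃ z ∈ Z, (χ : N → ℂ) z ≠ (χ : N → ℂ) 1) →
      D * Cfsg.classInner φ (χ : N → ℂ) = a' * (χ : N → ℂ) 1) {z : N} (hz : z ∈ Z) (hz1 : z ≠ 1) :
    D * (φ 1 - φ z) = a' * (Nat.card N : ℂ) := by
  obtain ⟨C, hC⟩ := CfsgLib.FrobKernelChar.expansion (K := Z) hφ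
  have hmul : ∀ w ∈ Z, D * φ w = D * C +
      a' * ∑ χ ∈ CfsgLib.FrobKernelChar.relSet Z, (χ : N → ℂ) 1 * (χ : N → ℂ) w := by
    intro w hw
    rw [hC w hw, mul_add, Finset.mul_sum, Finset.mul_sum]
    refine congrArg _ (Finset.sum_congr rfl fun χ hχ => ?_)
    rw [← mul_assoc, hcoef χ (CfsgLib.FrobKernelChar.mem_relSet.mp hχ), mul_assoc]
  have h1 : ∑ χ ∈ CfsgLib.FrobKernelChar.relSet Z, (χ : N → ℂ) 1 * (χ : N → ℂ) 1 =
      (Nat.card N : ℂ) - (Z.index : ℂ) := by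
    have h := sum_degree_mul_irr (G := N) 1
    rw [if_pos rfl, ← Finset.sum_add_sum_compl (CfsgLib.FrobKernelChar.relSet Z),
      CfsgLib.FrobKernelChar.sum_sq_irrelevant] at h
    linear_combination h
  rw [mul_sub, hmul 1 Z.one_mem, hmul z hz, h1,
    CfsgLib.FrobKernelChar.sum_degree_mul_relevant hz hz1]
  ring

end Main

section TISylow

variable {G : Type*} [Group G] [Fintype G] {p : ℕ} [Fact p.Prime] (P : Sylow p G)

/-- Sibley's coherence theorem -/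
theorem sibley_coherence [Fintype ↥(Subgroup.normalizer ((P : Subgroup G) : Set G))]
    [Fintype ↥((P : Subgroup G).subgroupOf (Subgroup.normalizer ((P : Subgroup G) : Set G)))]
    (hp : p ≠ 2) (hTI : Cfsg.IsTISubset ((P : Subgroup G) : Set G))
    (hC : ∀ k ∈ (P : Subgroup G), k ≠ 1 → Subgroup.centralizer ({k} : Set G) ≤ (P : Subgroup G))
    (hnab : ¬ IsMulCommutative (P : Subgroup G)) :
    Cfsg.IsCoherent
      (↑(indAboveFinset ((P : Subgroup G).subgroupOf (Subgroup.normalizer ((P : Subgroup G) : Set G))) ⊥) :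
        Set (↥(Subgroup.normalizer ((P : Subgroup G) : Set G)) → ℂ)) {1}ᶜ
      (fun α => Cfsg.indFun (Subgroup.normalizer ((P : Subgroup G) : Set G)) α) := by
  set N := Subgroup.normalizer ((P : Subgroup G) : Set G) with hNdef
  set H := (P : Subgroup G).subgroupOf N with hHdef
  haveI hHn : H.Normal := Subgroup.normal_in_normalizer
  have hp' : p.Prime := Fact.out
  have hp3 : 3 ≤ p := by have := hp'.two_le; omega
  have hPN : (P : Subgroup G) ≤ N := Subgroup.le_normalizer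
  have hCN : ∀ h ∈ H, h ≠ 1 → Subgroup.centralizer ({h} : Set N) ≤ H := fun h hh h1 x hx =>
    Subgroup.mem_subgroupOf.mpr (hC h (Subgroup.mem_subgroupOf.mp hh) (fun e => h1 (Subtype.ext e))
      (Subgroup.mem_centralizer_singleton_iff.mpr
        (congrArg Subtype.val (Subgroup.mem_centralizer_singleton_iff.mp hx))))
  let eHP := Subgroup.subgroupOfEquivOfLe hPN
  have hcardH : Nat.card H = Nat.card (P : Subgroup G) := Nat.card_congr eHP.toEquiv
  have hpH : IsPGroup p H := P.isPGroup'.of_equiv eHP.symm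
  obtain ⟨nH, hnH⟩ := hpH.exists_card_eq
  have hnab' : ¬ IsMulCommutative H := fun h => hnab ⟨⟨fun a b => by
    have := congrArg eHP (h.1.1 (eHP.symm a) (eHP.symm b))
    simpa using this⟩⟩
  have hH1 : H ≠ ⊥ := fun e => hnab' (by rw [e]; infer_instance)
  haveI hnil : Group.IsNilpotent H := hpH.isNilpotent
  have hsolv : Group.IsSolvable H := inferInstance
  have hoddH : Odd (Nat.card H) := hnH ▸ (hp'.odd_of_ne_two hp).pow
  have heodd : Odd H.index := Nat.not_even_iff_odd.mp fun he => hnab'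
    (commute_all_of_fpf_involution hHn hCN (fun h => Nat.not_even_iff_odd.mpr hoddH (even_iff_two_dvd.mpr h))
      (even_iff_two_dvd.mp he))
  have hpe : ¬ p ∣ H.index := fun hd => by
    have hpd : p ∣ Nat.card H := by
      rw [hnH]
      refine dvd_pow_self p ?_
      rintro rfl
      exact hH1 (Subgroup.card_eq_one.mp (by rw [hnH, pow_zero]))
    exact hp'.coprime_iff_not_dvd.mp
      ((CfsgLib.Frobenius.coprime_card_index_of_centralizer_le H hCN).coprime_dvd_left hpd) hd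
  have hoddN : Odd (Nat.card N) := by rw [← H.card_mul_index]; exact hoddH.mul heodd
  -- the isometry
  have hsysI := indFun_ti_isometry (P : Subgroup G) hTI (↑(indAboveFinset H ⊥) : Set (N → ℂ))
    (fun χ hχ => isGeneralizedCharacter_of_isCharacter (isCharacter_of_irr (indAbove_irr hCN hχ)))
    (fun χ hχ x hx => by
      obtain ⟨θ, -, rfl⟩ := Finset.mem_image.mp hχ
      exact CfsgLib.Induction.indFun_normal_eq_zero H (fun h => hx (Subgroup.mem_subgroupOf.mp h)))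
  have hsys : IrrSys (↑(indAboveFinset H ⊥) : Set (N → ℂ)) (fun α => Cfsg.indFun N α) :=
    ⟨fun χ hχ => indAbove_irr hCN hχ, hsysI.1, hsysI.2⟩
  -- the central subgroup
  set Z := H ⊓ Subgroup.centralizer (H : Set N) ⊓ ⁅H, H⁆ with hZdef
  have hZH : Z ≤ H := inf_le_left.trans inf_le_left
  have hZK : Z ≤ ⁅H, H⁆ := inf_le_right
  have hZc : ∀ z ∈ Z, ∀ k ∈ H, z * k = k * z := fun z hz k hk =>
    (Subgroup.mem_centralizer_iff.mp hz.1.2 k hk).symm
  have hZ1 : Z ≠ ⊥ := by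
    intro hbot
    have hne : (⁅H, H⁆).subgroupOf H ≠ ⊥ := fun e => hnab' ⟨⟨fun a b => Subtype.ext (by
      have hab : ⁅(a : N), (b : N)⁆ ∈ ⁅H, H⁆ := Subgroup.commutator_mem_commutator a.2 b.2
      have : (⟨⁅(a : N), (b : N)⁆, Subgroup.commutator_le_right H H hab⟩ : H) ∈ (⁅H, H⁆).subgroupOf H :=
        Subgroup.mem_subgroupOf.mpr hab
      rw [e, Subgroup.mem_bot] at this
      exact commutatorElement_eq_one_iff_mul_comm.mp (congrArg Subtype.val this))⟩⟩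
    haveI : ((⁅H, H⁆).subgroupOf H).Normal := inferInstance
    obtain ⟨⟨z, hzc, hzm⟩, hz1⟩ := Subgroup.ne_bot_iff_exists_ne_one.mp
      (CfsgLib.OddOrder.PuigSeries.inf_center_ne_bot _ hne)
    have : (z : N) ∈ Z := ⟨⟨z.2, Subgroup.mem_centralizer_iff.mpr fun k hk =>
      congrArg Subtype.val (Subgroup.mem_center_iff.mp hzc ⟨k, hk⟩)⟩, Subgroup.mem_subgroupOf.mp hzm⟩
    rw [hbot, Subgroup.mem_bot] at this
    exact hz1 (Subtype.ext (Subtype.ext this))
  -- the set `X`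
  have hirrOff : ∀ θ ∈ thetaOff H Z, Cfsg.IsIrrCharacter N (Cfsg.indFun H (θ : H → ℂ)) := fun θ hθ =>
    indFun_irr_of_free hHn hCN θ.2 (thetaOff_ne_one hθ)
  set X := offFinset H Z with hXdef
  have hXS : X ⊆ indAboveFinset H ⊥ := fun χ hχ => by
    obtain ⟨θ, hθ, rfl⟩ := Finset.mem_image.mp hχ
    exact Finset.mem_image_of_mem _ (mem_thetaAbove.mpr ⟨thetaOff_ne_one hθ, fun a ha => by
      rw [show a = 1 from Subtype.ext (Subgroup.mem_bot.mp ha)]⟩)
  have hX2 : 2 ≤ X.card := not_lt.mp fun h => Nat.not_even_iff_odd.mpr heodd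
    (even_iff_two_dvd.mpr (even_of_offFinset_small hHn Z hZH hZ1 hZc hp' hp3 hpH hirrOff h))
  obtain ⟨-, σ, hσ, hσα⟩ := offFinset_coherent hHn Z hZH hZc hp' hp3 hpH hpe hirrOff
    (hsys.mono hXS) hX2
  -- the set `Y`
  have hlt : ⁅H, H⁆ < H := commutator_lt_kernel_step hnil hH1 le_rfl
  set Y := indAboveFinset H ⁅H, H⁆ with hYdef
  have hYS : Y ⊆ indAboveFinset H ⊥ := indAboveFinset_mono bot_le
  have hk := card_indAbove_linear hCN (A := ⁅H, H⁆) le_rfl
  have hx1 : 1 < (⁅H, H⁆).relIndex H := by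
    have h0 : (⁅H, H⁆).relIndex H ≠ 0 := Subgroup.index_ne_zero_of_finite (H := (⁅H, H⁆).subgroupOf H)
    have h1 : (⁅H, H⁆).relIndex H ≠ 1 := fun e => hlt.not_ge (Subgroup.relIndex_eq_one.mp e)
    omega
  have hxodd : Odd ((⁅H, H⁆).relIndex H) := hoddH.of_dvd_nat (Subgroup.relIndex_dvd_card _ H)
  have hY2 : 2 ≤ Y.card := by
    obtain ⟨t, ht⟩ := hxodd
    obtain ⟨u, hu⟩ := heodd
    by_contra hlt2
    rcases Nat.lt_or_ge Y.card 1 with h | h
    · rw [show (indAboveFinset H ⁅H, H⁆).card = 0 by rw [← hYdef]; omega] at hk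
      omega
    · rw [show (indAboveFinset H ⁅H, H⁆).card = 1 by rw [← hYdef]; omega] at hk
      omega
  obtain ⟨-, τ, hτ, hτα⟩ := coherent_linear hCN hsys (A := ⁅H, H⁆) le_rfl hlt (by
    obtain ⟨t, ht⟩ := hxodd; obtain ⟨u, hu⟩ := heodd; omega)
  have hXY : Disjoint X Y := Finset.disjoint_left.mpr fun χ hX' hY' => by
    obtain ⟨θ, hθ, rfl⟩ := Finset.mem_image.mp hX'
    obtain ⟨η, hη, e⟩ := Finset.mem_image.mp hY'
    obtain ⟨z, hz, hzne⟩ := mem_thetaOff.mp hθ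
    exact hzne ((mem_thetaAbove.mp (thetaAbove_closed hHn _ η hη θ e.symm)).2 z (hZK hz))
  -- degrees
  obtain ⟨a, hadeg, -, -⟩ := offFinset_degrees hHn Z hZH hZc hp' hpH hirrOff
  obtain ⟨χ₀, hχ₀, hmin⟩ := Finset.exists_min_image X a (Finset.card_pos.mp (by omega))
  obtain ⟨η₀, hη₀⟩ := Finset.card_pos.mp (show 0 < Y.card by omega)
  set e := H.index with hedef
  have he0 : 0 < e := Nat.pos_of_ne_zero (Subgroup.index_ne_zero_of_finite (H := H))
  set m := p ^ a χ₀ with hmdef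
  have hm0 : 0 < m := pow_pos hp'.pos _
  let md : (N → ℂ) → ℕ := fun χ => p ^ (a χ - a χ₀)
  have hirrS : ∀ χ ∈ indAboveFinset H ⊥, Cfsg.IsIrrCharacter N χ := fun χ h => indAbove_irr hCN h
  have hXd : ∀ χ ∈ X, χ 1 = (e : ℂ) * m * (md χ : ℂ) := fun χ hχ => by
    rw [natDeg_spec (isCharacter_of_irr (hirrS χ (hXS hχ))), hadeg χ hχ, ← Nat.cast_mul, ← Nat.cast_mul]
    congr 1
    rw [mul_assoc, hmdef, ← pow_add, Nat.add_sub_cancel' (hmin χ hχ)]
  have hmd0 : md χ₀ = 1 := by simp [md]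
  have hχd : χ₀ 1 = (e : ℂ) * m := by rw [hXd χ₀ hχ₀, hmd0, Nat.cast_one, mul_one]
  have hYd : ∀ η ∈ Y, η 1 = (e : ℂ) := fun η hη => by
    rw [natDeg_spec (isCharacter_of_irr (hirrS η (hYS hη))), natDeg_indAbove_linear le_rfl hη]
  -- orthogonality of the images
  have h31 := Cfsg.Agent.S1531.result N (↑(indAboveFinset H ⊥) : Set (N → ℂ)) (↑X) (↑Y) hirrS
    (Finset.coe_subset.mpr hXS) (Finset.coe_subset.mpr hYS) (Finset.disjoint_coe.mpr hXY)
    (Finset.one_lt_card.mp hX2) (Finset.one_lt_card.mp hY2) (fun α => Cfsg.indFun N α)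
    hsys.isometry hsys.map_one
  have hcross := (h31 σ τ hσ hσα hτ hτα).1
  -- the two kinds of test elements
  have hone : ∀ χ ∈ indAboveFinset H ⊥, Cfsg.classInner χ χ = 1 := fun χ h =>
    classInner_irr_self (hirrS χ h)
  have horth : ∀ χ ∈ indAboveFinset H ⊥, ∀ ξ ∈ indAboveFinset H ⊥, χ ≠ ξ → Cfsg.classInner χ ξ = 0 :=
    fun χ h ξ h' hne => classInner_irr_ne (hirrS χ h) (hirrS ξ h') hne
  have hXYne : ∀ χ ∈ X, ∀ η ∈ Y, χ ≠ η := fun χ hχ η hη h =>
    Finset.disjoint_left.mp hXY hχ (h ▸ hη)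
  have hmX : ∀ χ ∈ X, χ - (md χ : ℤ) • χ₀ ∈ Cfsg.zspanOn (↑X : Set (N → ℂ)) {1}ᶜ := fun χ hχ =>
    zspanOn_compl_one.mpr ⟨zspan_sub (zspan_of_mem hχ) (zspan_zsmul _ (zspan_of_mem hχ₀)), by
      simp [hXd χ hχ, hχd]; ring⟩
  have hmY : ∀ η ∈ Y, η - η₀ ∈ Cfsg.zspanOn (↑Y : Set (N → ℂ)) {1}ᶜ := fun η hη =>
    zspanOn_compl_one.mpr ⟨zspan_sub (zspan_of_mem hη) (zspan_of_mem hη₀), by
      rw [Pi.sub_apply, hYd η hη, hYd η₀ hη₀, sub_self]⟩
  have hσd : ∀ χ ∈ X, Cfsg.indFun N (χ - (md χ : ℤ) • χ₀) = σ χ - (md χ : ℤ) • σ χ₀ := fun χ hχ => by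
    refine (hσα _ (hmX χ hχ)).symm.trans ?_
    rw [isometry_sub hσ (zspan_of_mem hχ) (zspan_zsmul _ (zspan_of_mem hχ₀))
      (hmX χ hχ).1, hσ.2.1 _ (zspan_of_mem hχ₀)]
  have hτd : ∀ η ∈ Y, Cfsg.indFun N (η - η₀) = τ η - τ η₀ := fun η hη => by
    refine (hτα _ (hmY η hη)).symm.trans ?_
    rw [isometry_sub hτ (zspan_of_mem hη) (zspan_of_mem hη₀) (hmY η hη).1]
  set γ := χ₀ - (m : ℤ) • η₀ with hγ
  have hγm : γ ∈ Cfsg.zspanOn (↑(indAboveFinset H ⊥) : Set (N → ℂ)) {1}ᶜ :=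
    zspanOn_compl_one.mpr ⟨zspan_sub (zspan_of_mem (hXS hχ₀))
      (zspan_zsmul _ (zspan_of_mem (hYS hη₀))), by
      simp [hγ, hχd, hYd η₀ hη₀]; ring⟩
  set Δ := Cfsg.indFun N γ with hΔdef
  have hgenΔ : Cfsg.IsGeneralizedCharacter G Δ := hsys.isometry.2.2.2 γ hγm
  have hΔn : Cfsg.classInner Δ Δ = 1 + (m : ℂ) ^ 2 := by
    rw [hΔdef, hsys.isometry.2.2.1 γ hγm γ hγm, hγ]
    simp only [classInner_sub_left, classInner_sub_right, classInner_zsmul_left,
      classInner_zsmul_right, hone χ₀ (hXS hχ₀), hone η₀ (hYS hη₀),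
      horth χ₀ (hXS hχ₀) η₀ (hYS hη₀) (hXYne χ₀ hχ₀ η₀ hη₀),
      horth η₀ (hYS hη₀) χ₀ (hXS hχ₀) (hXYne χ₀ hχ₀ η₀ hη₀).symm]
    push_cast; ring
  -- the divisibility
  have hdiv : ∀ η ∈ Y, ∃ u : ℤ, Cfsg.classInner Δ (τ η) = (((m : ℤ) * u : ℤ) : ℂ) := by
    intro η hη
    have hfgen : Cfsg.IsGeneralizedCharacter G (τ η) := hτ.2.2.2 η (zspan_of_mem hη)
    have hfcl := isClassFunction_of_isGeneralizedCharacter hfgen
    have hfr : Cfsg.IsGeneralizedCharacter N (fun k : N => τ η k) := by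
      obtain ⟨χ₁, χ₂, h1, h2, hd⟩ := hfgen
      exact ⟨_, _, isCharacter_subtype h1 N, isCharacter_subtype h2 N, funext fun k => congrFun hd k⟩
    obtain ⟨a', ha'⟩ := classInner_generalized_int hfr
      (isGeneralizedCharacter_irr ⟨χ₀, hirrS χ₀ (hXS hχ₀)⟩)
    obtain ⟨u', hu'⟩ := classInner_generalized_int hfr
      (isGeneralizedCharacter_irr ⟨η₀, hirrS η₀ (hYS hη₀)⟩)
    have hfrob : ∀ φ : N → ℂ, Cfsg.classInner (τ η) (Cfsg.indFun N φ) =
        Cfsg.classInner (fun k : N => τ η k) φ := fun φ =>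
      CfsgLib.Induction.classInner_indFun_right N φ hfcl
    have hcoef : ∀ χ ∈ X, Cfsg.classInner (fun k : N => τ η k) χ = (md χ : ℂ) * (a' : ℂ) := by
      intro χ hχ
      have h := hfrob (χ - (md χ : ℤ) • χ₀)
      rw [hσd χ hχ, classInner_sub_right, classInner_zsmul_right, classInner_conj_symm (σ χ) (τ η),
        classInner_conj_symm (σ χ₀) (τ η), hcross χ hχ η hη, hcross χ₀ hχ₀ η hη, map_zero,
        mul_zero, sub_zero, classInner_sub_right, classInner_zsmul_right, ha'] at h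
      push_cast at h
      linear_combination -h
    have hrel : ∀ z ∈ Z, z ≠ 1 → ((e : ℂ) * m) * (τ η (1 : G) - τ η (z : G)) =
        (a' : ℂ) * (Nat.card N : ℂ) := fun z hz hz1 => by
      refine value_relation Z (φ := fun k : N => τ η k)
        (isClassFunction_of_isGeneralizedCharacter hfr) _ _ (fun χ hχ => ?_) hz hz1
      have hχX : (χ : N → ℂ) ∈ X := by
        rw [← Finset.mem_coe, hXdef, offFinset_eq_irr hHn Z hZH hirrOff]
        exact ⟨χ.2, hχ⟩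
      rw [hcoef _ hχX, hXd _ hχX]; ring
    obtain ⟨⟨z₀, hz₀⟩, hz₀1⟩ := Subgroup.ne_bot_iff_exists_ne_one.mp hZ1
    have hz₀1' : z₀ ≠ 1 := fun h => hz₀1 (Subtype.ext h)
    obtain ⟨ψ, ε, hε, hψ⟩ := (isSigned_of_norm_one hfgen (by
      rw [hτ.2.2.1 η (zspan_of_mem hη) η (zspan_of_mem hη), hone η (hYS hη)])).exists_irr
    have hεε : ε * ε = 1 := by rcases hε with rfl | rfl <;> ring
    have hψeq : ∀ g : G, (ψ : G → ℂ) g = ε * τ η g := fun g => by
      rw [hψ, Pi.smul_apply, smul_eq_mul, ← mul_assoc, hεε, one_mul]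
    have hem : (e : ℂ) * m ≠ 0 :=
      mul_ne_zero (Nat.cast_ne_zero.mpr he0.ne') (Nat.cast_ne_zero.mpr hm0.ne')
    have hconst : ∀ g ∈ Z.map N.subtype, ∀ g' ∈ Z.map N.subtype, g ≠ 1 → g' ≠ 1 →
        (ψ : G → ℂ) g = (ψ : G → ℂ) g' := by
      rintro _ ⟨w, hw, rfl⟩ _ ⟨w', hw', rfl⟩ hw1 hw1'
      have h := (hrel w hw (fun h => hw1 (by rw [h]; rfl))).trans
        (hrel w' hw' (fun h => hw1' (by rw [h]; rfl))).symm
      rw [hψeq, hψeq]
      simp only [Subgroup.coe_subtype]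
      have := mul_left_cancel₀ hem h
      linear_combination -ε * this
    obtain ⟨n, d, hn, hd, t, ht⟩ := ti_congruence hTI hoddN (Z.map N.subtype)
      (by rintro _ ⟨w, hw, rfl⟩; exact Subgroup.mem_subgroupOf.mp (hZH hw))
      (by
        rintro x hx _ ⟨w, hw, rfl⟩
        exact ⟨⟨x, hx⟩ * w * ⟨x, hx⟩⁻¹, (inferInstance : Z.Normal).conj_mem w hw ⟨x, hx⟩, rfl⟩)
      (by
        rintro _ ⟨w, hw, rfl⟩ y hy
        exact congrArg Subtype.val (hZc w hw ⟨y, hPN hy⟩ (Subgroup.mem_subgroupOf.mpr hy)))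
      ψ.2 hconst (z := (z₀ : G)) ⟨z₀, hz₀, rfl⟩ (fun h => hz₀1' (Subtype.ext h))
    have hcardN : (Nat.card N : ℂ) = (e : ℂ) * (Nat.card (P : Subgroup G) : ℂ) := by
      rw [← H.card_mul_index, hcardH, Nat.cast_mul]; ring
    have hdiff : τ η (1 : G) - τ η (z₀ : G) = ε * ((Nat.card (P : Subgroup G) : ℂ) * t) := by
      have : ((d - n : ℤ) : ℂ) = ((Nat.card (P : Subgroup G) : ℤ) * t : ℤ) := congrArg _ ht
      push_cast at this
      rw [← this, ← hn, ← hd, hψeq, hψeq]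
      linear_combination -(τ η (1 : G) - τ η (z₀ : G)) * hεε
    have hk0 := hrel z₀ hz₀ hz₀1'
    rw [hdiff, hcardN] at hk0
    obtain ⟨ε', hε'⟩ : ∃ ε' : ℤ, ε = (ε' : ℂ) := by
      rcases hε with rfl | rfl
      exacts [⟨1, by simp⟩, ⟨-1, by simp⟩]
    have ha'm : (a' : ℂ) = (m : ℂ) * (ε' * t) := by
      have hne : (e : ℂ) * (Nat.card (P : Subgroup G) : ℂ) ≠ 0 :=
        mul_ne_zero (Nat.cast_ne_zero.mpr he0.ne') (Nat.cast_ne_zero.mpr Nat.card_pos.ne')
      refine mul_left_cancel₀ hne ?_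
      rw [hε'] at hk0
      linear_combination -hk0
    refine ⟨ε' * t - u', ?_⟩
    rw [classInner_conj_symm, hΔdef, hfrob, hγ, classInner_sub_right, classInner_zsmul_right, ha',
      hu', ha'm]
    simp only [map_sub, map_mul, map_natCast, map_intCast]
    push_cast; ring
  -- the coefficients
  obtain ⟨u, hu⟩ := hdiv η₀ hη₀
  obtain ⟨w, hw⟩ := classInner_generalized_int hgenΔ (hσ.2.2.2 χ₀ (zspan_of_mem hχ₀))
  have hΔσ : ∀ χ ∈ X, Cfsg.classInner Δ (σ χ) =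
      (((if χ = χ₀ then 1 else 0) + (w - 1) * md χ : ℤ) : ℂ) := by
    intro χ hχ
    by_cases hχe : χ = χ₀
    · subst hχe; rw [if_pos rfl, hw, hmd0]; push_cast; ring
    · rw [if_neg hχe]
      have h : Cfsg.classInner (Cfsg.indFun N γ) (Cfsg.indFun N (χ - (md χ : ℤ) • χ₀)) =
          Cfsg.classInner γ (χ - (md χ : ℤ) • χ₀) :=
        hsys.isometry.2.2.1 γ hγm _ (zspanOn_mono (Finset.coe_subset.mpr hXS) _ (hmX χ hχ))
      rw [← hΔdef, hσd χ hχ, classInner_sub_right, classInner_zsmul_right, hw, hγ] at h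
      simp only [classInner_sub_left, classInner_sub_right, classInner_zsmul_left,
        classInner_zsmul_right, hone χ₀ (hXS hχ₀), horth χ₀ (hXS hχ₀) χ (hXS hχ) (Ne.symm hχe),
        horth η₀ (hYS hη₀) χ₀ (hXS hχ₀) (hXYne χ₀ hχ₀ η₀ hη₀).symm,
        horth η₀ (hYS hη₀) χ (hXS hχ) (hXYne χ hχ η₀ hη₀).symm] at h
      push_cast at h ⊢
      linear_combination h
  have hΔτ : ∀ η ∈ Y, Cfsg.classInner Δ (τ η) =
      (((m : ℤ) * (u + 1 - if η = η₀ then 1 else 0) : ℤ) : ℂ) := by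
    intro η hη
    by_cases hηe : η = η₀
    · subst hηe; rw [if_pos rfl, hu]; push_cast; ring
    · rw [if_neg hηe]
      have h : Cfsg.classInner (Cfsg.indFun N γ) (Cfsg.indFun N (η - η₀)) =
          Cfsg.classInner γ (η - η₀) :=
        hsys.isometry.2.2.1 γ hγm _ (zspanOn_mono (Finset.coe_subset.mpr hYS) _ (hmY η hη))
      rw [← hΔdef, hτd η hη, classInner_sub_right, hu, hγ] at h
      simp only [classInner_sub_left, classInner_sub_right, classInner_zsmul_left,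
        hone η₀ (hYS hη₀), horth η₀ (hYS hη₀) η (hYS hη) (Ne.symm hηe),
        horth χ₀ (hXS hχ₀) η (hYS hη) (hXYne χ₀ hχ₀ η hη),
        horth χ₀ (hXS hχ₀) η₀ (hYS hη₀) (hXYne χ₀ hχ₀ η₀ hη₀)] at h
      push_cast at h ⊢
      linear_combination h
  obtain ⟨σ', τ', hσ', hσ'α, hτ', hτ'α, hΔ⟩ := glue_adjust (fun χ h => hirrS χ (hXS h))
    (fun η h => hirrS η (hYS h)) hX2 hY2 hσ hτ hcross hχ₀ hη₀
    (fun η h => (hYd η h).trans (hYd η₀ hη₀).symm) md hmd0 (fun χ _ => Nat.one_le_pow _ _ hp'.pos)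
    (fun χ h => by rw [hXd χ h, hχd, mul_comm]) m hm0 hΔn (w - 1) (u + 1) hΔσ hΔτ
  have hunion : Cfsg.IsCoherent ((↑X : Set (N → ℂ)) ∪ ↑Y) {1}ᶜ (fun α => Cfsg.indFun N α) := by
    refine (h31 σ' τ' hσ' (fun θ h => (hσ'α θ h).trans (hσα θ h)) hτ'
      (fun θ h => (hτ'α θ h).trans (hτα θ h))).2 ⟨χ₀, hχ₀, η₀, hη₀, ?_⟩
    have e1 : χ₀ 1 • η₀ - η₀ 1 • χ₀ = (-(e : ℂ)) • γ := by
      rw [hγ, hχd, hYd η₀ hη₀, zsmul_eq_smul]; push_cast; module
    show Cfsg.indFun N _ = _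
    rw [e1, CfsgLib.Induction.indFun_smul, ← hΔdef, hΔ, hχd, hYd η₀ hη₀, zsmul_eq_smul]
    push_cast; module
  rw [← Finset.coe_union] at hunion
  -- the rest
  have hres := coherent_add_irr_all hsys η₀ (indAboveFinset H Z) (X ∪ Y)
    (Finset.coe_subset.mpr (Finset.union_subset hXS hYS)) hunion (Finset.mem_union_right _ hη₀)
    (Finset.coe_subset.mpr (indAboveFinset_mono bot_le)) fun χ hχ => ?_
  · have hall : X ∪ Y ∪ indAboveFinset H Z = indAboveFinset H ⊥ := by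
      refine Finset.Subset.antisymm
        (Finset.union_subset (Finset.union_subset hXS hYS) (indAboveFinset_mono bot_le)) fun χ hχ => ?_
      obtain ⟨θ, hθ, rfl⟩ := Finset.mem_image.mp hχ
      by_cases h : θ ∈ thetaOff H Z
      · exact Finset.mem_union_left _ (Finset.mem_union_left _ (Finset.mem_image_of_mem _ h))
      · refine Finset.mem_union_right _ (Finset.mem_image_of_mem _ (mem_thetaAbove.mpr
          ⟨(mem_thetaAbove.mp hθ).1, fun z hz => ?_⟩))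
        by_contra hne
        exact h (mem_thetaOff.mpr ⟨z, hz, hne⟩)
    rw [hall] at hres
    convert hres
  · obtain ⟨θ, hθ, rfl⟩ := Finset.mem_image.mp hχ
    rw [natDeg_indAbove_linear le_rfl hη₀, natDeg_indFun (irr_isCharacter θ)]
    refine ⟨dvd_mul_right _ _, ?_⟩
    have hb : natDeg (θ : H → ℂ) ^ 2 ≤ Z.relIndex H :=
      sq_natDeg_le_centre (B := Z) (D := Z) (fun d hd h hh => by
        rw [commutatorElement_eq_one_iff_mul_comm.mpr (hZc d hd h hh)]; exact Z.one_mem) θ.2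
        (mem_thetaAbove.mp hθ).2
    have hsX := sum_sq_offFinset hHn Z hirrOff
    have hsY := sum_sq_indAbove hCN (A := ⁅H, H⁆)
    rw [← hYdef, ← hedef] at hsY
    rw [← hXdef, ← hedef, ← relIndex_mul_card Z hZH] at hsX
    rw [← hedef, Finset.sum_union hXY]
    have hz2 : 2 * e + 1 ≤ Nat.card Z := by
      have hd := kernel_dvd_card_sub_one hCN Z hZH
      rw [← hedef] at hd
      obtain ⟨v, hv⟩ := hd
      obtain ⟨s, hs⟩ := hoddH.of_dvd_nat (Subgroup.card_dvd_of_le hZH)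
      obtain ⟨r, hr⟩ := heodd
      have h1 := (Subgroup.one_lt_card_iff_ne_bot Z).mpr hZ1
      have hv1 : v ≠ 1 := fun h => by rw [h] at hv; omega
      have hv0 : v ≠ 0 := fun h => by rw [h] at hv; omega
      have : e * 2 ≤ e * v := Nat.mul_le_mul_left e (by omega)
      omega
    have hposY : 0 < ∑ φ ∈ Y, natDeg φ ^ 2 := by
      rw [hsY]; exact Nat.mul_pos he0 (by omega)
    have htle : natDeg (θ : H → ℂ) ≤ Z.relIndex H := (Nat.le_self_pow two_ne_zero _).trans hb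
    calc 2 * e * (e * natDeg (θ : H → ℂ)) ≤ 2 * e * (e * Z.relIndex H) :=
          Nat.mul_le_mul_left _ (Nat.mul_le_mul_left _ htle)
      _ ≤ ∑ χ ∈ X, natDeg χ ^ 2 := by
          have := Nat.mul_le_mul_left (e * Z.relIndex H) hz2
          nlinarith [hsX, this]
      _ < _ := Nat.lt_add_of_pos_right hposY

end TISylow

end CfsgLib.OddChar
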