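import Cfsg.Agent.Lib.OddChar.GridDecomp
import Cfsg.Agent.Lib.OddChar.Signed

set_option autoImplicit false
set_option linter.style.haveILetI false

/-! Orthonormal sets of signed irreducibles: inner products as counts. -/

namespace CfsgLib.OddChar

open scoped Classical ComplexConjugate
open Finset CfsgLib.Characters

variable {X : Type*} [Group X] [Fintype X]

/-- an orthonormal set of signed irreducibles -/
def IsSignedSet (A : Finset (X → ℂ)) : Prop :=
  (∀ f ∈ A, IsSigned f) ∧ ∀ f ∈ A, ∀ g ∈ A, Cfsg.classInner f g = if f = g then 1 else 0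

omit [Fintype X] in
theorem IsSigned.ne_neg {f : X → ℂ} (h : IsSigned f) : f ≠ -f := fun e => h.apply_one_ne_zero (by
  have := congrFun e 1
  simp only [Pi.neg_apply] at this
  linear_combination this / 2)

theorem IsSigned.inner_eq {f g : X → ℂ} (hf : IsSigned f) (hg : IsSigned g) :
    Cfsg.classInner f g = (if f = g then 1 else 0) - (if f = -g then 1 else 0) := by
  rcases hf.cases hg with e | e | e
  · rw [if_pos e, if_neg (e ▸ hg.ne_neg), e, hg.norm_one, sub_zero]
  · rw [if_pos e, if_neg (e ▸ hg.ne_neg.symm), e, classInner_neg_left, hg.norm_one, zero_sub]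
  · have n1 : f ≠ g := fun h => by rw [h, hg.norm_one] at e; exact one_ne_zero e
    have n2 : f ≠ -g := fun h => by
      rw [h, classInner_neg_left, hg.norm_one] at e
      exact one_ne_zero (neg_eq_zero.mp e)
    rw [e, if_neg n1, if_neg n2, sub_zero]

theorem IsSignedSet.no_opp {A : Finset (X → ℂ)} (h : IsSignedSet A) : ∀ y ∈ A, -y ∉ A := by
  intro y hy hy'
  have := h.2 y hy _ hy'
  rw [classInner_neg_right, (h.1 y hy).norm_one, if_neg (h.1 y hy).ne_neg] at this
  exact one_ne_zero (neg_eq_zero.mp this)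

theorem inner_eq_counts {A B : Finset (X → ℂ)} (hA : IsSignedSet A) (hB : IsSignedSet B) :
    Cfsg.classInner (∑ f ∈ A, f) (∑ g ∈ B, g) =
      ((A.filter (· ∈ B)).card : ℂ) - ((A.filter (fun f => -f ∈ B)).card : ℂ) := by
  rw [classInner_sum_left]
  have e : ∀ f ∈ A, Cfsg.classInner f (∑ g ∈ B, g) =
      (if f ∈ B then 1 else 0) - (if -f ∈ B then 1 else 0) := by
    intro f hf
    rw [classInner_sum_right, Finset.sum_congr rfl fun g hg => (hA.1 f hf).inner_eq (hB.1 g hg),
      Finset.sum_sub_distrib]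
    have e2 : ∀ g, (f = -g) ↔ (-f = g) := fun g => neg_eq_iff_eq_neg.symm
    simp only [e2, Finset.sum_ite_eq]
  rw [Finset.sum_congr rfl e, Finset.sum_sub_distrib, Finset.sum_boole, Finset.sum_boole]

theorem bal_of_inner {A B : Finset (X → ℂ)} (hA : IsSignedSet A) (hB : IsSignedSet B)
    (h : Cfsg.classInner (∑ f ∈ A, f) (∑ g ∈ B, g) = 0) : Bal A B := by
  rw [inner_eq_counts hA hB, sub_eq_zero, Nat.cast_inj] at h
  refine ⟨fun ⟨x, hx, hx'⟩ => ?_, fun ⟨y, hy, hy'⟩ => ?_⟩
  · have : 0 < (A.filter (fun f => -f ∈ B)).card :=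
      h ▸ Finset.card_pos.mpr ⟨x, mem_filter.mpr ⟨hx, hx'⟩⟩
    obtain ⟨y, hy⟩ := Finset.card_pos.mp this
    exact ⟨y, (mem_filter.mp hy).1, (mem_filter.mp hy).2⟩
  · have : 0 < (A.filter (· ∈ B)).card :=
      h.symm ▸ Finset.card_pos.mpr ⟨y, mem_filter.mpr ⟨hy, hy'⟩⟩
    obtain ⟨x, hx⟩ := Finset.card_pos.mp this
    exact ⟨x, (mem_filter.mp hx).1, (mem_filter.mp hx).2⟩

theorem meet_of_inner {A B : Finset (X → ℂ)} (hA : IsSignedSet A) (hB : IsSignedSet B)
    (hA3 : A.card = 3) (hB3 : B.card = 3) (hdeg : (∑ f ∈ A, f) 1 = (∑ g ∈ B, g) 1)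
    (h : Cfsg.classInner (∑ f ∈ A, f) (∑ g ∈ B, g) = 1) : Meet A B := by
  set P := A.filter (· ∈ B) with hP
  set N := A.filter (fun f => -f ∈ B) with hN
  have hdis : Disjoint P N := Finset.disjoint_filter.mpr fun f _ h1 h2 => hB.no_opp f h1 h2
  have hle : P.card + N.card ≤ 3 := by
    rw [← Finset.card_union_of_disjoint hdis, ← hA3]
    exact Finset.card_le_card (Finset.union_subset (filter_subset _ _) (filter_subset _ _))
  rw [inner_eq_counts hA hB, sub_eq_iff_eq_add'] at h
  have hc : P.card = N.card + 1 := by exact_mod_cast h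
  have hN0 : N.card = 0 := by
    by_contra h0
    have hN1 : N.card = 1 := by omega
    have hAu : A = P ∪ N := (Finset.eq_of_subset_of_card_le
      (Finset.union_subset (filter_subset _ _) (filter_subset _ _))
      (by rw [Finset.card_union_of_disjoint hdis]; omega)).symm
    have hdis' : Disjoint P (N.image Neg.neg) := Finset.disjoint_left.mpr fun f hf hf' => by
      obtain ⟨g, hg, rfl⟩ := Finset.mem_image.mp hf'
      exact hA.no_opp g (mem_filter.mp hg).1 (mem_filter.mp hf).1
    have hBu : B = P ∪ N.image Neg.neg := (Finset.eq_of_subset_of_card_le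
      (Finset.union_subset (fun f hf => (mem_filter.mp hf).2) (fun f hf => by
        obtain ⟨g, hg, rfl⟩ := Finset.mem_image.mp hf
        exact (mem_filter.mp hg).2))
      (by
        rw [Finset.card_union_of_disjoint hdis', Finset.card_image_of_injective _ neg_injective]
        omega)).symm
    obtain ⟨x, hx⟩ := Finset.card_eq_one.mp hN1
    rw [hAu, hBu, Finset.sum_union hdis, Finset.sum_union hdis', hx, Finset.image_singleton,
      Finset.sum_singleton, Finset.sum_singleton, Pi.add_apply, Pi.add_apply, Pi.neg_apply] at hdeg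
    refine (hA.1 x ?_).apply_one_ne_zero (by linear_combination hdeg / 2)
    exact (mem_filter.mp (show x ∈ N by rw [hx]; exact mem_singleton_self x)).1
  refine ⟨?_, fun y hy hy' => ?_⟩
  · obtain ⟨x, hx⟩ := Finset.card_eq_one.mp (show P.card = 1 by omega)
    have hxP : x ∈ P := by rw [hx]; exact mem_singleton_self x
    refine ⟨x, (mem_filter.mp hxP).1, (mem_filter.mp hxP).2, fun y h1 h2 => ?_⟩
    have : y ∈ P := mem_filter.mpr ⟨h1, h2⟩
    rw [hx] at this
    exact mem_singleton.mp this
  · have : y ∈ N := mem_filter.mpr ⟨hy, hy'⟩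
    rw [Finset.card_eq_zero.mp hN0] at this
    exact notMem_empty y this

end CfsgLib.OddChar
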