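import Cfsg.Agent.Lib.OddChar.TypePLike
import Cfsg.Agent.Lib.OddChar.CyclicExist

set_option autoImplicit false
set_option linter.style.haveILetI false

/-! The family of a cyclic TI subgroup `W₁ W₂` inside `K W₁`: values and inductions of differences. -/

namespace CfsgLib.OddChar

open scoped Classical ComplexConjugate
open Finset CfsgLib.Characters

variable {L : Type*} [Group L] {K W₁ W₂ : Subgroup L}

theorem TPL.comm (h : TPL K W₁ W₂) : ∀ a ∈ W₁, ∀ b ∈ W₂, a * b = b * a := by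
  intro a ha b hb
  rcases eq_or_ne a 1 with rfl | ha1
  · simp
  · exact (h.commute₂ ha ha1 hb).symm.eq

theorem TPL.disj₁₂ (h : TPL K W₁ W₂) : W₁ ⊓ W₂ = ⊥ :=
  eq_bot_iff.mpr ((le_inf (inf_le_right.trans h.le₂) inf_le_left).trans h.disj.le)

theorem TPL.sup_abel (h : TPL K W₁ W₂) (a b : ↥(W₁ ⊔ W₂)) : a * b = b * a := by
  obtain ⟨⟨p, q⟩, rfl⟩ := (ctiMul_bijective h.disj₁₂ h.comm).2 a
  obtain ⟨⟨r, s⟩, rfl⟩ := (ctiMul_bijective h.disj₁₂ h.comm).2 b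
  haveI := h.cyc₁
  haveI := h.cyc₂
  rw [← map_mul, ← map_mul, Prod.mk_mul_mk, Prod.mk_mul_mk,
    IsMulCommutative.is_comm.comm p r, IsMulCommutative.is_comm.comm q s]

theorem TPL.mem₂_of_mem (h : TPL K W₁ W₂) {w : L} (hw : w ∈ W₁ ⊔ W₂) (hK : w ∈ K) : w ∈ W₂ := by
  obtain ⟨⟨a, b⟩, e⟩ := (ctiMul_bijective h.disj₁₂ h.comm).2 ⟨w, hw⟩
  have e' : (a : L) * (b : L) = w := congrArg Subtype.val e
  have ha : (a : L) ∈ K ⊓ W₁ := ⟨by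
    have : (a : L) = w * (b : L)⁻¹ := by rw [← e']; group
    rw [this]
    exact K.mul_mem hK (K.inv_mem (h.le₂ b.2)), a.2⟩
  rw [h.disj, Subgroup.mem_bot] at ha
  rw [← e', ha, one_mul]
  exact b.2

theorem TPL.TI [Finite L] (h : TPL K W₁ W₂) {w x : L} (hw : w ∈ W₁ ⊔ W₂) (h₂ : w ∉ W₂)
    (hx : x⁻¹ * w * x ∈ W₁ ⊔ W₂) : x ∈ W₁ ⊔ W₂ := by
  haveI := h.normal
  obtain ⟨k, hk, u, hu, rfl⟩ := Subgroup.mem_sup_of_normal_left.mp (h.top.ge (Subgroup.mem_top x))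
  have huW : u ∈ W₁ ⊔ W₂ := Subgroup.mem_sup_left hu
  refine Subgroup.mul_mem _ ?_ huW
  have hk' : k⁻¹ * w * k ∈ W₁ ⊔ W₂ := by
    have := Subgroup.mul_mem _ (Subgroup.mul_mem _ huW hx) (Subgroup.inv_mem _ huW)
    convert this using 1
    group
  obtain ⟨⟨a, b⟩, e⟩ := (ctiMul_bijective h.disj₁₂ h.comm).2 ⟨w, hw⟩
  obtain ⟨⟨a', b'⟩, e'⟩ := (ctiMul_bijective h.disj₁₂ h.comm).2 ⟨_, hk'⟩
  have e₁ : (a : L) * (b : L) = w := congrArg Subtype.val e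
  have e₂ : (a' : L) * (b' : L) = k⁻¹ * w * k := congrArg Subtype.val e'
  have ha1 : (a : L) ≠ 1 := fun hh => h₂ (by rw [← e₁, hh, one_mul]; exact b.2)
  obtain ⟨n, hn₁, hn₂⟩ := Nat.chineseRemainder (h.index_eq ▸ h.hall) 1 0
  have hp : ∀ z₁ ∈ W₁, ∀ z₂ ∈ W₂, (z₁ * z₂) ^ n = z₁ := by
    intro z₁ g₁ z₂ g₂
    have t₁ : z₁ ^ n = z₁ ^ 1 :=
      pow_eq_pow_iff_modEq.mpr (Nat.ModEq.of_dvd (W₁.orderOf_dvd_natCard g₁) hn₁)
    have t₂ : z₂ ^ n = z₂ ^ 0 :=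
      pow_eq_pow_iff_modEq.mpr (Nat.ModEq.of_dvd (K.orderOf_dvd_natCard (h.le₂ g₂)) hn₂)
    have hc : Commute z₁ z₂ := h.comm z₁ g₁ z₂ g₂
    rw [hc.mul_pow, t₁, t₂, pow_one, pow_zero, mul_one]
  have h1 : k⁻¹ * (a : L) * k = a' := by
    have hconj : (k⁻¹ * w * k) ^ n = k⁻¹ * w ^ n * k := by
      have := conj_pow (i := n) (a := k⁻¹) (b := w)
      rwa [inv_inv] at this
    conv_rhs => rw [← hp a' a'.2 b' b'.2, e₂, hconj, ← e₁, hp a a.2 b b.2]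
  have h2 : (a' : L) * (a : L)⁻¹ ∈ K ⊓ W₁ := by
    refine ⟨?_, W₁.mul_mem a'.2 (W₁.inv_mem a.2)⟩
    have : k⁻¹ * (a : L) * k * (a : L)⁻¹ = k⁻¹ * ((a : L) * k * (a : L)⁻¹) := by group
    rw [← h1, this]
    exact K.mul_mem (K.inv_mem hk) (h.normal.conj_mem k hk a)
  rw [h.disj, Subgroup.mem_bot, mul_inv_eq_one] at h2
  refine Subgroup.mem_sup_right (h.mem₂ a.2 ha1 hk ?_)
  show k * (a : L) = a * k
  calc k * (a : L) = k * (k⁻¹ * a * k) := by rw [h1, h2]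
    _ = a * k := by group

theorem TPL.indFun_apply_of_notMem [Fintype L] (h : TPL K W₁ W₂) (f : ↥(W₁ ⊔ W₂) → ℂ)
    (w : ↥(W₁ ⊔ W₂)) (hw : (w : L) ∉ W₂) : Cfsg.indFun (W₁ ⊔ W₂) f w = f w := by
  rw [CfsgLib.Induction.indFun_apply]
  have hsum : ∑ x : L, Cfsg.extendByZero (W₁ ⊔ W₂) f (x⁻¹ * w * x) =
      ∑ x ∈ univ.filter (· ∈ W₁ ⊔ W₂), Cfsg.extendByZero (W₁ ⊔ W₂) f (x⁻¹ * w * x) := by
    symm
    refine Finset.sum_subset (Finset.subset_univ _) fun x _ hx => ?_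
    have hx' : x ∉ W₁ ⊔ W₂ := by simpa using hx
    exact CfsgLib.Induction.extendByZero_notMem _ _ fun hm => hx' (h.TI w.2 hw hm)
  have hconst : ∀ x ∈ univ.filter (· ∈ W₁ ⊔ W₂),
      Cfsg.extendByZero (W₁ ⊔ W₂) f (x⁻¹ * w * x) = f w := by
    intro x hx
    have e : x⁻¹ * (w : L) * x = w := by
      have := congrArg Subtype.val (h.sup_abel w ⟨x, (mem_filter.mp hx).2⟩)
      simp only [Subgroup.coe_mul] at this
      rw [mul_assoc, this, inv_mul_cancel_left]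
    rw [e, CfsgLib.Induction.extendByZero_coe]
  rw [hsum, Finset.sum_congr rfl hconst, Finset.sum_const, nsmul_eq_mul]
  have hc : ((univ.filter (· ∈ W₁ ⊔ W₂)).card : ℂ) = (Nat.card ↥(W₁ ⊔ W₂) : ℂ) := by
    rw [Nat.card_eq_fintype_card, Fintype.card_subtype]
  rw [hc, inv_mul_cancel_left₀]
  exact Nat.cast_ne_zero.mpr Nat.card_pos.ne'

theorem TPL.indFun_apply_of_mem [Fintype L] (h : TPL K W₁ W₂) {f : ↥(W₁ ⊔ W₂) → ℂ}
    (hf : ∀ w : ↥(W₁ ⊔ W₂), (w : L) ∈ W₂ → f w = 0) (w : ↥(W₁ ⊔ W₂)) :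
    Cfsg.indFun (W₁ ⊔ W₂) f w = f w := by
  by_cases hw : (w : L) ∈ W₂
  · rw [hf w hw, CfsgLib.Induction.indFun_apply]
    refine mul_eq_zero_of_right _ (Finset.sum_eq_zero fun x _ => ?_)
    by_cases hm : x⁻¹ * (w : L) * x ∈ W₁ ⊔ W₂
    · rw [CfsgLib.Induction.extendByZero_mem _ _ hm]
      refine hf _ (h.mem₂_of_mem hm ?_)
      have := h.normal.conj_mem _ (h.le₂ hw) x⁻¹
      rwa [inv_inv] at this
    · exact CfsgLib.Induction.extendByZero_notMem _ _ hm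
  · exact h.indFun_apply_of_notMem f w hw

/-- a function on `W` orthogonal to all `ψ - φ ψ` vanishes outside `W₂` -/
theorem TPL.vanish [Finite L] [Fintype ↥(W₁ ⊔ W₂)] (h : TPL K W₁ W₂) (f : ↥(W₁ ⊔ W₂) → ℂ)
    (hf : ∀ φ ψ : ↥(W₁ ⊔ W₂) →* ℂˣ, TrivR φ → TrivL ψ →
      Cfsg.classInner f (fun w : ↥(W₁ ⊔ W₂) => (ψ w : ℂ) - ((φ * ψ) w : ℂ)) = 0)
    (w : ↥(W₁ ⊔ W₂)) (hw : (w : L) ∉ W₂) : f w = 0 := by
  haveI := h.cyc₁
  haveI := h.cyc₂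
  let iA : CommGroup W₁ := (h.cyc₁).commGroup
  let iB : CommGroup W₂ := (h.cyc₂).commGroup
  haveI := Fintype.ofFinite W₁
  haveI := Fintype.ofFinite W₂
  let e := MulEquiv.ofBijective _ (ctiMul_bijective h.disj₁₂ h.comm)
  have key : ∀ (g₁ : W₁ →* ℂˣ) (g₂ : W₂ →* ℂˣ),
      ∑ a : W₁, (∑ b : W₂, f (ctiMul h.comm (a, b)) * (g₂ b : ℂ)) * (1 - (g₁ a : ℂ)) = 0 := by
    intro g₁ g₂
    obtain ⟨φ, hφ, hφe⟩ := exists_trivR h.disj₁₂ h.comm g₁⁻¹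
    obtain ⟨ψ, hψ, hψe⟩ := exists_trivL h.disj₁₂ h.comm g₂⁻¹
    have := hf φ ψ hφ hψ
    rw [Cfsg.classInner, mul_eq_zero] at this
    have := this.resolve_left (inv_ne_zero (Nat.cast_ne_zero.mpr Nat.card_pos.ne'))
    rw [← Equiv.sum_comp e.toEquiv, Fintype.sum_prod_type] at this
    rw [← this]
    refine Finset.sum_congr rfl fun a _ => ?_
    rw [Finset.sum_mul]
    refine Finset.sum_congr rfl fun b _ => ?_
    show _ = f (ctiMul h.comm (a, b)) * conj ((ψ (ctiMul h.comm (a, b)) : ℂ) -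
      ((φ * ψ) (ctiMul h.comm (a, b)) : ℂ))
    have ea : φ (ctiL W₁ W₂ a) = g₁⁻¹ a := DFunLike.congr_fun hφe a
    have eb : ψ (ctiR W₁ W₂ b) = g₂⁻¹ b := DFunLike.congr_fun hψe b
    rw [MonoidHom.mul_apply, hφ.apply_mul h.comm, hψ.apply_mul h.comm, ea, eb, Units.val_mul,
      map_sub, map_mul, hom_conj, hom_conj, MonoidHom.inv_apply, MonoidHom.inv_apply,
      MonoidHom.inv_apply, MonoidHom.inv_apply, inv_inv, inv_inv]
    ring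
  obtain ⟨⟨a, b⟩, rfl⟩ := (ctiMul_bijective h.disj₁₂ h.comm).2 w
  have ha : a ≠ 1 := fun e => hw (by simp [e])
  have hG : ∀ g₂ : W₂ →* ℂˣ, ∑ b' : W₂, f (ctiMul h.comm (a, b')) * (g₂ b' : ℂ) = 0 := fun g₂ =>
    dual_vanish (fun a' => ∑ b' : W₂, f (ctiMul h.comm (a', b')) * (g₂ b' : ℂ))
      (fun g₁ => key g₁ g₂) ha
  have hsum0 : ∑ b' : W₂, f (ctiMul h.comm (a, b')) = 0 := by simpa using hG 1
  have hne : ∀ b' : W₂, b' ≠ 1 → f (ctiMul h.comm (a, b')) = 0 := fun b' hb' =>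
    dual_vanish (fun c => f (ctiMul h.comm (a, c))) (fun g₂ => by
      simp only [mul_sub, mul_one, Finset.sum_sub_distrib, hsum0, hG g₂, sub_zero]) hb'
  by_cases hb : b = 1
  · subst hb
    rw [← hsum0, Finset.sum_eq_single (1 : W₂) (fun c _ hc => hne c hc)
      (fun hh => absurd (mem_univ _) hh)]
  · exact hne b hb

variable [Fintype L]

theorem TPL.exists_two_trivL (hW : Cfsg.IsSelfNormalizingCyclic W₁ W₂)
    (hodd : Odd (Nat.card ↥(W₁ ⊔ W₂))) :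
    ∃ ψ ψ' : ↥(W₁ ⊔ W₂) →* ℂˣ, TrivL ψ ∧ TrivL ψ' ∧ ψ ≠ 1 ∧ ψ' ≠ 1 ∧ ψ ≠ ψ' := by
  haveI := finite_linChar hW
  haveI := Fintype.ofFinite (↥(W₁ ⊔ W₂) →* ℂˣ)
  obtain ⟨-, h₂⟩ := three_le_card hW hodd
  have hc : 2 < (univ.filter (fun ψ : ↥(W₁ ⊔ W₂) →* ℂˣ => TrivL ψ)).card := by
    rw [← Fintype.card_subtype, ← Nat.card_eq_fintype_card, card_trivL hW]
    omega
  have : 1 < ((univ.filter (fun ψ : ↥(W₁ ⊔ W₂) →* ℂˣ => TrivL ψ)).erase 1).card := by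
    have := Finset.pred_card_le_card_erase (a := (1 : ↥(W₁ ⊔ W₂) →* ℂˣ))
      (s := univ.filter (fun ψ : ↥(W₁ ⊔ W₂) →* ℂˣ => TrivL ψ))
    omega
  obtain ⟨ψ, hψ, ψ', hψ', hne⟩ := Finset.one_lt_card.mp this
  exact ⟨ψ, ψ', (mem_filter.mp (Finset.mem_of_mem_erase hψ)).2,
    (mem_filter.mp (Finset.mem_of_mem_erase hψ')).2, Finset.ne_of_mem_erase hψ,
    Finset.ne_of_mem_erase hψ', hne⟩

theorem TPL.indFun_sub_trivR (h : TPL K W₁ W₂) (hW : Cfsg.IsSelfNormalizingCyclic W₁ W₂)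
    (hodd : Odd (Nat.card ↥(W₁ ⊔ W₂))) {χ : (↥(W₁ ⊔ W₂) →* ℂˣ) → (L → ℂ)}
    (hχ : Cfsg.IsCyclicTIFamily W₁ W₂ χ) {φ : ↥(W₁ ⊔ W₂) →* ℂˣ} (hφ : TrivR φ) :
    Cfsg.indFun (W₁ ⊔ W₂) (fun w => (1 : ℂ) - (φ w : ℂ)) = χ 1 - χ φ := by
  haveI := Fintype.ofFinite ↥(W₁ ⊔ W₂)
  by_cases hφ1 : φ = 1
  · subst hφ1
    simp [show (fun _ : ↥(W₁ ⊔ W₂) => (0 : ℂ)) = 0 from rfl]
  set g : ↥(W₁ ⊔ W₂) → ℂ := fun w => (1 : ℂ) - (φ w : ℂ) with hg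
  have hg0 : ∀ w : ↥(W₁ ⊔ W₂), (w : L) ∈ W₂ → g w = 0 := fun w hw => by simp [hg, hφ w hw]
  set D := Cfsg.indFun (W₁ ⊔ W₂) g with hD
  have hDc : Cfsg.IsClassFunction L D := CfsgLib.Induction.isClassFunction_indFun _ _
  have hres : (fun w : ↥(W₁ ⊔ W₂) => D w) = g := funext fun w => h.indFun_apply_of_mem hg0 w
  have hgsub : g = (fun w => ((1 : ↥(W₁ ⊔ W₂) →* ℂˣ) w : ℂ)) - fun w => (φ w : ℂ) := by
    funext w; simp [hg]
  have hDD : Cfsg.classInner D D = 2 := by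
    rw [hD, CfsgLib.Induction.classInner_indFun _ _ hDc, hres, hgsub, classInner_sub_left,
      classInner_sub_right, classInner_sub_right, classInner_hom, classInner_hom, classInner_hom,
      classInner_hom, if_pos rfl, if_pos rfl, if_neg hφ1, if_neg (Ne.symm hφ1)]
    norm_num
  have hD1 : Cfsg.classInner D (χ 1) = 1 := by
    rw [hD, CfsgLib.Induction.classInner_indFun _ _ (by rw [hχ.map_one]; exact fun _ _ => rfl),
      hχ.map_one, show (fun _ : ↥(W₁ ⊔ W₂) => (1 : ℂ)) =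
        fun w => ((1 : ↥(W₁ ⊔ W₂) →* ℂˣ) w : ℂ) from by simp, hgsub, classInner_sub_left,
      classInner_hom, classInner_hom, if_pos rfl, if_neg hφ1, sub_zero]
  set s := D - χ 1 with hs
  have hgen : Cfsg.IsGeneralizedCharacter L s := isGeneralizedCharacter_sub
    (CfsgLib.CharArtin.isGeneralizedCharacter_indFun _ (by
      rw [hgsub]
      exact isGeneralizedCharacter_sub
        (isGeneralizedCharacter_irr ⟨_, isIrrCharacter_of_hom (1 : ↥(W₁ ⊔ W₂) →* ℂˣ)⟩)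
        (isGeneralizedCharacter_irr ⟨_, isIrrCharacter_of_hom φ⟩)))
    (family_signed hχ 1).generalized
  have hss : IsSigned s := isSigned_of_norm_one hgen (by
    rw [hs, classInner_sub_left, classInner_sub_right, classInner_sub_right, hDD, hD1,
      classInner_conj_symm D (χ 1), hD1, map_one, hχ.orthonormal, if_pos rfl]
    ring)
  have hdisj := h.disj₁₂
  have hcomm := h.comm
  have key : ∀ ψ, TrivL ψ → ψ ≠ 1 →
      Cfsg.classInner s (χ (φ * ψ)) - Cfsg.classInner s (χ φ) - Cfsg.classInner s (χ ψ) = 1 := by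
    intro ψ hψ hψ1
    have h2 := family_coeff χ hχ (isClassFunction_of_isGeneralizedCharacter hgen) hφ hψ
    have hs1 : Cfsg.classInner s (χ 1) = 0 := by
      rw [hs, classInner_sub_left, hD1, hχ.orthonormal, if_pos rfl, sub_self]
    have e : (fun w : ↥(W₁ ⊔ W₂) => s w) = -fun w : ↥(W₁ ⊔ W₂) => (φ w : ℂ) := by
      funext w
      simp only [hs, Pi.sub_apply, hχ.map_one, Pi.neg_apply]
      rw [congrFun hres w]
      simp [hg]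
    have n1 : φ * ψ ≠ φ := fun e => hψ1 (mul_left_cancel (e.trans (mul_one φ).symm))
    have n2 : φ ≠ ψ := fun e => hφ1 (eq_one_of_trivR_trivL hdisj hcomm hφ (e ▸ hψ))
    rw [hs1, e, classInner_neg_left, ctiAlpha_eq_sum] at h2
    rw [classInner_add_right, classInner_sub_right, classInner_sub_right, classInner_hom,
      classInner_hom, classInner_hom, classInner_hom, if_neg hφ1, if_pos rfl, if_neg n2,
      if_neg (Ne.symm n1)] at h2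
    linear_combination h2
  have huniq : ∀ ω ω', Cfsg.classInner s (χ ω) ≠ 0 → Cfsg.classInner s (χ ω') ≠ 0 → ω = ω' := by
    intro ω ω' hw hw'
    by_contra hne
    have horth : Cfsg.classInner (χ ω) (χ ω') = 0 := by rw [hχ.orthonormal, if_neg hne]
    rcases hss.cases (family_signed hχ ω) with e | e | e
    · exact hw' (by rw [e, horth])
    · exact hw' (by rw [e, classInner_neg_left, horth, neg_zero])
    · exact hw e
  have hne0 : Cfsg.classInner s (χ φ) ≠ 0 := by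
    intro h0
    obtain ⟨ψ, ψ', hψ, hψ', hψ1, hψ'1, hne⟩ := TPL.exists_two_trivL hW hodd
    have : ∀ ψ, TrivL ψ → ψ ≠ 1 → ∃ ν, (ν = φ * ψ ∨ ν = ψ) ∧ Cfsg.classInner s (χ ν) ≠ 0 := by
      intro ψ hψ hψ1
      have := key ψ hψ hψ1
      rw [h0, sub_zero] at this
      by_cases h3 : Cfsg.classInner s (χ (φ * ψ)) = 0
      · refine ⟨ψ, Or.inr rfl, fun h4 => ?_⟩
        rw [h3, h4] at this; norm_num at this
      · exact ⟨_, Or.inl rfl, h3⟩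
    obtain ⟨ν, hν, hν0⟩ := this ψ hψ hψ1
    obtain ⟨ν', hν', hν'0⟩ := this ψ' hψ' hψ'1
    have e := huniq ν ν' hν0 hν'0
    have tR : TrivR (1 : ↥(W₁ ⊔ W₂) →* ℂˣ) := fun _ _ => rfl
    rcases hν with r | r <;> rcases hν' with r' | r' <;> rw [r, r'] at e
    · exact hne (mul_left_cancel e)
    · exact hφ1 (mul_inj_trivR_trivL hdisj hcomm hφ tR hψ hψ' (e.trans (one_mul ψ').symm)).1
    · exact hφ1 (mul_inj_trivR_trivL hdisj hcomm tR hφ hψ hψ' ((one_mul ψ).trans e)).1.symm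
    · exact hne e
  obtain ⟨ψ, -, hψ, -, hψ1, -, -⟩ := TPL.exists_two_trivL hW hodd
  have k1 := key ψ hψ hψ1
  have z1 : Cfsg.classInner s (χ (φ * ψ)) = 0 := by
    by_contra hh
    exact hψ1 (mul_left_cancel ((huniq _ _ hh hne0).trans (mul_one φ).symm))
  have z2 : Cfsg.classInner s (χ ψ) = 0 := by
    by_contra hh
    exact hφ1 (eq_one_of_trivR_trivL hdisj hcomm hφ ((huniq _ _ hne0 hh).symm ▸ hψ))
  have hval : Cfsg.classInner s (χ φ) = -1 := by rw [z1, z2] at k1; linear_combination -k1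
  have hsφ : s = -χ φ := hss.eq_of_inner_eq_one (family_signed hχ φ).neg
    (by rw [classInner_neg_right, hval, neg_neg])
  rw [hs] at hsφ
  rw [sub_eq_iff_eq_add.mp hsφ]
  abel

theorem TPL.indFun_sub (h : TPL K W₁ W₂) (hW : Cfsg.IsSelfNormalizingCyclic W₁ W₂)
    (hodd : Odd (Nat.card ↥(W₁ ⊔ W₂))) {χ : (↥(W₁ ⊔ W₂) →* ℂˣ) → (L → ℂ)}
    (hχ : Cfsg.IsCyclicTIFamily W₁ W₂ χ) {φ ψ : ↥(W₁ ⊔ W₂) →* ℂˣ} (hφ : TrivR φ) (hψ : TrivL ψ) :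
    Cfsg.indFun (W₁ ⊔ W₂) (fun w => (ψ w : ℂ) - ((φ * ψ) w : ℂ)) = χ ψ - χ (φ * ψ) := by
  have h0 := h.indFun_sub_trivR hW hodd hχ hφ
  by_cases hφ1 : φ = 1
  · subst hφ1
    rw [show (1 : ↥(W₁ ⊔ W₂) →* ℂˣ) * ψ = ψ from one_mul ψ]
    simp [show (fun _ : ↥(W₁ ⊔ W₂) => (0 : ℂ)) = 0 from rfl]
  by_cases hψ1 : ψ = 1
  · subst hψ1
    rw [show φ * (1 : ↥(W₁ ⊔ W₂) →* ℂˣ) = φ from mul_one φ]
    simpa using h0
  have e : (fun w : ↥(W₁ ⊔ W₂) => (ψ w : ℂ) - ((φ * ψ) w : ℂ)) =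
      (fun w => (1 : ℂ) - (φ w : ℂ)) - ctiAlpha φ ψ := by
    funext w
    simp [ctiAlpha]
    ring
  rw [e, CfsgLib.Induction.indFun_sub, h0]
  unfold ctiAlpha
  rw [hχ.induced_eq φ ψ hφ1 hψ1 hφ hψ, hχ.map_one]
  funext x
  simp only [Pi.sub_apply]
  ring

theorem TPL.indFun_sub_agree (h : TPL K W₁ W₂) (hW : Cfsg.IsSelfNormalizingCyclic W₁ W₂)
    (hodd : Odd (Nat.card ↥(W₁ ⊔ W₂))) {χ : (↥(W₁ ⊔ W₂) →* ℂˣ) → (L → ℂ)}
    (hχ : Cfsg.IsCyclicTIFamily W₁ W₂ χ) {ω ω' : ↥(W₁ ⊔ W₂) →* ℂˣ}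
    (hag : ∀ w : ↥(W₁ ⊔ W₂), (w : L) ∈ W₂ → ω w = ω' w) :
    Cfsg.indFun (W₁ ⊔ W₂) (fun w => (ω w : ℂ) - (ω' w : ℂ)) = χ ω - χ ω' := by
  obtain ⟨φ, ψ, hφ, hψ, rfl⟩ := exists_trivR_mul_trivL h.disj₁₂ h.comm ω
  obtain ⟨φ', ψ', hφ', hψ', rfl⟩ := exists_trivR_mul_trivL h.disj₁₂ h.comm ω'
  have hpp : ψ = ψ' := trivL_ext h.disj₁₂ h.comm hψ hψ' (MonoidHom.ext fun b => by
    have := hag (ctiR W₁ W₂ b) b.2
    simpa [MonoidHom.mul_apply, hφ (ctiR W₁ W₂ b) b.2, hφ' (ctiR W₁ W₂ b) b.2] using this)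
  subst hpp
  have e : (fun w : ↥(W₁ ⊔ W₂) => ((φ * ψ) w : ℂ) - ((φ' * ψ) w : ℂ)) =
      (fun w => (ψ w : ℂ) - ((φ' * ψ) w : ℂ)) - fun w => (ψ w : ℂ) - ((φ * ψ) w : ℂ) := by
    funext w; simp only [Pi.sub_apply]; ring
  rw [e, CfsgLib.Induction.indFun_sub, h.indFun_sub hW hodd hχ hφ' hψ,
    h.indFun_sub hW hodd hχ hφ hψ]
  abel

theorem TPL.family_value (h : TPL K W₁ W₂) (hW : Cfsg.IsSelfNormalizingCyclic W₁ W₂)
    (hodd : Odd (Nat.card ↥(W₁ ⊔ W₂))) {χ : (↥(W₁ ⊔ W₂) →* ℂˣ) → (L → ℂ)}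
    (hχ : Cfsg.IsCyclicTIFamily W₁ W₂ χ) (ω : ↥(W₁ ⊔ W₂) →* ℂˣ) (w : ↥(W₁ ⊔ W₂))
    (hw : (w : L) ∉ W₂) : χ ω w = (ω w : ℂ) := by
  haveI := Fintype.ofFinite ↥(W₁ ⊔ W₂)
  have hcl : Cfsg.IsClassFunction L (χ ω) := (family_signed hχ ω).classFunction
  refine sub_eq_zero.mp (h.vanish ((fun v : ↥(W₁ ⊔ W₂) => χ ω v) - fun v => (ω v : ℂ)) ?_ w hw)
  intro φ ψ hφ hψ
  rw [classInner_sub_left, ← CfsgLib.Induction.classInner_indFun_right _ _ hcl,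
    h.indFun_sub hW hodd hχ hφ hψ, classInner_sub_right, hχ.orthonormal, hχ.orthonormal,
    show (fun w : ↥(W₁ ⊔ W₂) => (ψ w : ℂ) - ((φ * ψ) w : ℂ)) =
      (fun w => (ψ w : ℂ)) - fun w => ((φ * ψ) w : ℂ) from rfl,
    classInner_sub_right, classInner_hom, classInner_hom]
  split_ifs <;> ring

theorem TPL.vanish_of_notMem_family (h : TPL K W₁ W₂) (hW : Cfsg.IsSelfNormalizingCyclic W₁ W₂)
    (hodd : Odd (Nat.card ↥(W₁ ⊔ W₂))) {χ : (↥(W₁ ⊔ W₂) →* ℂˣ) → (L → ℂ)}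
    (hχ : Cfsg.IsCyclicTIFamily W₁ W₂ χ) {θ : L → ℂ} (hθ : Cfsg.IsClassFunction L θ)
    (horth : ∀ ω, Cfsg.classInner θ (χ ω) = 0) (w : ↥(W₁ ⊔ W₂)) (hw : (w : L) ∉ W₂) :
    θ w = 0 := by
  haveI := Fintype.ofFinite ↥(W₁ ⊔ W₂)
  refine h.vanish (fun v : ↥(W₁ ⊔ W₂) => θ v) ?_ w hw
  intro φ ψ hφ hψ
  rw [← CfsgLib.Induction.classInner_indFun_right _ _ hθ, h.indFun_sub hW hodd hχ hφ hψ,
    classInner_sub_right, horth, horth, sub_self]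

theorem TPL.degree_cong (h : TPL K W₁ W₂) (hW : Cfsg.IsSelfNormalizingCyclic W₁ W₂)
    (hodd : Odd (Nat.card ↥(W₁ ⊔ W₂))) {χ : (↥(W₁ ⊔ W₂) →* ℂˣ) → (L → ℂ)}
    (hχ : Cfsg.IsCyclicTIFamily W₁ W₂ χ) (ω : ↥(W₁ ⊔ W₂) →* ℂˣ) :
    ∃ n : ℤ, χ ω 1 - 1 = n * (Nat.card W₁ : ℂ) := by
  haveI := Fintype.ofFinite W₁
  set ξ : W₁ →* ℂˣ := ω.comp (ctiL W₁ W₂) with hξ
  have hgen : Cfsg.IsGeneralizedCharacter W₁ ((fun a : W₁ => χ ω a) - fun a => (ξ a : ℂ)) := by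
    refine isGeneralizedCharacter_sub ?_ (isGeneralizedCharacter_irr ⟨_, isIrrCharacter_of_hom ξ⟩)
    obtain ⟨a, b, ha, hb, e⟩ := (family_signed hχ ω).generalized
    exact ⟨_, _, CfsgLib.Clifford.isCharacter_subtype ha W₁,
      CfsgLib.Clifford.isCharacter_subtype hb W₁, by rw [e]; rfl⟩
  obtain ⟨n, hn⟩ := classInner_generalized_int hgen isGeneralizedCharacter_one
  refine ⟨n, ?_⟩
  have hs : ∀ a : W₁, a ≠ 1 → χ ω a - (ξ a : ℂ) = 0 := by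
    intro a ha
    have hm : ((ctiL W₁ W₂ a : ↥(W₁ ⊔ W₂)) : L) ∉ W₂ := fun hh => ha (Subtype.ext
      (Subgroup.mem_bot.mp (h.disj₁₂.le ⟨a.2, hh⟩)))
    exact sub_eq_zero.mpr (h.family_value hW hodd hχ ω (ctiL W₁ W₂ a) hm)
  rw [Cfsg.classInner, Finset.sum_eq_single (1 : W₁)
    (fun a _ ha => by simp [hs a ha]) (fun hh => absurd (mem_univ _) hh)] at hn
  simp only [Pi.sub_apply, map_one, Units.val_one, Pi.one_apply, mul_one, OneMemClass.coe_one] at hn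
  rw [← hn, mul_comm, mul_inv_cancel_left₀ (Nat.cast_ne_zero.mpr Nat.card_pos.ne')]

end CfsgLib.OddChar
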