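import Cfsg.Agent.Lib.OddChar.FixedIrr
import Cfsg.Agent.Lib.OddChar.CoprimeCoset
import Cfsg.Agent.Lib.OddChar.OrthProj
import Cfsg.Agent.Lib.Characters.Clifford
import Cfsg.Agent.Lib.Characters.Extension
import Cfsg.Agent.Lib.Characters.LinearTwist

set_option autoImplicit false
set_option linter.style.haveILetI false

/-! Characters of a normal subgroup with a cyclic Hall complement all of whose non-identity
elements have the same cyclic centraliser in it. -/

namespace CfsgLib.OddChar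

open scoped Classical
open Finset CfsgLib.Characters CfsgLib.Clifford CfsgLib.LinearTwist

universe u

variable {L : Type u} [Group L]

/-- `L = K W₁` with `W₁` cyclic Hall and `C_K(x) = W₂` cyclic for all non-identity `x ∈ W₁` -/
structure TPL (K W₁ W₂ : Subgroup L) : Prop where
  normal : K.Normal
  disj : K ⊓ W₁ = ⊥
  top : K ⊔ W₁ = ⊤
  ne₁ : W₁ ≠ ⊥
  cyc₁ : IsCyclic W₁
  hall : Nat.Coprime (Nat.card W₁) W₁.index
  cyc₂ : IsCyclic W₂
  le₂ : W₂ ≤ K
  cent : ∀ x ∈ W₁, x ≠ 1 → K ⊓ Subgroup.centralizer ({x} : Set L) = W₂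

variable {K W₁ W₂ : Subgroup L}

theorem TPL.index_eq (h : TPL K W₁ W₂) : W₁.index = Nat.card K := by
  haveI := h.normal
  exact (Subgroup.isComplement'_of_disjoint_and_mul_eq_univ (disjoint_iff.mpr h.disj)
    (by rw [← Subgroup.normal_mul, h.top, Subgroup.coe_top])).index_eq_card

theorem TPL.coprime [Finite L] (h : TPL K W₁ W₂) {x : L} (hx : x ∈ W₁) :
    Nat.Coprime (orderOf x) (Nat.card K) :=
  (h.index_eq ▸ h.hall).coprime_dvd_left (W₁.orderOf_dvd_natCard hx)

theorem TPL.comm₂ (h : TPL K W₁ W₂) {a b : L} (ha : a ∈ W₂) (hb : b ∈ W₂) : a * b = b * a := by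
  haveI := h.cyc₂
  exact congrArg Subtype.val (IsMulCommutative.is_comm.comm (⟨a, ha⟩ : W₂) ⟨b, hb⟩)

theorem TPL.mem₂ (h : TPL K W₁ W₂) {x c : L} (hx : x ∈ W₁) (hx1 : x ≠ 1) (hc : c ∈ K)
    (hcx : Commute c x) : c ∈ W₂ :=
  (h.cent x hx hx1).le ⟨hc, Subgroup.mem_centralizer_singleton_iff.mpr hcx⟩

theorem TPL.commute₂ (h : TPL K W₁ W₂) {x c : L} (hx : x ∈ W₁) (hx1 : x ≠ 1) (hc : c ∈ W₂) :
    Commute c x :=
  Subgroup.mem_centralizer_singleton_iff.mp ((h.cent x hx hx1).ge hc).2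

/-- `W₂` has at most one element in each `K`-class -/
theorem TPL.class_inj [Finite L] (h : TPL K W₁ W₂) {k w w' : L} (hk : k ∈ K) (hw : w ∈ W₂)
    (hw' : w' ∈ W₂) (e : k * w * k⁻¹ = w') : w' = w := by
  haveI := (Subgroup.nontrivial_iff_ne_bot _).mpr h.ne₁
  obtain ⟨⟨x, hx⟩, hx1⟩ := exists_ne (1 : W₁)
  replace hx1 : x ≠ 1 := fun e => hx1 (Subtype.ext e)
  haveI := h.normal
  set M := Subgroup.centralizer ({w} : Set L) with hM
  set y := k⁻¹ * x * k with hy
  have hxM : x ∈ M := Subgroup.mem_centralizer_singleton_iff.mpr (h.commute₂ hx hx1 hw).symm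
  have hyw : y * w = w * y := by
    have c := (h.commute₂ hx hx1 hw').eq
    rw [← e] at c
    calc y * w = k⁻¹ * (x * (k * w * k⁻¹)) * k := by rw [hy]; group
      _ = _ := by rw [← c, hy]; group
  have hyM : y ∈ M := Subgroup.mem_centralizer_singleton_iff.mpr hyw
  have hyK : y * x⁻¹ ∈ K := by
    have : y * x⁻¹ = k⁻¹ * (x * k * x⁻¹) := by rw [hy]; group
    rw [this]
    exact K.mul_mem (K.inv_mem hk) (h.normal.conj_mem k hk x)
  have hcardK : Nat.card (K.subgroupOf M) ∣ Nat.card K := by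
    rw [show Nat.card (K.subgroupOf M) = Nat.card ((K.subgroupOf M).map M.subtype) from
      (Subgroup.card_map_of_injective M.subtype_injective).symm, Subgroup.subgroupOf_map_subtype]
    exact Subgroup.card_dvd_of_le inf_le_left
  have hord : orderOf (⟨x, hxM⟩ : M) = orderOf x := (Subgroup.orderOf_coe _).symm
  obtain ⟨d, hd, c, hc, hcx, he⟩ := coset_conj_centralizer (K.subgroupOf M) (⟨x, hxM⟩ : M)
    ((hord ▸ h.coprime hx).coprime_dvd_right hcardK) (y := ⟨y, hyM⟩) (Subgroup.mem_subgroupOf.mpr hyK)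
  have hcx' : Commute (c : L) x := congrArg Subtype.val hcx
  have he' : y = d * ((c : L) * x) * (d : L)⁻¹ := congrArg Subtype.val he
  have hco : (orderOf (c : L)).Coprime (orderOf x) :=
    ((h.coprime hx).coprime_dvd_right (K.orderOf_dvd_natCard (Subgroup.mem_subgroupOf.mp hc))).symm
  have ho : orderOf ((c : L) * x) = orderOf x := by
    have hconj : ∀ g z : L, orderOf (g * z * g⁻¹) = orderOf z := fun g z =>
      MulEquiv.orderOf_eq (MulAut.conj g) z
    have e1 : orderOf y = orderOf x := by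
      have := hconj k⁻¹ x
      rwa [inv_inv] at this
    rw [← hconj (d : L), ← he', e1]
  have hc1 : (c : L) = 1 := by
    rw [hcx'.orderOf_mul_eq_mul_orderOf_of_coprime hco] at ho
    exact orderOf_eq_one_iff.mp (mul_eq_right₀ (orderOf_pos x).ne' |>.mp ho)
  rw [hc1, one_mul] at he'
  have hkd : Commute (k * (d : L)) x := by
    show k * d * x = x * (k * d)
    calc k * (d : L) * x = k * (d * x * (d : L)⁻¹) * d := by group
      _ = _ := by rw [← he', hy]; group
  have hmem := h.mem₂ hx hx1 (K.mul_mem hk (Subgroup.mem_subgroupOf.mp hd)) hkd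
  have hdw : (d : L) * w = w * d := Subgroup.mem_centralizer_singleton_iff.mp d.2
  calc w' = k * (w * (d : L)) * (d : L)⁻¹ * k⁻¹ := by rw [← e]; group
    _ = (k * d) * w * (k * d)⁻¹ := by rw [← hdw]; group
    _ = w := by rw [h.comm₂ hmem hw]; group

/-- the classes of `K` fixed by a non-identity element of `W₁` correspond to `W₂` -/
theorem TPL.card_fixed_classes [Finite L] (h : TPL K W₁ W₂) {x : L} (hx : x ∈ W₁) (hx1 : x ≠ 1) :
    Nat.card {c : ConjClasses K // ∀ k : K, ConjClasses.mk k = c →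
      ConjClasses.mk (⟨x * k * x⁻¹, h.normal.conj_mem k k.2 x⟩ : K) = c} = Nat.card W₂ := by
  refine (Nat.card_congr (Equiv.ofBijective
    (fun w : W₂ => (⟨ConjClasses.mk ⟨(w : L), h.le₂ w.2⟩, ?_⟩ :
      {c : ConjClasses K // ∀ k : K, ConjClasses.mk k = c →
        ConjClasses.mk (⟨x * k * x⁻¹, h.normal.conj_mem k k.2 x⟩ : K) = c})) ⟨?_, ?_⟩)).symm
  · intro k hk
    obtain ⟨a, ha⟩ := isConj_iff.mp (ConjClasses.mk_eq_mk_iff_isConj.mp hk)
    refine ConjClasses.mk_eq_mk_iff_isConj.mpr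
      (isConj_iff.mpr ⟨⟨x * a * x⁻¹, h.normal.conj_mem a a.2 x⟩, Subtype.ext ?_⟩)
    have e : (a : L) * k * (a : L)⁻¹ = (w : L) := congrArg Subtype.val ha
    have c := (h.commute₂ hx hx1 w.2).eq
    simp only [Subgroup.coe_mul, Subgroup.coe_inv]
    calc _ = x * ((a : L) * k * (a : L)⁻¹) * x⁻¹ := by group
      _ = _ := by rw [e, ← c]; group
  · intro w w' e
    obtain ⟨a, ha⟩ := isConj_iff.mp
      (ConjClasses.mk_eq_mk_iff_isConj.mp (congrArg Subtype.val e))
    exact Subtype.ext (h.class_inj a.2 w.2 w'.2 (congrArg Subtype.val ha)).symm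
  · rintro ⟨c, hc⟩
    obtain ⟨k, rfl⟩ := ConjClasses.exists_rep c
    obtain ⟨a, ha⟩ := isConj_iff.mp (ConjClasses.mk_eq_mk_iff_isConj.mp (hc k rfl))
    have e : (a : L) * (x * k * x⁻¹) * (a : L)⁻¹ = k := congrArg Subtype.val ha
    haveI := h.normal
    obtain ⟨b, hb, hbx⟩ := centralizing_coset_meets K x (h.coprime hx) (y := (a : L) * x)
      (h := (k : L)) (by rw [mul_inv_cancel_right]; exact a.2) k.2 (by
        show (a : L) * x * k = k * ((a : L) * x)
        conv_rhs => rw [← e]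
        group)
    have hw : b⁻¹ * (k : L) * b ∈ W₂ :=
      h.mem₂ hx hx1 (K.mul_mem (K.mul_mem (K.inv_mem hb) k.2) hb) hbx.symm
    refine ⟨⟨_, hw⟩, Subtype.ext (ConjClasses.mk_eq_mk_iff_isConj.mpr
      (isConj_iff.mpr ⟨⟨b, hb⟩, Subtype.ext ?_⟩))⟩
    simp only [Subgroup.coe_mul, Subgroup.coe_inv]
    group

theorem TPL.card_fixed [Finite L] (h : TPL K W₁ W₂) {x : L} (hx : x ∈ W₁) (hx1 : x ≠ 1) :
    Nat.card {χ : Cfsg.IrrCharacter K //
      conjChar h.normal (χ : K → ℂ) x = (χ : K → ℂ)} = Nat.card W₂ := by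
  haveI := h.normal
  rw [← h.card_fixed_classes hx hx1, ← card_fixed_irr_conj K x]
  exact Nat.card_congr (Equiv.subtypeEquivRight fun χ =>
    ⟨fun e k => congrFun e k, fun e => funext e⟩)

/-- a character fixed by one non-identity element of `W₁` is fixed by all -/
theorem TPL.fixed_all [Fintype L] [Fintype K] (h : TPL K W₁ W₂) {θ : K → ℂ}
    (hθ : Cfsg.IsIrrCharacter K θ) {y : L} (hy : y ∈ W₁) (hy1 : y ≠ 1)
    (hfix : conjChar h.normal θ y = θ) {x : L} (hx : x ∈ W₁) : conjChar h.normal θ x = θ := by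
  obtain ⟨⟨g, hg⟩, hgen⟩ := h.cyc₁.exists_generator
  have hle : W₁ ≤ Subgroup.zpowers g := fun z hz => by
    obtain ⟨i, hi⟩ := Subgroup.mem_zpowers_iff.mp (hgen ⟨z, hz⟩)
    exact Subgroup.mem_zpowers_iff.mpr ⟨i, congrArg Subtype.val hi⟩
  have hall : ∀ φ : K → ℂ, conjChar h.normal φ g = φ →
      ∀ z ∈ W₁, conjChar h.normal φ z = φ := fun φ hφ z hz =>
    (Subgroup.zpowers_le.mpr (show g ∈ inertia h.normal φ from hφ) : Subgroup.zpowers g ≤ _) (hle hz)
  have hg1 : g ≠ 1 := by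
    rintro rfl
    exact hy1 (by simpa [Subgroup.zpowers_one_eq_bot] using hle hy)
  refine hall θ ?_ x hx
  let f : {χ : Cfsg.IrrCharacter K // conjChar h.normal (χ : K → ℂ) g = (χ : K → ℂ)} →
      {χ : Cfsg.IrrCharacter K // conjChar h.normal (χ : K → ℂ) y = (χ : K → ℂ)} :=
    fun χ => ⟨χ.1, hall _ χ.2 y hy⟩
  have hinj : Function.Injective f := fun a b e =>
    Subtype.ext (show (f a).1 = (f b).1 from congrArg Subtype.val e)
  have hsurj := ((Nat.bijective_iff_injective_and_card f).mpr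
    ⟨hinj, by rw [h.card_fixed hg hg1, h.card_fixed hy hy1]⟩).2
  obtain ⟨χ, hχ⟩ := hsurj ⟨⟨θ, hθ⟩, hfix⟩
  have e : (χ.1 : K → ℂ) = θ := congrArg (fun z => (z.1 : K → ℂ)) hχ
  rw [← e]
  exact χ.2

theorem TPL.induced_irr [Fintype L] [Fintype K] (h : TPL K W₁ W₂) {θ : K → ℂ}
    (hθ : Cfsg.IsIrrCharacter K θ) (hmov : ∃ x ∈ W₁, conjChar h.normal θ x ≠ θ) :
    Cfsg.IsIrrCharacter L (Cfsg.indFun K θ) := by
  obtain ⟨x, hx, hne⟩ := hmov
  have hcl := isClassFunction_of_isCharacter (isCharacter_of_irr hθ)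
  refine isIrr_of_norm_one (CfsgLib.Induction.isCharacter_indFun K (isCharacter_of_irr hθ)) ?_
  rw [classInner_indFun_indFun h.normal hcl]
  have key : ∀ g : L, Cfsg.classInner θ (conjChar h.normal θ g) = if g ∈ K then 1 else 0 := by
    intro g
    by_cases hg : g ∈ K
    · rw [if_pos hg, show conjChar h.normal θ g = θ from le_inertia h.normal hcl hg,
        classInner_irr_self hθ]
    · rw [if_neg hg]
      refine classInner_irr_ne hθ (isIrrCharacter_conjChar h.normal hθ g) fun e => hne ?_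
      haveI := h.normal
      obtain ⟨k, hk, w, hw, rfl⟩ := Subgroup.mem_sup_of_normal_left.mp (h.top.ge (Subgroup.mem_top g))
      have hw1 : w ≠ 1 := by rintro rfl; exact hg (by simpa using hk)
      refine h.fixed_all hθ hw hw1 ?_ hx
      have : k * w ∈ inertia h.normal θ := e.symm
      have h2 := (inertia h.normal θ).mul_mem
        ((inertia h.normal θ).inv_mem (le_inertia h.normal hcl hk)) this
      rwa [inv_mul_cancel_left] at h2
  rw [Finset.sum_congr rfl fun g _ => key g, Finset.sum_boole]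
  have hc : ((univ.filter (· ∈ K)).card : ℂ) = (Nat.card K : ℂ) := by
    rw [Nat.card_eq_fintype_card, Fintype.card_subtype]
  rw [hc, inv_mul_cancel₀ (Nat.cast_ne_zero.mpr Nat.card_pos.ne')]

theorem TPL.quot_cyclic (h : TPL K W₁ W₂) [K.Normal] :
    IsCyclic (L ⧸ K) ∧ K.index = Nat.card W₁ := by
  haveI := h.cyc₁
  let q : W₁ →* L ⧸ K := (QuotientGroup.mk' K).comp W₁.subtype
  have hb : Function.Bijective q := by
    refine ⟨fun a b e => ?_, fun c => ?_⟩
    · have : ((a : L))⁻¹ * b ∈ K ⊓ W₁ :=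
        ⟨QuotientGroup.eq.mp e, W₁.mul_mem (W₁.inv_mem a.2) b.2⟩
      rw [h.disj, Subgroup.mem_bot, inv_mul_eq_one] at this
      exact Subtype.ext this
    · obtain ⟨g, rfl⟩ := QuotientGroup.mk_surjective c
      obtain ⟨k, hk, w, hw, rfl⟩ := Subgroup.mem_sup_of_normal_left.mp (h.top.ge (Subgroup.mem_top g))
      exact ⟨⟨w, hw⟩, QuotientGroup.eq.mpr (by
        have := Subgroup.Normal.conj_mem (inferInstance : K.Normal) k hk (w⁻¹ : L)
        simpa [mul_assoc] using this)⟩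
  exact ⟨isCyclic_of_surjective q hb.2,
    (Nat.card_congr (Equiv.ofBijective q hb)).symm⟩

theorem TPL.induced_sum [Fintype L] [Fintype K] (h : TPL K W₁ W₂) {θ : K → ℂ}
    (hθ : Cfsg.IsIrrCharacter K θ) (hinv : ∀ x ∈ W₁, conjChar h.normal θ x = θ) :
    ∃ C : Finset (L → ℂ), C.card = Nat.card W₁ ∧ (∀ μ ∈ C, Cfsg.IsIrrCharacter L μ) ∧
      Cfsg.indFun K θ = ∑ μ ∈ C, μ ∧ ∀ μ ∈ C, (fun k : K => μ k) = θ := by
  haveI := h.normal
  have hcl := isClassFunction_of_isCharacter (isCharacter_of_irr hθ)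
  have hall : ∀ g : L, conjChar h.normal θ g = θ := by
    intro g
    obtain ⟨k, hk, w, hw, rfl⟩ := Subgroup.mem_sup_of_normal_left.mp (h.top.ge (Subgroup.mem_top g))
    exact (inertia h.normal θ).mul_mem (le_inertia h.normal hcl hk) (hinv w hw)
  obtain ⟨hcyc, hidx⟩ := h.quot_cyclic
  obtain ⟨χ, hχ, hres⟩ := CfsgLib.CharExtension.extends_of_isCyclic K hθ
    (fun g n => congrFun (hall g) n)
  let iQ : CommGroup (L ⧸ K) := hcyc.commGroup
  haveI : Finite ((L ⧸ K) →* ℂˣ) := Finite.of_equiv _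
    (CommGroup.monoidHom_mulEquiv_of_hasEnoughRootsOfUnity (L ⧸ K) ℂ).some.symm.toEquiv
  haveI := Fintype.ofFinite ((L ⧸ K) →* ℂˣ)
  let tw : ((L ⧸ K) →* ℂˣ) → (L → ℂ) :=
    fun f g => χ g * ((f.comp (QuotientGroup.mk' K)) g : ℂ)
  have htwk : ∀ f (k : K), tw f k = θ k := by
    intro f k
    have : ((k : L) : L ⧸ K) = 1 := (QuotientGroup.eq_one_iff _).mpr k.2
    simp [tw, hres k, this]
  have hinj : Function.Injective tw := by
    intro f f' e
    have hθ' : Cfsg.IsIrrCharacter K (fun n : K => χ n) :=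
      (funext hres : (fun n : K => χ n) = θ).symm ▸ hθ
    have := hom_eq_of_mul_eq K (isCharacter_of_irr hχ) hθ'
      (f.comp (QuotientGroup.mk' K)) (f'.comp (QuotientGroup.mk' K)) (fun n => by
        have : ((n : L) : L ⧸ K) = 1 := (QuotientGroup.eq_one_iff _).mpr n.2
        simp [this]) (fun g => congrFun e g)
    exact MonoidHom.ext fun c => QuotientGroup.induction_on c fun g => DFunLike.congr_fun this g
  set C : Finset (L → ℂ) := Finset.univ.image tw with hC
  have hCirr : ∀ μ ∈ C, Cfsg.IsIrrCharacter L μ := by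
    intro μ hμ
    obtain ⟨f, -, rfl⟩ := Finset.mem_image.mp hμ
    exact isIrr_mul_hom hχ _
  have hCres : ∀ μ ∈ C, (fun k : K => μ k) = θ := by
    intro μ hμ
    obtain ⟨f, -, rfl⟩ := Finset.mem_image.mp hμ
    exact funext (htwk f)
  have hcard : C.card = Nat.card W₁ := by
    rw [hC, Finset.card_image_of_injective _ hinj, Finset.card_univ, ← Nat.card_eq_fintype_card,
      CommGroup.card_monoidHom_of_hasEnoughRootsOfUnity]
    exact hidx
  refine ⟨C, hcard, hCirr, ?_, hCres⟩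
  set P := Cfsg.indFun K θ with hP
  set S := ∑ μ ∈ C, μ with hS
  have hPP : Cfsg.classInner P P = (Nat.card W₁ : ℂ) := by
    rw [hP, classInner_indFun_indFun h.normal hcl]
    simp only [hall, classInner_irr_self hθ, Finset.sum_const, Finset.card_univ, nsmul_eq_mul,
      mul_one]
    have : (Fintype.card L : ℂ) = (Nat.card W₁ : ℂ) * (Nat.card K : ℂ) := by
      rw [← Nat.card_eq_fintype_card, ← hidx, mul_comm (K.index : ℂ)]
      exact_mod_cast K.card_mul_index.symm
    rw [this, mul_comm, mul_assoc, mul_inv_cancel₀ (Nat.cast_ne_zero.mpr Nat.card_pos.ne'), mul_one]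
  have hPμ : ∀ μ ∈ C, Cfsg.classInner P μ = 1 := by
    intro μ hμ
    rw [hP, CfsgLib.Induction.classInner_indFun K θ
      (isClassFunction_of_isCharacter (isCharacter_of_irr (hCirr μ hμ))), hCres μ hμ,
      classInner_irr_self hθ]
  have hPS : Cfsg.classInner P S = (Nat.card W₁ : ℂ) := by
    rw [hS, classInner_sum_right, Finset.sum_congr rfl hPμ]
    simp [hcard]
  have hSS : Cfsg.classInner S S = (Nat.card W₁ : ℂ) := by
    rw [hS, classInner_sum_left]
    have : ∀ μ ∈ C, Cfsg.classInner μ (∑ ν ∈ C, ν) = 1 := by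
      intro μ hμ
      rw [classInner_sum_right, Finset.sum_eq_single μ
        (fun ν hν hne => classInner_irr_ne (hCirr μ hμ) (hCirr ν hν) hne.symm)
        (fun hh => absurd hμ hh), classInner_irr_self (hCirr μ hμ)]
    rw [Finset.sum_congr rfl this]
    simp [hcard]
  refine sub_eq_zero.mp (eq_zero_of_classInner_self ?_)
  rw [classInner_sub_left, classInner_sub_right, classInner_sub_right, hPP, hPS, hSS,
    classInner_conj_symm P S, hPS, map_natCast]
  ring

end CfsgLib.OddChar
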